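import Mathlib
import Cfsg.Agent.Lib.OddBase.Layer

/-!
# Two vectors for semilinear groups normalizing a layer: the setting

`Heis ρ K N` says that the normal subgroup `N` acts linearly, contains all scalars, has scalar
commutators and only scalars commute with it.
-/

set_option autoImplicit false

namespace CfsgLib.PairBase

open CfsgLib.OddBase

universe u

variable {G V : Type u} [Group G] [AddCommGroup V]

/-- A Heisenberg-type normal subgroup for a semilinear group. -/
structure Heis (ρ : G →* AddMonoid.End V) (K : Type u) [Field K] [Module K V] (N : Subgroup G) :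
    Prop where
  normal : N.Normal
  lin : ∀ n ∈ N, ∀ (r : K) (v : V), ρ n (r • v) = r • ρ n v
  semi : ∀ g, ∃ f : K →* K, ∀ (r : K) (v : V), ρ g (r • v) = f r • ρ g v
  scalar : ∀ r : K, r ≠ 0 → ∃ n ∈ N, ∀ v : V, ρ n v = r • v
  comm : ∀ m ∈ N, ∀ n ∈ N, ∃ r : K, ∀ v : V, ρ (m * n) v = r • ρ (n * m) v
  cent : ∀ T : V →ₗ[K] V, (∀ n ∈ N, ∀ v : V, T (ρ n v) = ρ n (T v)) → ∃ r : K, ∀ v, T v = r • v

/-- The vector is fixed by no non-trivial element of `N`. -/
def Regular (ρ : G →* AddMonoid.End V) (N : Subgroup G) (a : V) : Prop :=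
  ∀ n ∈ N, ρ n a = a → ρ n = 1

/-- The pair has common stabilizer the kernel. -/
def IsPair (ρ : G →* AddMonoid.End V) (a b : V) : Prop :=
  ∀ g, ρ g a = a → ρ g b = b → ρ g = 1

/-- The common stabilizer of `a`, `b` and the orbit of `c` is the kernel, and the orbits of `b`
and `c` differ. -/
def IsTriple (ρ : G →* AddMonoid.End V) (N : Subgroup G) (a b c : V) : Prop :=
  Regular ρ N a ∧ Regular ρ N c ∧ (∀ n ∈ N, ρ n b ≠ c) ∧
    ∀ g, ρ g a = a → ρ g b = b → ∀ n ∈ N, ρ g c = ρ n c → ρ g = 1

end CfsgLib.PairBase
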