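import Cfsg.Agent.Lib.PairBase.Split

/-!
# The inductive step: from a base on an eigenspace to a base on the whole space
-/

set_option autoImplicit false
set_option linter.unusedSectionVars false
set_option linter.style.haveILetI false

namespace CfsgLib.PairBase

open CfsgLib.OddBase

universe u

variable {G V : Type u} [Group G] [AddCommGroup V]
variable {K : Type u} [Field K] [Module K V]
variable {ρ : G →* AddMonoid.End V} {N : Subgroup G}

theorem Heis.fix_factor (H : Heis ρ K N) {g : G} {v : V} (hv : v ≠ 0)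
    (hfix : ∀ c : K, ρ g (c • v) = c • v) : ∀ (c : K) (w : V), ρ g (c • w) = c • ρ g w := by
  obtain ⟨φ, hφ⟩ := H.semi g
  intro c w
  have h1 := hfix c
  have h2 := hfix 1
  rw [one_smul] at h2
  rw [hφ, h2] at h1
  rw [hφ, smul_left_injective K hv h1]

theorem Heis.factor_zero (H : Heis ρ K N) {g : G} {v : V} (hv : v ≠ 0) {φ : K →* K}
    (hφ : ∀ (r : K) (w : V), ρ g (r • w) = φ r • ρ g w) : φ 0 = 0 := by
  have h := hφ 0 v
  rw [zero_smul, map_zero, eq_comm, smul_eq_zero] at h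
  exact h.resolve_right fun h' => hv (rho_injective ρ g (h'.trans (map_zero _).symm))

namespace Split

variable (S : Split ρ K N)

/-- The scalar multiplication on the fixed space. -/
@[reducible] def mod0 (H : Heis ρ K N) : Module K S.V0 where
  smul c v := ⟨c • (v : V), S.smul_mem H v.2 c⟩
  one_smul v := Subtype.ext (one_smul K (v : V))
  mul_smul c d v := Subtype.ext (mul_smul c d (v : V))
  smul_zero c := Subtype.ext (smul_zero c)
  smul_add c v w := Subtype.ext (smul_add c (v : V) (w : V))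
  add_smul c d v := Subtype.ext (add_smul c d (v : V))
  zero_smul v := Subtype.ext (zero_smul K (v : V))

theorem eig_h_pow_zero (H : Heis ρ K N) {i k : ℕ} {v : V} (hv : v ∈ S.V0) :
    letI := Classical.decEq K
    S.proj k (ρ (S.h ^ i) v) = if S.ω ^ i = S.ω ^ k then ρ (S.h ^ i) v else 0 := by
  classical
  exact S.proj_eig H (S.eig_h_pow H hv i)

/-- The translates of the fixed space give the whole space. -/
theorem card_pow [Finite V] (H : Heis ρ K N) : Nat.card V = Nat.card S.V0 ^ S.r := by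
  classical
  let F : (Fin S.r → S.V0) → V := fun w => ∑ i : Fin S.r, ρ (S.h ^ (i : ℕ)) (w i : V)
  let B : V → (Fin S.r → S.V0) := fun v i =>
    ⟨ρ (S.h ^ (i : ℕ))⁻¹ (S.proj i v), S.back_mem H (S.eig_proj H i v)⟩
  have hFB : ∀ v, F (B v) = v := fun v => by
    simp only [F, B, rho_apply_inv]
    rw [Fin.sum_univ_eq_sum_range (fun i => S.proj i v)]
    exact S.sum_proj H v
  have hBF : ∀ w, B (F w) = w := fun w => funext fun k => Subtype.ext (by
    simp only [F, B]
    rw [show S.proj k (∑ i : Fin S.r, ρ (S.h ^ (i : ℕ)) (w i : V)) =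
        ∑ i : Fin S.r, S.proj k (ρ (S.h ^ (i : ℕ)) (w i : V)) from
      map_sum (AddMonoidHom.mk' (S.proj k) (S.proj_add k)) _ _,
      Finset.sum_eq_single k (fun i _ hik => ?_) (fun h => absurd (Finset.mem_univ k) h),
      S.proj_eig H (S.eig_h_pow H (w k).2 k), if_pos rfl, rho_inv_apply]
    rw [S.proj_eig H (S.eig_h_pow H (w i).2 i), if_neg]
    exact fun h => hik (Fin.ext (S.pow_omega_inj i.2 k.2 h)))
  rw [← Nat.card_congr (⟨F, B, hBF, hFB⟩ : (Fin S.r → S.V0) ≃ V), Nat.card_fun]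
  simp

/-- The centralizer of `f` in the layer acts as a setting on the fixed space. -/
theorem heis0 [Finite V] (H : Heis ρ K N) : letI := S.mod0 H
    Heis S.ρ0 K S.N0 := by
  letI := S.mod0 H
  haveI := H.normal
  haveI := S.nontrivial_V0
  refine ⟨inferInstance, fun n hn c v => Subtype.ext (H.lin _ hn c v), fun g => ?_, fun c hc => ?_,
    fun m hm n hn => ?_, fun T hT => ?_⟩
  · obtain ⟨φ, hφ⟩ := H.semi g
    exact ⟨φ, fun c v => Subtype.ext (hφ c v)⟩
  · obtain ⟨n, hn, hn'⟩ := H.scalar c hc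
    exact ⟨⟨n, mem_blk fun x hx => by rw [hn']; exact S.smul_mem H hx c⟩, hn,
      fun v => Subtype.ext (hn' v)⟩
  · obtain ⟨c, hc⟩ := H.comm _ hm _ hn
    exact ⟨c, fun v => Subtype.ext (hc v)⟩
  · classical
    let P : ℕ → V → S.V0 := fun i v =>
      ⟨ρ (S.h ^ i)⁻¹ (S.proj i v), S.back_mem H (S.eig_proj H i v)⟩
    have hPadd : ∀ i v w, P i (v + w) = P i v + P i w := fun i v w => Subtype.ext (by
      simp only [P, S.proj_add, map_add]; rfl)
    have hPsmul : ∀ i (c : K) v, P i (c • v) = c • P i v := fun i c v => Subtype.ext (by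
      simp only [P]
      rw [S.proj_smul H, H.lin _ (inv_mem (pow_mem S.hh i))]
      rfl)
    let T' : V →ₗ[K] V :=
      { toFun := fun v => ∑ i ∈ Finset.range S.r, ρ (S.h ^ i) (T (P i v) : V)
        map_add' := fun v w => by
          simp only [hPadd, map_add, AddSubgroup.coe_add, Finset.sum_add_distrib]
        map_smul' := fun c v => by
          simp only [hPsmul, map_smul, RingHom.id_apply, Finset.smul_sum]
          refine Finset.sum_congr rfl fun i _ => ?_
          exact H.lin _ (pow_mem S.hh i) c _ }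
    have hval : ∀ i < S.r, ∀ w : S.V0, T' (ρ (S.h ^ i) w) = ρ (S.h ^ i) (T w : V) := by
      intro i hi w
      show ∑ j ∈ Finset.range S.r, ρ (S.h ^ j) (T (P j (ρ (S.h ^ i) w)) : V) = _
      have hne : ∀ j ∈ Finset.range S.r, j ≠ i → P j (ρ (S.h ^ i) (w : V)) = 0 := by
        intro j hj hji
        refine Subtype.ext ?_
        simp only [P]
        rw [S.proj_eig H (S.eig_h_pow H w.2 i),
          if_neg fun h => hji (S.pow_omega_inj (Finset.mem_range.1 hj) hi h.symm), map_zero]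
        rfl
      rw [Finset.sum_eq_single_of_mem i (Finset.mem_range.2 hi)
        (fun j hj hji => by rw [hne j hj hji, map_zero]; exact map_zero _)]
      congr 2
      refine congrArg T (Subtype.ext ?_)
      simp only [P]
      rw [S.proj_eig H (S.eig_h_pow H w.2 i), if_pos rfl, rho_inv_apply]
    obtain ⟨c, hc⟩ := H.cent T' fun n hn v => by
      refine S.ext_h H (A := fun v => T' (ρ n v)) (B := fun v => ρ n (T' v))
        (fun a b => by simp only [map_add]) (fun a b => by simp only [map_add]) (fun i hi w hw => ?_) v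
      obtain ⟨k, hk, hs⟩ := S.shift H hn
      let j := (i + k) % S.r
      have hj : j < S.r := Nat.mod_lt _ S.prime.pos
      let n₀ := (S.h ^ j)⁻¹ * n * S.h ^ i
      have hn₀ : n₀ ∈ N := mul_mem (mul_mem (inv_mem (pow_mem S.hh j)) hn) (pow_mem S.hh i)
      have hmap : ∀ x ∈ S.V0, ρ n₀ x ∈ S.V0 := fun x hx => by
        simp only [n₀, rho_mul]
        refine S.back_mem H ?_
        have h1 := hs i _ (S.eig_h_pow H hx i)
        rwa [Eig, show S.ω ^ (i + k) = S.ω ^ j by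
          rw [← Nat.div_add_mod (i + k) S.r, pow_add, pow_mul, S.root.pow_eq_one, one_pow,
            one_mul]] at h1
      have hblk : n₀ ∈ S.G0 := mem_blk hmap
      have e : ∀ x, ρ n (ρ (S.h ^ i) x) = ρ (S.h ^ j) (ρ n₀ x) := fun x => by
        simp only [n₀, rho_mul, rho_apply_inv]
      rw [e, hval j hj ⟨_, hmap w hw⟩]
      show _ = ρ n (T' (ρ (S.h ^ i) w))
      rw [hval i hi ⟨w, hw⟩, e]
      congr 1
      exact congrArg Subtype.val (hT ⟨n₀, hblk⟩ hn₀ ⟨w, hw⟩)
    refine ⟨c, fun v => Subtype.ext ?_⟩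
    have h1 := hval 0 S.prime.pos v
    rw [pow_zero, rho_one, rho_one] at h1
    rw [← h1, hc]
    rfl

/-- An element of the layer fixing a regular vector of the fixed space is a power of `f`. -/
theorem eq_pow_f [Finite V] (H : Heis ρ K N) {a : S.V0} (ha : Regular S.ρ0 S.N0 a) (ha0 : a ≠ 0)
    {n : G} (hn : n ∈ N) (hna : ρ n (a : V) = a) : ∃ l, ∀ v, ρ n v = ρ (S.f ^ l) v := by
  have hblk : n ∈ S.G0 := S.mem_G0 H hn a.2 (fun h => ha0 (Subtype.ext h)) (by rw [hna]; exact a.2)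
  have hone : ∀ v ∈ S.V0, ρ n v = v := fun v hv =>
    (congrArg Subtype.val (DFunLike.congr_fun (ha ⟨n, hblk⟩ hn (Subtype.ext hna)) ⟨v, hv⟩) :)
  obtain ⟨t, ht⟩ := H.comm n hn S.h S.hh
  have hpow : ∀ i, ∀ v ∈ S.V0, ρ n (ρ (S.h ^ i) v) = t ^ i • ρ (S.h ^ i) v := by
    intro i
    induction i with
    | zero => intro v hv; rw [pow_zero, pow_zero, rho_one, one_smul, hone v hv]
    | succ i ih =>
      intro v hv
      rw [pow_succ', rho_mul, ← rho_mul ρ n S.h, ht, rho_mul, ih v hv, H.lin _ S.hh, smul_smul,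
        ← pow_succ']
  have htr : t ^ S.r = 1 := by
    have hv : ρ (S.h ^ S.r) (a : V) ∈ S.V0 := by
      have h1 := S.eig_h_pow H a.2 S.r
      rw [Eig, S.root.pow_eq_one, one_smul] at h1
      exact h1
    have h1 := hpow S.r a a.2
    rw [hone _ hv] at h1
    refine smul_left_injective K (fun h => ha0 (Subtype.ext ?_)) (h1.symm.trans (one_smul K _).symm)
    exact rho_injective ρ _ (h.trans (map_zero _).symm)
  obtain ⟨l, -, hl⟩ := S.exists_omega_pow htr
  refine ⟨l, S.ext_h H (fun v w => map_add _ v w) (fun v w => map_add _ v w) fun i _ w hw => ?_⟩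
  rw [hpow i w hw, S.pow_f_eig (S.eig_h_pow H hw i) H, ← hl, ← pow_mul, ← pow_mul, mul_comm]

/-- The data carried up by a step. -/
def Up (ρ : G →* AddMonoid.End V) (N : Subgroup G) : Prop :=
  ∃ y x : V, IsPair ρ y x ∧ Regular ρ N y ∧ ¬ Regular ρ N x ∧ y ≠ 0 ∧ x ≠ 0

/-- An element fixing a regular vector of the fixed space normalizes the cyclic group of `f`. -/
theorem conj_f [Finite V] (H : Heis ρ K N) {a : S.V0} (ha : Regular S.ρ0 S.N0 a) (ha0 : a ≠ 0)
    {g : G} (hga : ρ g (a : V) = a) :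
    g ∈ S.G0 ∧ ∃ l, ¬ S.r ∣ l ∧ ∀ v, ρ (S.f ^ l) (ρ g v) = ρ g (ρ S.f v) := by
  haveI := H.normal
  have hga' : ρ g⁻¹ (a : V) = a := by
    conv_lhs => rw [← hga]
    exact rho_inv_apply ρ g _
  obtain ⟨l, hl⟩ := S.eq_pow_f H ha ha0 (H.normal.conj_mem _ S.hf g)
    (by rw [rho_mul, rho_mul, hga', show ρ S.f (a : V) = a from a.2, hga])
  have hconj : ∀ v, ρ (S.f ^ l) (ρ g v) = ρ g (ρ S.f v) := fun v => by
    rw [← hl, rho_mul, rho_mul, rho_inv_apply]
  have hl0 : ¬ S.r ∣ l := by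
    rintro ⟨c, rfl⟩
    refine S.f_ne (end_ext fun v => rho_injective ρ g ?_)
    rw [← hconj, pow_mul, map_pow, S.pow_f, one_pow]
    rfl
  refine ⟨mem_blk fun v hv => ?_, l, hl0, hconj⟩
  have h1 : ρ (S.f ^ l) (ρ g v) = ρ g v := by
    rw [hconj, show ρ S.f v = v from hv]
  obtain ⟨j, -, hj⟩ := Nat.exists_mul_mod_eq_one_of_coprime
    (Nat.Coprime.symm ((S.prime.coprime_iff_not_dvd).2 hl0)) S.prime.one_lt
  have h2 : ∀ m, ρ (S.f ^ (l * m)) (ρ g v) = ρ g v := by
    intro m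
    induction m with
    | zero => rw [mul_zero, pow_zero, rho_one]
    | succ m ih => rw [Nat.mul_succ, pow_add, rho_mul, h1, ih]
  have h3 := h2 j
  rw [← Nat.div_add_mod (l * j) S.r, hj, pow_add, pow_mul, pow_one, rho_mul, map_pow, S.pow_f,
    one_pow] at h3
  exact h3

/-- The two components of a vector. -/
theorem split_sum (H : Heis ρ K N) {v b w w' : V} (hv : v ∈ S.V0) (hb : b ∈ S.V0)
    (hw : S.Eig 1 w) (hw' : S.Eig 1 w') (h : v + w = b + w') : v = b ∧ w = w' := by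
  classical
  have hω : S.ω ≠ 1 := S.root.ne_one S.prime.one_lt
  have e1 := congrArg (S.proj 0) h
  have e2 := congrArg (S.proj 1) h
  simp only [S.proj_add, S.proj_eig H (S.eig_zero_iff.2 hv), S.proj_eig H hw,
    S.proj_eig H (S.eig_zero_iff.2 hb), S.proj_eig H hw',
    pow_zero, pow_one, if_pos, if_neg hω, if_neg hω.symm, add_zero, zero_add] at e1 e2
  exact ⟨e1, e2⟩

/-- The pair given by a step for the prime two. -/
theorem pair_two [Finite V] (H : Heis ρ K N) (hr : S.r = 2) {a b c : S.V0}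
    (ha : Regular S.ρ0 S.N0 a) (hc : Regular S.ρ0 S.N0 c)
    (hstab : ∀ g, S.ρ0 g a = a → S.ρ0 g b = b → ∀ n ∈ S.N0, S.ρ0 g c = S.ρ0 n c → S.ρ0 g = 1)
    (ha0 : a ≠ 0) (hc0 : c ≠ 0) : IsPair ρ ((b : V) + ρ S.h c) a := by
  classical
  intro g hgy hga
  haveI := H.normal
  have hcV : (c : V) ≠ 0 := fun h => hc0 (Subtype.ext h)
  have hω : S.ω ≠ 1 := S.root.ne_one S.prime.one_lt
  let y : V := b + ρ S.h c
  have hy0 : ∀ v w : V, v ∈ S.V0 → S.Eig 1 w → v + w = y → v = b ∧ w = ρ S.h c :=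
    fun v w hv hw h => S.split_sum H hv b.2 hw (S.eig_h H (S.eig_zero_iff.2 c.2)) h
  have hhc : ρ S.h (c : V) ≠ 0 := fun h => hcV (rho_injective ρ _ (h.trans (map_zero _).symm))
  obtain ⟨hg, l, hl, hconj⟩ := S.conj_f H ha ha0 hga
  have hgV : ∀ v ∈ S.V0, ρ g v ∈ S.V0 := fun v hv => (hg v).2 hv
  -- `g` keeps both components
  have hgy' : ρ g (b : V) + ρ g (ρ S.h c) = y := by rw [← map_add]; exact hgy
  have hghc : S.Eig 1 (ρ g (ρ S.h c)) := by
    obtain ⟨i, hi, hs⟩ := S.shift H (H.normal.conj_mem _ S.hh g)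
    have h1 := hs 0 (ρ g (c : V)) (S.eig_zero_iff.2 (hgV c c.2))
    rw [rho_mul, rho_mul, rho_inv_apply] at h1
    rcases (show i = 0 ∨ i = 1 by omega) with rfl | rfl
    · exfalso
      have h2 := (hg (ρ S.h c)).1 (S.eig_zero_iff.1 h1)
      have := S.eig_eq H (S.eig_h H (S.eig_zero_iff.2 c.2)) (S.eig_zero_iff.2 h2) hhc
      rw [pow_zero, pow_one] at this
      exact hω this
    · exact h1
  obtain ⟨e1, e2⟩ := hy0 _ _ (hgV b b.2) hghc hgy'
  let n := (g * S.h * g⁻¹)⁻¹ * S.h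
  have hnN : n ∈ N := mul_mem (inv_mem (H.normal.conj_mem _ S.hh g)) S.hh
  have hnc : ρ n (c : V) = ρ g c := by
    simp only [n, mul_inv_rev, inv_inv, rho_mul]
    rw [show ρ g⁻¹ (ρ S.h (c : V)) = ρ S.h c by
      conv_lhs => rw [← e2]
      exact rho_inv_apply ρ g _, rho_inv_apply]
  have hnG : n ∈ S.G0 := S.mem_G0 H hnN c.2 hcV (by rw [hnc]; exact hgV c c.2)
  have hone := hstab ⟨g, hg⟩ (Subtype.ext hga) (Subtype.ext e1) ⟨n, hnG⟩ hnN
    (Subtype.ext hnc.symm)
  have hV0 : ∀ v ∈ S.V0, ρ g v = v := fun v hv =>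
    (congrArg Subtype.val (DFunLike.congr_fun hone ⟨v, hv⟩) :)
  have hlin : ∀ (k : K) (v : V), ρ g (k • v) = k • ρ g v :=
    H.fix_factor hcV fun k => hV0 _ (S.smul_mem H c.2 k)
  -- `h⁻¹ h^g` fixes `c`
  obtain ⟨m, hm⟩ := S.eq_pow_f H hc hc0
    (N.mul_mem (N.inv_mem S.hh) (H.normal.conj_mem _ S.hh g))
    (by rw [rho_mul, rho_mul, rho_mul, show ρ g⁻¹ (c : V) = c by
          conv_lhs => rw [← hV0 c c.2]
          exact rho_inv_apply ρ g _, e2, rho_inv_apply])
  refine end_ext (S.ext_h H (A := fun v => ρ g v) (B := fun v => v) (fun v w => map_add _ v w)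
    (fun _ _ => rfl) fun i hi w hw => ?_)
  rcases (show i = 0 ∨ i = 1 by omega) with rfl | rfl
  · rw [pow_zero, rho_one]; exact hV0 w hw
  · rw [pow_one]
    show ρ g (ρ S.h w) = ρ S.h w
    have h1 := hm w
    rw [rho_mul, rho_mul, rho_mul, show ρ g⁻¹ w = w by
      conv_lhs => rw [← hV0 w hw]
      exact rho_inv_apply ρ g _, S.pow_f_fixed hw] at h1
    have h2 := congrArg (fun v => ρ S.h v) h1
    simp only [rho_apply_inv] at h2
    exact h2

/-- The step for the prime two. -/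
theorem step_two [Finite V] (H : Heis ρ K N) (hr : S.r = 2) {a b c : S.V0}
    (hT : IsTriple S.ρ0 S.N0 a b c) (ha0 : a ≠ 0) (hb0 : b ≠ 0) (hc0 : c ≠ 0) : Up ρ N := by
  classical
  obtain ⟨ha, hc, hbc, hstab⟩ := hT
  haveI := H.normal
  have hcV : (c : V) ≠ 0 := fun h => hc0 (Subtype.ext h)
  have hbV : (b : V) ≠ 0 := fun h => hb0 (Subtype.ext h)
  have hω : S.ω ≠ 1 := S.root.ne_one S.prime.one_lt
  let y : V := b + ρ S.h c
  have hy0 : ∀ v w : V, v ∈ S.V0 → S.Eig 1 w → v + w = y → v = b ∧ w = ρ S.h c :=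
    fun v w hv hw h => S.split_sum H hv b.2 hw (S.eig_h H (S.eig_zero_iff.2 c.2)) h
  have hhc : ρ S.h (c : V) ≠ 0 := fun h => hcV (rho_injective ρ _ (h.trans (map_zero _).symm))
  have hreg : Regular ρ N y := by
    intro n hn hny
    obtain ⟨i, hi, hs⟩ := S.shift H hn
    have hb' := hs 0 b (S.eig_zero_iff.2 b.2)
    have hc' := hs 1 _ (S.eig_h H (S.eig_zero_iff.2 c.2))
    have hny' : ρ n (b : V) + ρ n (ρ S.h c) = y := by rw [← map_add]; exact hny
    rcases (show i = 0 ∨ i = 1 by omega) with rfl | rfl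
    · obtain ⟨e1, e2⟩ := hy0 _ _ (S.eig_zero_iff.1 hb') hc' hny'
      obtain ⟨l, hl⟩ := S.eq_pow_f H hc hc0 (N.mul_mem (N.mul_mem (N.inv_mem S.hh) hn) S.hh)
        (by rw [rho_mul, rho_mul, e2, rho_inv_apply])
      have hn' : ∀ v, ρ n v = ρ S.h (ρ (S.f ^ l) (ρ S.h⁻¹ v)) := fun v => by
        rw [← hl, rho_mul, rho_mul, rho_apply_inv, rho_apply_inv]
      have hback : S.Eig 1 (ρ S.h⁻¹ (b : V)) := by
        obtain ⟨k, hk, hks⟩ := S.shift H (inv_mem S.hh)
        have h1 := hks 0 b (S.eig_zero_iff.2 b.2)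
        rcases (show k = 0 ∨ k = 1 by omega) with rfl | rfl
        · exfalso
          have h2 := S.eig_h H h1
          rw [rho_apply_inv] at h2
          have := S.eig_eq H h2 (S.eig_zero_iff.2 b.2) hbV
          rw [pow_zero, pow_one] at this
          exact hω this
        · exact h1
      have hωl : S.ω ^ l = 1 := by
        have h1 := hn' b
        rw [e1, S.pow_f_eig hback H, H.lin _ S.hh, rho_apply_inv, pow_one] at h1
        exact smul_left_injective K hbV (h1.symm.trans (one_smul K _).symm)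
      refine end_ext fun v => ?_
      rw [hn', show ρ (S.f ^ l) (ρ S.h⁻¹ v) = ρ S.h⁻¹ v by
        obtain ⟨m, rfl⟩ := S.pow_omega_eq_one.1 hωl
        rw [pow_mul, map_pow, S.pow_f, one_pow]; rfl, rho_apply_inv]
      rfl
    · exfalso
      have hc'' : ρ n (ρ S.h c) ∈ S.V0 := by
        rw [← eig_zero_iff, Eig, pow_zero, ← S.root.pow_eq_one]
        rw [hr]
        exact hc'
      obtain ⟨e1, e2⟩ := hy0 _ _ hc'' hb' (by rw [add_comm]; exact hny')
      let m := S.h⁻¹ * n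
      have hm : ρ m (b : V) = c := by rw [rho_mul, e2, rho_inv_apply]
      have hmG : m ∈ S.G0 := S.mem_G0 H (mul_mem (inv_mem S.hh) hn) b.2 hbV (by rw [hm]; exact c.2)
      exact hbc ⟨m, hmG⟩ (mul_mem (inv_mem S.hh) hn) (Subtype.ext hm)
  refine ⟨y, a, S.pair_two H hr ha hc hstab ha0 hc0, hreg, fun hx => S.f_ne (hx _ S.hf a.2), ?_,
    fun h => ha0 (Subtype.ext h)⟩
  intro h
  obtain ⟨e, -⟩ := hy0 0 0 (zero_mem _)
    (by rw [← zero_smul K (ρ S.h (c : V))]; exact S.eig_smul H (S.eig_h H (S.eig_zero_iff.2 c.2)) 0)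
    (by rw [add_zero]; exact h.symm)
  exact hbV e.symm

/-- The step for an odd prime. -/
theorem step_odd [Finite V] (H : Heis ρ K N) (h2 : (2 : K) ≠ 0) (hr : S.r ≠ 2) {a b : S.V0}
    (hpair : IsPair S.ρ0 a b) (ha : Regular S.ρ0 S.N0 a) (ha0 : a ≠ 0) (hb0 : b ≠ 0) : Up ρ N := by
  classical
  haveI := H.normal
  have hr3 : 3 ≤ S.r := by
    have := S.prime.two_le
    omega
  have haV : (a : V) ≠ 0 := fun h => ha0 (Subtype.ext h)
  have hbV : (b : V) ≠ 0 := fun h => hb0 (Subtype.ext h)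
  obtain ⟨s, hs0, hs⟩ : ∃ s : K, s ≠ 0 ∧
      ∀ i : ℕ, (S.ω ^ i * s ^ 3) • ρ (S.h ^ 3) (a : V) = a → S.r ≠ 3 := by
    by_cases h : ∃ i : ℕ, S.ω ^ i • ρ (S.h ^ 3) (a : V) = a
    · obtain ⟨i, hi⟩ := h
      refine ⟨-1, neg_ne_zero.2 one_ne_zero, fun j hj h3 => h2 ?_⟩
      rw [show (-1 : K) ^ 3 = -1 by ring, mul_neg_one] at hj
      have hne : ρ (S.h ^ 3) (a : V) ≠ 0 := fun e => haV (by rw [← hi, e, smul_zero])
      have e : -(S.ω ^ j) = S.ω ^ i := smul_left_injective K hne (hj.trans hi.symm)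
      have e3 : (-(S.ω ^ j)) ^ 3 = (S.ω ^ i) ^ 3 := by rw [e]
      have h1 : ∀ k : ℕ, (S.ω ^ k) ^ 3 = 1 := fun k => by
        rw [← pow_mul, S.pow_omega_eq_one, h3]
        exact dvd_mul_left 3 k
      rw [show (-(S.ω ^ j)) ^ 3 = -((S.ω ^ j) ^ 3) by ring, h1, h1] at e3
      linear_combination -e3
    · exact ⟨1, one_ne_zero, fun j hj _ => h ⟨j, by rwa [one_pow, mul_one] at hj⟩⟩
  let u₁ : V := ρ S.h a
  let u₂ : V := s • ρ S.h (ρ S.h a)
  let y : V := b + (u₁ + u₂)
  have hE1 : S.Eig 1 u₁ := S.eig_h H (S.eig_zero_iff.2 a.2)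
  have hE2 : S.Eig 2 u₂ := S.eig_smul H (S.eig_h H hE1) s
  have hu1 : u₁ ≠ 0 := fun h => haV (rho_injective ρ _ (h.trans (map_zero _).symm))
  have hu2 : u₂ ≠ 0 := fun h => by
    rcases smul_eq_zero.1 h with h | h
    · exact hs0 h
    · exact hu1 (rho_injective ρ _ (h.trans (map_zero _).symm))
  have hω : ∀ {i j : ℕ}, i < 3 → j < 3 → S.ω ^ i = S.ω ^ j → i = j := fun hi hj h =>
    S.pow_omega_inj (hi.trans_le hr3) (hj.trans_le hr3) h
  have hproj : ∀ k, S.proj k y = (if S.ω ^ 0 = S.ω ^ k then (b : V) else 0) +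
      ((if S.ω ^ 1 = S.ω ^ k then u₁ else 0) + (if S.ω ^ 2 = S.ω ^ k then u₂ else 0)) := fun k => by
    rw [S.proj_add, S.proj_add, S.proj_eig H (S.eig_zero_iff.2 b.2), S.proj_eig H hE1,
      S.proj_eig H hE2]
  have hp0 : S.proj 0 y = b := by
    rw [hproj, if_pos rfl, if_neg fun h => by simpa using hω (by norm_num) (by norm_num) h,
      if_neg fun h => by simpa using hω (by norm_num) (by norm_num) h, add_zero, add_zero]
  have hp1 : S.proj 1 y = u₁ := by
    rw [hproj, if_neg fun h => by simpa using hω (by norm_num) (by norm_num) h, if_pos rfl,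
      if_neg fun h => by simpa using hω (by norm_num) (by norm_num) h, add_zero, zero_add]
  have hp2 : S.proj 2 y = u₂ := by
    rw [hproj, if_neg fun h => by simpa using hω (by norm_num) (by norm_num) h,
      if_neg fun h => by simpa using hω (by norm_num) (by norm_num) h, if_pos rfl, zero_add,
      zero_add]
  have hy0 : y ≠ 0 := fun h => hbV (by
    rw [← hp0, h]
    simp [proj])
  -- three vectors in distinct eigenspaces with sum `y`
  have hsplit : ∀ k₀ k₁ k₂ (w₀ w₁ w₂ : V), S.Eig k₀ w₀ → S.Eig k₁ w₁ → S.Eig k₂ w₂ →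
      w₀ ≠ 0 → w₁ ≠ 0 → w₂ ≠ 0 → S.ω ^ k₀ ≠ S.ω ^ k₁ → S.ω ^ k₀ ≠ S.ω ^ k₂ →
      S.ω ^ k₁ ≠ S.ω ^ k₂ → w₀ + (w₁ + w₂) = y →
      (S.ω ^ k₀ = 1 ∧ w₀ = b) ∨ (S.ω ^ k₀ = S.ω ∧ w₀ = u₁) ∨ (S.ω ^ k₀ = S.ω ^ 2 ∧ w₀ = u₂) := by
    intro k₀ k₁ k₂ w₀ w₁ w₂ h0 h1 h2' n0 _ _ d1 d2 _ hsum
    have e : S.proj k₀ y = w₀ := by
      rw [← hsum, S.proj_add, S.proj_add, S.proj_eig H h0, S.proj_eig H h1, S.proj_eig H h2',
        if_pos rfl, if_neg d1.symm, if_neg d2.symm, add_zero, add_zero]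
    rw [hproj] at e
    by_cases c0 : S.ω ^ 0 = S.ω ^ k₀
    · rw [if_pos c0, if_neg fun h => by simpa using hω (by norm_num) (by norm_num) (h.trans c0.symm),
        if_neg fun h => by simpa using hω (by norm_num) (by norm_num) (h.trans c0.symm), add_zero,
        add_zero] at e
      exact Or.inl ⟨c0.symm.trans (pow_zero _), e.symm⟩
    rw [if_neg c0, zero_add] at e
    by_cases c1 : S.ω ^ 1 = S.ω ^ k₀
    · rw [if_pos c1, if_neg fun h => by simpa using hω (by norm_num) (by norm_num) (h.trans c1.symm),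
        add_zero] at e
      exact Or.inr (Or.inl ⟨c1.symm.trans (pow_one _), e.symm⟩)
    rw [if_neg c1, zero_add] at e
    by_cases c2 : S.ω ^ 2 = S.ω ^ k₀
    · rw [if_pos c2] at e
      exact Or.inr (Or.inr ⟨c2.symm, e.symm⟩)
    · rw [if_neg c2] at e
      exact absurd e.symm n0
  -- the exceptional equation
  have hno : ∀ i : ℕ, (S.ω ^ i * s ^ 3) • ρ (S.h ^ 3) (a : V) = a → S.r ≠ 3 := hs
  have hh3 : ∀ v, ρ (S.h ^ 3) v = ρ S.h (ρ S.h (ρ S.h v)) := fun v => by
    rw [pow_succ', pow_two, rho_mul, rho_mul]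
  have hscal : ∀ {n : G}, n ∈ N → ρ n (a : V) = s • (a : V) →
      ∃ l, ∀ v, ρ n v = s • ρ (S.f ^ l) v := by
    intro n hn hna
    obtain ⟨z, hzN, hz⟩ := H.scalar s⁻¹ (inv_ne_zero hs0)
    obtain ⟨l, hl⟩ := S.eq_pow_f H ha ha0 (mul_mem hzN hn)
      (by rw [rho_mul, hna, hz, smul_smul, inv_mul_cancel₀ hs0, one_smul])
    refine ⟨l, fun v => ?_⟩
    rw [← hl v, rho_mul, hz, smul_smul, mul_inv_cancel₀ hs0, one_smul]
  have hreg : Regular ρ N y := by
    intro n hn hny
    -- no element of `N` shifting by one fixes `y`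
    have hone : ∀ n ∈ N, ρ n (b : V) = u₁ → ρ n u₁ = u₂ → ρ n u₂ = b → S.r ≠ 3 := by
      intro n hn e0 e1 e2
      have hm : ρ (S.h⁻¹ * (S.h⁻¹ * n) * S.h) (a : V) = s • (a : V) := by
        rw [rho_mul, rho_mul, rho_mul, show ρ n (ρ S.h (a : V)) = u₂ from e1,
          H.lin _ (inv_mem S.hh), H.lin _ (inv_mem S.hh), rho_inv_apply, rho_inv_apply]
      obtain ⟨l, hl⟩ := hscal (mul_mem (mul_mem (inv_mem S.hh) (mul_mem (inv_mem S.hh) hn)) S.hh) hm
      have hn' : ∀ v, ρ n (ρ S.h v) = s • ρ S.h (ρ S.h (ρ (S.f ^ l) v)) := fun v => by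
        have h1 := congrArg (fun x => ρ S.h (ρ S.h x)) (hl v)
        simp only [rho_mul, rho_apply_inv, H.lin _ S.hh] at h1
        exact h1
      -- `u₂` goes to `b`
      have e2' : (s * s * S.ω ^ l) • ρ (S.h ^ 3) (a : V) = b := by
        rw [← e2]
        show _ = ρ n (s • ρ S.h (ρ S.h (a : V)))
        rw [H.lin n hn, hn', S.pow_f_eig hE1 H, H.lin _ S.hh, H.lin _ S.hh, hh3, pow_one,
          smul_smul, smul_smul]
      -- `b` goes to `u₁`
      have hback : ρ n (b : V) =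
          (s * s * S.ω ^ l) • (s * (S.ω ^ 2) ^ l) • ρ S.h (ρ (S.h ^ 3) (a : V)) := by
        rw [← e2', H.lin n hn, hh3, hn', S.pow_f_eig (S.eig_h H hE1) H, H.lin _ S.hh,
          H.lin _ S.hh, smul_smul s]
      rw [e0, smul_smul] at hback
      have h5 : (s * s * S.ω ^ l * (s * (S.ω ^ 2) ^ l)) • ρ (S.h ^ 3) (a : V) = a :=
        rho_injective ρ S.h (by rw [H.lin _ S.hh]; exact hback.symm)
      refine hno (3 * l) (Eq.trans ?_ h5)
      congr 1
      ring
    obtain ⟨i, hi, hsft⟩ := S.shift H hn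
    have hb' := hsft 0 b (S.eig_zero_iff.2 b.2)
    have h1' := hsft 1 u₁ hE1
    have h2' := hsft 2 u₂ hE2
    have hsum : ρ n (b : V) + (ρ n u₁ + ρ n u₂) = y := by
      rw [← map_add, ← map_add]; exact hny
    have hne : ∀ {v : V}, v ≠ 0 → ρ n v ≠ 0 := fun hv h =>
      hv (rho_injective ρ n (h.trans (map_zero _).symm))
    have hd : ∀ {j k : ℕ}, j < 3 → k < 3 → j ≠ k → S.ω ^ (j + i) ≠ S.ω ^ (k + i) :=
      fun hj hk hjk h => hjk (hω hj hk (by
        rw [pow_add, pow_add] at h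
        exact mul_right_cancel₀ (pow_ne_zero _ S.omega_ne_zero) h))
    have q0 := hsplit _ _ _ _ _ _ hb' h1' h2' (hne hbV) (hne hu1) (hne hu2)
      (hd (by norm_num) (by norm_num) (by norm_num)) (hd (by norm_num) (by norm_num) (by norm_num))
      (hd (by norm_num) (by norm_num) (by norm_num)) hsum
    have q1 := hsplit _ _ _ _ _ _ h1' hb' h2' (hne hu1) (hne hbV) (hne hu2)
      (hd (by norm_num) (by norm_num) (by norm_num)) (hd (by norm_num) (by norm_num) (by norm_num))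
      (hd (by norm_num) (by norm_num) (by norm_num)) (by rw [← hsum]; abel)
    have q2 := hsplit _ _ _ _ _ _ h2' hb' h1' (hne hu2) (hne hbV) (hne hu1)
      (hd (by norm_num) (by norm_num) (by norm_num)) (hd (by norm_num) (by norm_num) (by norm_num))
      (hd (by norm_num) (by norm_num) (by norm_num)) (by rw [← hsum]; abel)
    simp only [zero_add] at q0
    rcases q0 with ⟨c0, e0⟩ | ⟨c0, e0⟩ | ⟨c0, e0⟩
    · -- no shift
      have hi0 : i = 0 := S.pow_omega_inj hi S.prime.pos (c0.trans (pow_zero _).symm)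
      subst hi0
      rcases q1 with ⟨c1, -⟩ | ⟨-, e1⟩ | ⟨c1, -⟩
      · exact absurd (hω (i := 1) (j := 0) (by norm_num) (by norm_num) (c1.trans (pow_zero _).symm)) one_ne_zero
      · obtain ⟨l, hl⟩ := S.eq_pow_f H ha ha0 (N.mul_mem (N.mul_mem (N.inv_mem S.hh) hn) S.hh)
          (by rw [rho_mul, rho_mul, show ρ n (ρ S.h (a : V)) = ρ S.h a from e1, rho_inv_apply])
        have hn' : ∀ v, ρ n v = ρ S.h (ρ (S.f ^ l) (ρ S.h⁻¹ v)) := fun v => by
          rw [← hl, rho_mul, rho_mul, rho_apply_inv, rho_apply_inv]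
        obtain ⟨k, hk, hks⟩ := S.shift H (inv_mem S.hh)
        have hback := hks 0 b (S.eig_zero_iff.2 b.2)
        rw [zero_add] at hback
        have hk' : S.ω ^ (k + 1) = 1 := by
          have h3 := S.eig_h H hback
          rw [rho_apply_inv] at h3
          rw [← pow_zero S.ω]
          exact S.eig_eq H h3 (S.eig_zero_iff.2 b.2) hbV
        have hωl : (S.ω ^ k) ^ l = 1 := by
          have h3 := hn' b
          rw [e0, S.pow_f_eig hback H, H.lin _ S.hh, rho_apply_inv] at h3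
          exact smul_left_injective K hbV (h3.symm.trans (one_smul K _).symm)
        have hωl' : S.ω ^ l = 1 := by
          have : (S.ω ^ (k + 1)) ^ l = 1 := by rw [hk', one_pow]
          rwa [pow_succ, mul_pow, hωl, one_mul] at this
        refine end_ext fun v => ?_
        obtain ⟨m, rfl⟩ := S.pow_omega_eq_one.1 hωl'
        rw [hn', pow_mul, map_pow, S.pow_f, one_pow]
        exact rho_apply_inv ρ S.h v
      · exact absurd (hω (i := 1) (j := 2) (by norm_num) (by norm_num) c1) (by norm_num)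
    · -- a shift by one
      exfalso
      have hi1 : i = 1 := S.pow_omega_inj hi (by omega) (c0.trans (pow_one _).symm)
      subst hi1
      rcases q1 with ⟨c1, -⟩ | ⟨c1, -⟩ | ⟨-, e1⟩
      · exact absurd (hω (i := 2) (j := 0) (by norm_num) (by norm_num) (c1.trans (pow_zero _).symm)) two_ne_zero
      · exact absurd (hω (i := 2) (j := 1) (by norm_num) (by norm_num) (c1.trans (pow_one _).symm)) (by norm_num)
      · rcases q2 with ⟨c2, e2⟩ | ⟨c2, -⟩ | ⟨c2, -⟩
        · refine hone n hn e0 e1 e2 ?_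
          have := Nat.le_of_dvd (by norm_num) (S.pow_omega_eq_one.1 c2)
          omega
        · have : S.ω ^ 2 = 1 := mul_right_cancel₀ S.omega_ne_zero (by rw [one_mul, ← pow_succ]; exact c2)
          exact absurd (hω (i := 2) (j := 0) (by norm_num) (by norm_num) (this.trans (pow_zero _).symm)) two_ne_zero
        · have : S.ω ^ 1 = 1 := mul_right_cancel₀ (pow_ne_zero 2 S.omega_ne_zero)
            (by rw [one_mul, ← pow_add]; exact c2)
          exact absurd (hω (i := 1) (j := 0) (by norm_num) (by norm_num) (this.trans (pow_zero _).symm)) one_ne_zero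
    · -- a shift by two: the inverse shifts by one
      exfalso
      have hi2 : i = 2 := S.pow_omega_inj hi (by omega) c0
      subst hi2
      rcases q1 with ⟨c1, e1⟩ | ⟨c1, -⟩ | ⟨c1, -⟩
      · rcases q2 with ⟨c2, -⟩ | ⟨-, e2⟩ | ⟨c2, -⟩
        · exact absurd ((S.pow_omega_inj (i := 1) (j := 0) (by omega) S.prime.pos (by
            rw [pow_zero, pow_one, ← one_mul S.ω, ← c1, ← pow_succ]; exact c2.trans c1.symm))) one_ne_zero
        · have hinv : ∀ {v w : V}, ρ n v = w → ρ n⁻¹ w = v := fun h => by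
            rw [← h, rho_inv_apply]
          refine hone n⁻¹ (inv_mem hn) (hinv e1) (hinv e2) (hinv e0) ?_
          have := Nat.le_of_dvd (by norm_num) (S.pow_omega_eq_one.1 c1)
          omega
        · have : S.ω ^ 2 = 1 := mul_right_cancel₀ (pow_ne_zero 2 S.omega_ne_zero)
            (by rw [one_mul, ← pow_add]; exact c2)
          exact absurd (hω (i := 2) (j := 0) (by norm_num) (by norm_num) (this.trans (pow_zero _).symm)) two_ne_zero
      · have : S.ω ^ 2 = 1 := mul_right_cancel₀ S.omega_ne_zero (by rw [one_mul, ← pow_succ]; exact c1)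
        exact absurd (hω (i := 2) (j := 0) (by norm_num) (by norm_num) (this.trans (pow_zero _).symm)) two_ne_zero
      · have : S.ω ^ 1 = 1 := mul_right_cancel₀ (pow_ne_zero 2 S.omega_ne_zero)
          (by rw [one_mul, ← pow_add]; exact c1)
        exact absurd (hω (i := 1) (j := 0) (by norm_num) (by norm_num) (this.trans (pow_zero _).symm)) one_ne_zero
  refine ⟨y, a, fun g hgy hga => ?_, hreg, fun hx => S.f_ne (hx _ S.hf a.2), hy0,
    fun h => ha0 (Subtype.ext h)⟩
  obtain ⟨hg, l, hl, hconj⟩ := S.conj_f H ha ha0 hga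
  have hgV : ∀ v ∈ S.V0, ρ g v ∈ S.V0 := fun v hv => (hg v).2 hv
  have hne : ∀ {v : V}, v ≠ 0 → ρ g v ≠ 0 := fun hv h =>
    hv (rho_injective ρ g (h.trans (map_zero _).symm))
  have hgsum : ρ g (b : V) + (ρ g u₁ + ρ g u₂) = y := by
    rw [← map_add, ← map_add]; exact hgy
  -- the images of the components are components
  obtain ⟨φ, hφ⟩ := H.semi g
  have heig : ∀ {m : ℕ} {v : V}, S.Eig m v → ∃ k < S.r, S.Eig k (ρ g v) ∧
      (v ≠ 0 → (S.ω ^ k) ^ l = φ (S.ω ^ m)) := by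
    intro m v hv
    obtain ⟨j, -, hj⟩ := Nat.exists_mul_mod_eq_one_of_coprime
      (Nat.Coprime.symm ((S.prime.coprime_iff_not_dvd).2 hl)) S.prime.one_lt
    by_cases hv0 : v = 0
    · exact ⟨0, S.prime.pos, by rw [hv0, map_zero, Eig, map_zero, smul_zero],
        fun h => absurd hv0 h⟩
    have hφr : φ (S.ω ^ m) ^ S.r = 1 := by
      rw [← map_pow, ← pow_mul, mul_comm, pow_mul, S.root.pow_eq_one, one_pow, map_one]
    have h1 : ρ (S.f ^ l) (ρ g v) = φ (S.ω ^ m) • ρ g v := by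
      rw [hconj, show ρ S.f v = _ from hv, hφ]
    have h2' : ∀ e, ρ (S.f ^ (l * e)) (ρ g v) = φ (S.ω ^ m) ^ e • ρ g v := by
      intro e
      induction e with
      | zero => rw [mul_zero, pow_zero, pow_zero, rho_one, one_smul]
      | succ e ih =>
        rw [Nat.mul_succ, pow_add, rho_mul, h1, H.lin _ (pow_mem S.hf _), ih, smul_smul, ← pow_succ']
    obtain ⟨k, hk, hk'⟩ := S.exists_omega_pow (t := φ (S.ω ^ m) ^ j)
      (by rw [← pow_mul, mul_comm, pow_mul, hφr, one_pow])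
    have h3 := h2' j
    rw [← Nat.div_add_mod (l * j) S.r, hj, pow_add, pow_mul, pow_one, rho_mul, map_pow, S.pow_f,
      one_pow, ← hk'] at h3
    refine ⟨k, hk, h3, fun _ => ?_⟩
    have h4 := S.pow_f_eig h3 H l
    rw [h1] at h4
    exact (smul_left_injective K (hne hv0) h4).symm
  obtain ⟨k₁, hk₁, hE1', hk₁'⟩ := heig hE1
  obtain ⟨k₂, hk₂, hE2', hk₂'⟩ := heig hE2
  have hk10 : S.ω ^ k₁ ≠ 1 := fun h => by
    have h1 := (hg u₁).1 (S.eig_zero_iff.1 (show S.Eig 0 (ρ g u₁) by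
      rw [Eig, pow_zero, ← h]; exact hE1'))
    have := hω (by norm_num) (by norm_num) (S.eig_eq H hE1 (S.eig_zero_iff.2 h1) hu1)
    omega
  have hk20 : S.ω ^ k₂ ≠ 1 := fun h => by
    have h1 := (hg u₂).1 (S.eig_zero_iff.1 (show S.Eig 0 (ρ g u₂) by
      rw [Eig, pow_zero, ← h]; exact hE2'))
    have := hω (by norm_num) (by norm_num) (S.eig_eq H hE2 (S.eig_zero_iff.2 h1) hu2)
    omega
  have e1 : ρ g (b : V) = b := by
    have h := congrArg (S.proj 0) hgsum
    rw [hp0, S.proj_add, S.proj_add, S.proj_eig H (S.eig_zero_iff.2 (hgV b b.2)),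
      S.proj_eig H hE1', S.proj_eig H hE2', if_pos rfl, if_neg (by rwa [pow_zero]),
      if_neg (by rwa [pow_zero]), add_zero, add_zero] at h
    exact h
  have hone := hpair ⟨g, hg⟩ (Subtype.ext hga) (Subtype.ext e1)
  have hV0 : ∀ v ∈ S.V0, ρ g v = v := fun v hv =>
    (congrArg Subtype.val (DFunLike.congr_fun hone ⟨v, hv⟩) :)
  have hlin : ∀ (k : K) (v : V), ρ g (k • v) = k • ρ g v :=
    H.fix_factor haV fun k => hV0 _ (S.smul_mem H a.2 k)
  have hφid : ∀ k : K, φ k = k := fun k => smul_left_injective K haV (by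
    have h1 := hφ k a
    rw [hlin, hga] at h1
    exact h1.symm)
  have hk12 : S.ω ^ k₂ = S.ω ^ (2 * k₁) := by
    have h1 := hk₁' hu1
    have h2'' := hk₂' hu2
    rw [hφid] at h1 h2''
    obtain ⟨j, -, hj⟩ := Nat.exists_mul_mod_eq_one_of_coprime
      (Nat.Coprime.symm ((S.prime.coprime_iff_not_dvd).2 hl)) S.prime.one_lt
    have hcancel : ∀ k : ℕ, ((S.ω ^ k) ^ l) ^ j = S.ω ^ k := fun k => by
      rw [← pow_mul, ← pow_mul, mul_comm, pow_mul, ← Nat.div_add_mod (l * j) S.r, hj, pow_add,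
        pow_mul, S.root.pow_eq_one, one_pow, one_mul, pow_one]
    rw [← hcancel k₂, ← hcancel (2 * k₁), h2'', mul_comm 2 k₁, pow_mul S.ω k₁ 2,
      ← pow_mul (S.ω ^ k₁) 2 l, mul_comm 2 l, pow_mul (S.ω ^ k₁) l 2, h1, pow_one]
  have hd12 : S.ω ^ k₁ ≠ S.ω ^ k₂ := fun h => hk10 (by
    rw [hk12, two_mul, pow_add] at h
    exact (mul_eq_left₀ (pow_ne_zero _ S.omega_ne_zero)).1 h.symm)
  have q1 := hsplit _ _ _ _ _ _ hE1' (S.eig_zero_iff.2 (hgV b b.2)) hE2' (hne hu1) (hne hbV)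
    (hne hu2) (by rwa [pow_zero]) hd12 (by rw [pow_zero]; exact hk20.symm)
    (by rw [← hgsum]; abel)
  have q2 := hsplit _ _ _ _ _ _ hE2' (S.eig_zero_iff.2 (hgV b b.2)) hE1' (hne hu2) (hne hbV)
    (hne hu1) (by rwa [pow_zero]) hd12.symm (by rw [pow_zero]; exact hk10.symm)
    (by rw [← hgsum]; abel)
  have hga' : ρ g⁻¹ (a : V) = a := by
    conv_lhs => rw [← hga]
    exact rho_inv_apply ρ g _
  let n := g * S.h * g⁻¹
  have hnN : n ∈ N := H.normal.conj_mem _ S.hh g
  have hghh : ρ n (ρ g (ρ S.h (a : V))) = ρ g (ρ S.h (ρ S.h (a : V))) := by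
    simp only [n, rho_mul, rho_inv_apply]
  have hna : ρ n (a : V) = ρ g u₁ := by simp only [n, rho_mul, hga']; rfl
  rcases q1 with ⟨c1, -⟩ | ⟨c1, w1⟩ | ⟨c1, w1⟩
  · exact absurd c1 hk10
  · -- components fixed
    rcases q2 with ⟨c2, -⟩ | ⟨c2, -⟩ | ⟨-, w2⟩
    · exact absurd c2 hk20
    · exact absurd (c1.trans c2.symm) hd12
    obtain ⟨m, hm⟩ := S.eq_pow_f H ha ha0 (N.mul_mem (N.inv_mem S.hh) hnN)
      (by rw [rho_mul, hna, w1]; exact rho_inv_apply ρ S.h _)
    have hn' : ∀ v, ρ n v = ρ S.h (ρ (S.f ^ m) v) := fun v => by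
      rw [← hm v, ← rho_mul ρ S.h, mul_inv_cancel_left]
    have hωm : S.ω ^ m = 1 := by
      have h3 : ρ g (ρ S.h (ρ S.h (a : V))) = ρ S.h (ρ S.h a) := by
        have := w2
        simp only [u₂, hlin] at this
        exact smul_right_injective V hs0 this
      rw [← hghh, show ρ g (ρ S.h (a : V)) = u₁ from w1, hn', S.pow_f_eig hE1 H, pow_one,
        H.lin _ S.hh] at h3
      exact smul_left_injective K (fun h => hu1 (rho_injective ρ _ (h.trans (map_zero _).symm)))
        (h3.trans (one_smul K _).symm)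
    have hgh : ∀ v, ρ g (ρ S.h v) = ρ S.h (ρ g v) := fun v => by
      have h3 := hn' (ρ g v)
      simp only [n, rho_mul, rho_inv_apply] at h3
      obtain ⟨e, rfl⟩ := S.pow_omega_eq_one.1 hωm
      rw [h3, pow_mul, map_pow, S.pow_f, one_pow]
      rfl
    refine end_ext (S.ext_h H (A := fun v => ρ g v) (B := fun v => v) (fun v w => map_add _ v w)
      (fun _ _ => rfl) fun i _ w hw => ?_)
    show ρ g (ρ (S.h ^ i) w) = ρ (S.h ^ i) w
    induction i with
    | zero => rw [pow_zero, rho_one]; exact hV0 w hw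
    | succ i ih => rw [pow_succ', rho_mul, hgh, ih (by omega)]
  · -- components exchanged
    exfalso
    rcases q2 with ⟨c2, -⟩ | ⟨c2, w2⟩ | ⟨c2, -⟩
    · exact hk20 c2
    · obtain ⟨l', hl'⟩ := hscal (mul_mem (inv_mem (mul_mem S.hh S.hh)) hnN)
        (by rw [rho_mul, hna, w1]
            show _ = s • (a : V)
            simp only [u₂]
            rw [H.lin _ (inv_mem (mul_mem S.hh S.hh)), ← rho_mul ρ S.h S.h, rho_inv_apply])
      have hn' : ∀ v, ρ n v = s • ρ S.h (ρ S.h (ρ (S.f ^ l') v)) := fun v => by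
        have h1 := congrArg (fun x => ρ (S.h * S.h) x) (hl' v)
        simp only [rho_mul ρ (S.h * S.h)⁻¹ n, rho_apply_inv, H.lin _ (mul_mem S.hh S.hh)] at h1
        rw [h1, rho_mul]
      have h3 : s • ρ g (ρ S.h (ρ S.h (a : V))) = u₁ := by rw [← hlin]; exact w2
      rw [← hghh, show ρ g (ρ S.h (a : V)) = u₂ from w1] at h3
      simp only [u₂, H.lin n hnN, hn'] at h3
      rw [S.pow_f_eig (S.eig_h H hE1) H, H.lin _ S.hh, H.lin _ S.hh, smul_smul, smul_smul,
        smul_smul] at h3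
      have h5 : (s * (s * (s * (S.ω ^ 2) ^ l'))) • ρ (S.h ^ 3) (a : V) = a :=
        rho_injective ρ S.h (by
          rw [H.lin _ S.hh, hh3]
          exact Eq.trans (by congr 1; ring) h3)
      refine hno (2 * l') (Eq.trans (by congr 1; ring) h5) ?_
      have h6 : S.ω ^ 4 = S.ω := by
        conv_rhs => rw [← c2, hk12, two_mul, pow_add, c1, ← pow_add]
      have h7 : S.ω ^ 3 = 1 := mul_right_cancel₀ S.omega_ne_zero (by rw [← pow_succ, h6, one_mul])
      have := Nat.le_of_dvd (by norm_num) (S.pow_omega_eq_one.1 h7)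
      omega
    · exact hd12 (c1.trans c2.symm)

end Split

end CfsgLib.PairBase
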