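import Cfsg.Agent.Lib.PairBase.FiveModel
import Cfsg.Agent.Lib.PairBase.Step

/-!
# The base in dimension four over the field with five elements
-/

set_option autoImplicit false
set_option maxHeartbeats 1000000
set_option linter.unusedSectionVars false
set_option linter.style.haveILetI false

namespace CfsgLib.PairBase

open CfsgLib.OddBase Five

universe u

variable {G V : Type u} [Group G] [AddCommGroup V]
variable {K : Type u} [Field K] [Module K V]
variable {ρ : G →* AddMonoid.End V} {N : Subgroup G}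

theorem Five.zmod_cases : ∀ z : ZMod 5, z = 0 ∨ z = 1 ∨ z = 2 ∨ z = 3 ∨ z = 4 := by decide

theorem Five.zmod_four : ∀ z : ZMod 5, (4 : ZMod 5) * z = 0 → z = 0 := by decide

theorem Five.zmod_units : (1 : ZMod 5) ≠ 0 ∧ (2 : ZMod 5) ≠ 0 := by decide

theorem Five.field_facts [Finite K] (hq : Nat.card K = 5) :
    (5 : K) = 0 ∧ ∀ k : K, k = 0 ∨ k = 1 ∨ k = 2 ∨ k = 3 ∨ k = 4 := by
  haveI := Fintype.ofFinite K
  rw [Nat.card_eq_fintype_card] at hq
  haveI : Fact (Nat.Prime 5) := ⟨by norm_num⟩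
  haveI : CharP K 5 := charP_of_card_eq_prime hq
  refine ⟨by exact_mod_cast CharP.cast_eq_zero K 5, fun k => ?_⟩
  obtain ⟨z, rfl⟩ := ((Fintype.bijective_iff_injective_and_card (ZMod.castHom dvd_rfl K)).mpr
    ⟨ZMod.castHom_injective K, by rw [ZMod.card, hq]⟩).2 k
  have hz := Five.zmod_cases z
  rcases hz with rfl | rfl | rfl | rfl | rfl <;> simp [map_ofNat]

theorem Five.num_ne [Finite K] (hq : Nat.card K = 5) :
    (2 : K) ≠ 0 ∧ (3 : K) ≠ 0 ∧ (4 : K) ≠ 0 := by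
  obtain ⟨h5, -⟩ := Five.field_facts hq
  refine ⟨fun h => ?_, fun h => ?_, fun h => ?_⟩ <;> refine one_ne_zero (α := K) ?_
  · linear_combination h5 - 2 * h
  · linear_combination 2 * h - h5
  · linear_combination h5 - h

/-- A relation valid on one non-zero vector is valid everywhere. -/
theorem Heis.rel_of_vec (H : Heis ρ K N) {m n : G} (hm : m ∈ N) (hn : n ∈ N) {v₀ : V} (hv : v₀ ≠ 0)
    {s : K} (h : ρ m (ρ n v₀) = s • ρ n (ρ m v₀)) (v : V) : ρ m (ρ n v) = s • ρ n (ρ m v) := by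
  obtain ⟨t, ht⟩ := H.comm m hm n hn
  simp only [rho_mul] at ht
  have hne : ρ n (ρ m v₀) ≠ 0 := fun e => hv (rho_injective ρ m
    ((rho_injective ρ n (e.trans (map_zero _).symm)).trans (map_zero _).symm))
  rw [smul_left_injective K hne (h.symm.trans (ht v₀))]
  exact ht v

/-- Commutators are signs when squares are scalars. -/
theorem Heis.sign (H : Heis ρ K N) (hexp : ∀ n ∈ N, ∃ r : K, ∀ v, ρ (n * n) v = r • v) {m n : G}
    (hm : m ∈ N) (hn : n ∈ N) :
    ∃ t : K, (t = 1 ∨ t = -1) ∧ ∀ v, ρ m (ρ n v) = t • ρ n (ρ m v) := by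
  by_cases hV : ∀ v : V, v = 0
  · exact ⟨1, Or.inl rfl, fun v => by rw [hV (ρ m (ρ n v)), hV (ρ n (ρ m v)), smul_zero]⟩
  push Not at hV
  obtain ⟨v₀, hv₀⟩ := hV
  obtain ⟨t, ht⟩ := H.comm m hm n hn
  simp only [rho_mul] at ht
  obtain ⟨u, hu⟩ := hexp m hm
  simp only [rho_mul] at hu
  have hu0 : u ≠ 0 := fun h => hv₀ (rho_injective ρ m (rho_injective ρ m
    (by rw [hu, h, zero_smul, map_zero, map_zero])))
  have h1 : u • ρ n v₀ = (t * t * u) • ρ n v₀ := by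
    rw [← hu (ρ n v₀), ht, H.lin m hm, ht, smul_smul, hu, H.lin n hn, smul_smul]
  have h2 : (t * t) * u = 1 * u := by
    rw [one_mul]
    exact (smul_left_injective K (fun e => hv₀ (rho_injective ρ n (e.trans (map_zero _).symm)))
      h1).symm
  exact ⟨t, mul_self_eq_one_iff.mp (mul_right_cancel₀ hu0 h2), ht⟩

/-- An element of order two with a companion squaring to one or two. -/
theorem Five.exists_ops [Finite K] [Finite V] [Nontrivial V] (H : Heis ρ K N)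
    (hexp : ∀ n ∈ N, ∃ r : K, ∀ v, ρ (n * n) v = r • v) (hq : Nat.card K = 5)
    (hnt : ∃ T : V →ₗ[K] V, ∀ r : K, ∃ v, T v ≠ r • v) :
    ∃ S : Split ρ K N, S.r = 2 ∧ ∃ r : K, (r = 1 ∨ r = 2) ∧ ∀ v, ρ S.h (ρ S.h v) = r • v := by
  obtain ⟨h5, hK⟩ := Five.field_facts hq
  obtain ⟨h2, -, -⟩ := Five.num_ne hq
  obtain ⟨v₀, hv₀⟩ := exists_ne (0 : V)
  -- a pair of anticommuting elements
  obtain ⟨n, hn, m, hm, hanti⟩ : ∃ n ∈ N, ∃ m ∈ N, ∀ v, ρ m (ρ n v) = (-1 : K) • ρ n (ρ m v) := by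
    obtain ⟨T, hT⟩ := hnt
    by_contra hno
    push Not at hno
    have hcomm : ∀ n ∈ N, ∀ m ∈ N, ∀ v, ρ m (ρ n v) = ρ n (ρ m v) := by
      intro n hn m hm v
      obtain ⟨t, ht1, ht⟩ := H.sign hexp hm hn
      rcases ht1 with rfl | rfl
      · rw [ht, one_smul]
      · obtain ⟨w, hw⟩ := hno n hn m hm
        exact absurd (ht w) hw
    have hscal : ∀ n ∈ N, ∃ c : K, ∀ v, ρ n v = c • v := by
      intro n hn
      exact H.cent
        { toFun := fun v => ρ n v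
          map_add' := fun v w => map_add (ρ n) v w
          map_smul' := fun c v => H.lin n hn c v } (fun m hm v => (hcomm n hn m hm v).symm)
    obtain ⟨r, hr⟩ := H.cent T fun n hn v => by
      obtain ⟨c, hc⟩ := hscal n hn
      rw [hc, hc, map_smul]
    obtain ⟨w, hw⟩ := hT r
    exact hw (hr w)
  -- with one of the squares a square
  obtain ⟨x, hx, y, hy, hxy, s, hs, hsq⟩ : ∃ x ∈ N, ∃ y ∈ N,
      (∀ v, ρ x (ρ y v) = (-1 : K) • ρ y (ρ x v)) ∧
        ∃ s : K, s ≠ 0 ∧ ∀ v, ρ x (ρ x v) = (s * s) • v := by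
    obtain ⟨a, ha⟩ := hexp n hn
    obtain ⟨b, hb⟩ := hexp m hm
    simp only [rho_mul] at ha hb
    have hanti' : ∀ v, ρ n (ρ m v) = (-1 : K) • ρ m (ρ n v) := fun v => by
      rw [hanti, smul_smul, neg_one_mul, neg_neg, one_smul]
    have hsquare : ∀ x ∈ N, ∀ c : K, (∀ v, ρ x (ρ x v) = c • v) → c = 1 ∨ c = 4 →
        ∃ s : K, s ≠ 0 ∧ ∀ v, ρ x (ρ x v) = (s * s) • v := by
      rintro x - c hc (rfl | rfl)
      · exact ⟨1, one_ne_zero, by simpa using hc⟩
      · exact ⟨2, h2, by rw [show (2 : K) * 2 = 4 by norm_num]; exact hc⟩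
    have hne : ∀ (x : G) (c : K), (∀ v, ρ x (ρ x v) = c • v) → c ≠ 0 := fun x c hc h =>
      hv₀ (rho_injective ρ x (rho_injective ρ x (by rw [hc, h, zero_smul, map_zero, map_zero])))
    by_cases hA : a = 1 ∨ a = 4
    · exact ⟨n, hn, m, hm, hanti', hsquare n hn a ha hA⟩
    by_cases hB : b = 1 ∨ b = 4
    · exact ⟨m, hm, n, hn, hanti, hsquare m hm b hb hB⟩
    rw [not_or] at hA hB
    have hA2 : a = 2 ∨ a = 3 := by
      rcases hK a with h | h | h | h | h <;> first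
        | exact absurd h (hne n a ha) | exact absurd h hA.1 | exact absurd h hA.2
        | exact Or.inl h | exact Or.inr h
    have hB2 : b = 2 ∨ b = 3 := by
      rcases hK b with h | h | h | h | h <;> first
        | exact absurd h (hne m b hb) | exact absurd h hB.1 | exact absurd h hB.2
        | exact Or.inl h | exact Or.inr h
    refine ⟨m * n, mul_mem hm hn, n, hn, fun v => ?_,
      hsquare _ (mul_mem hm hn) (-(b * a)) (fun v => ?_) ?_⟩
    · rw [rho_mul, rho_mul, hanti]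
    · rw [rho_mul, rho_mul, hanti', H.lin m hm, hb, ha, smul_smul, smul_smul]
      congr 1
      ring
    · rcases hA2 with rfl | rfl <;> rcases hB2 with rfl | rfl
      · exact Or.inl (by linear_combination (-1 : K) * h5)
      · exact Or.inr (by linear_combination (-2 : K) * h5)
      · exact Or.inr (by linear_combination (-2 : K) * h5)
      · exact Or.inl (by linear_combination (-2 : K) * h5)
  -- scale the companion
  obtain ⟨c, hc⟩ := hexp y hy
  simp only [rho_mul] at hc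
  obtain ⟨s', hs', hr⟩ : ∃ s' : K, s' ≠ 0 ∧ (s' * s' * c = 1 ∨ s' * s' * c = 2) := by
    rcases hK c with rfl | rfl | rfl | rfl | rfl
    · exact absurd (rho_injective ρ y (rho_injective ρ y
        (by rw [hc, zero_smul, map_zero, map_zero]))) hv₀
    · exact ⟨1, one_ne_zero, Or.inl (by ring)⟩
    · exact ⟨1, one_ne_zero, Or.inr (by ring)⟩
    · exact ⟨2, h2, Or.inr (by linear_combination (2 : K) * h5)⟩
    · exact ⟨2, h2, Or.inl (by linear_combination (3 : K) * h5)⟩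
  obtain ⟨zf, hzf, hzf'⟩ := H.scalar s⁻¹ (inv_ne_zero hs)
  obtain ⟨zh, hzh, hzh'⟩ := H.scalar s' hs'
  have hf2 : ∀ v, ρ (zf * x) (ρ (zf * x) v) = v := fun v => by
    rw [rho_mul, rho_mul, hzf', hzf', H.lin x hx, hsq, smul_smul, smul_smul,
      show s⁻¹ * s⁻¹ * (s * s) = 1 by field_simp, one_smul]
  have hcom : ∀ v, ρ (zf * x) (ρ (zh * y) v) = (-1 : K) • ρ (zh * y) (ρ (zf * x) v) := fun v => by
    simp only [rho_mul, hzf', hzh', H.lin x hx, H.lin y hy, hxy, smul_smul]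
    congr 1
    ring
  haveI : Fact (Nat.Prime 5) := ⟨by norm_num⟩
  haveI := Fintype.ofFinite K
  haveI : CharP K 5 := charP_of_card_eq_prime (by rw [← Nat.card_eq_fintype_card, hq])
  refine ⟨{ f := zf * x, h := zh * y, r := 2, ω := -1, hf := mul_mem hzf hx, hh := mul_mem hzh hy,
            prime := Nat.prime_two, pow_f := end_ext fun v => ?_,
            root := IsPrimitiveRoot.neg_one 5 (by norm_num), comm := hcom, fixed := ?_,
            f_ne := fun h => ?_ }, rfl, s' * s' * c, hr, fun v => ?_⟩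
  · rw [sq, rho_mul, hf2]
    rfl
  · by_contra hno
    push Not at hno
    have hneg : ∀ v, ρ (zf * x) v = (-1 : K) • v := fun v => by
      by_contra hv
      refine hno (v + ρ (zf * x) v) (fun e => hv ?_) (by rw [map_add, hf2, add_comm])
      rw [neg_one_smul, eq_neg_iff_add_eq_zero, add_comm, e]
    have h1 := hcom v₀
    rw [hneg, hneg, H.lin _ (mul_mem hzh hy), smul_smul, neg_one_mul, neg_neg, one_smul,
      neg_one_smul, neg_eq_iff_add_eq_zero, ← two_smul K, smul_eq_zero] at h1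
    exact hv₀ (rho_injective ρ _ ((h1.resolve_left h2).trans (map_zero _).symm))
  · have h1 := hcom v₀
    rw [h] at h1
    change ρ (zh * y) v₀ = (-1 : K) • ρ (zh * y) v₀ at h1
    rw [neg_one_smul, eq_neg_iff_add_eq_zero, ← two_smul K, smul_eq_zero] at h1
    exact hv₀ (rho_injective ρ _ ((h1.resolve_left h2).trans (map_zero _).symm))
  · show ρ (zh * y) (ρ (zh * y) v) = _
    rw [rho_mul, rho_mul, hzh', hzh', H.lin y hy, hc, smul_smul, smul_smul]

theorem Five.act_unit : ∀ r : Bool, ∀ w : Word,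
    let R : ZMod 5 := if r then 1 else 2
    act R w (0, 1, 0, 0) =
      (if w.2.2.2.2 then (4 : ℕ) else 1) • sh₂ (act R w (1, 0, 0, 0)) ∧
    act R w (0, 0, 1, 0) =
      (if w.2.2.2.1 then (4 : ℕ) else 1) • sh₁ R (act R w (1, 0, 0, 0)) ∧
    act R w (0, 0, 0, 1) = (if w.2.2.2.1 then (4 : ℕ) else 1) •
      (if w.2.2.2.2 then (4 : ℕ) else 1) • sh₁ R (sh₂ (act R w (1, 0, 0, 0))) := by
  decide +kernel

set_option synthInstance.maxSize 1024 in
set_option synthInstance.maxHeartbeats 100000 in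
theorem Five.word_exists : ∀ r : Bool, ∀ x y : Bool, ∀ q : Q, q ≠ 0 →
    (sg₁ q = q ∨ sg₁ q = -q) → (sg₂ q = q ∨ sg₂ q = -q) →
    ∃ c : Fin 4, ∃ a b : Bool,
      act (if r then 1 else 2) (c, a, b, x, y) (1, 0, 0, 0) = q := by
  decide +kernel

/-- Four operators in coordinates give a triple. -/
theorem Five.triple_of_frame [Finite K] [Finite V] (H : Heis ρ K N) (hq : Nat.card K = 5)
    (hV : Nat.card V = 625) (hexp : ∀ n ∈ N, ∃ r : K, ∀ v, ρ (n * n) v = r • v) (b₀ : Bool)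
    {f₁ h₁ f₂ h₂ : G} (hf₁ : f₁ ∈ N) (hh₁ : h₁ ∈ N) (hf₂ : f₂ ∈ N) (hh₂ : h₂ ∈ N)
    {e : V} (he : e ≠ 0) (e₁ : ρ f₁ e = e) (e₂ : ρ f₂ e = e)
    (s₁ : ∀ v, ρ h₁ (ρ h₁ v) = (if b₀ then 1 else 2 : K) • v) (s₂ : ∀ v, ρ h₂ (ρ h₂ v) = v)
    (a₁ : ∀ v, ρ f₁ (ρ h₁ v) = -ρ h₁ (ρ f₁ v)) (a₂ : ∀ v, ρ f₂ (ρ h₂ v) = -ρ h₂ (ρ f₂ v))
    (c₁₂ : ∀ v, ρ f₁ (ρ h₂ v) = ρ h₂ (ρ f₁ v)) (c₂₁ : ∀ v, ρ f₂ (ρ h₁ v) = ρ h₁ (ρ f₂ v))
    (ch : ∀ v, ρ h₂ (ρ h₁ v) = ρ h₁ (ρ h₂ v)) :
    ∃ a b : V, IsTriple ρ N a b a ∧ a ≠ 0 ∧ b ≠ 0 := by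
  classical
  haveI : Fact (Nat.Prime 5) := ⟨by norm_num⟩
  obtain ⟨h5, hK⟩ := Five.field_facts hq
  haveI := H.normal
  have hexp5 : ∀ v : V, (5 : ℕ) • v = 0 := fun v => by
    rw [← Nat.cast_smul_eq_nsmul K, Nat.cast_ofNat, h5, zero_smul]
  letI : Module (ZMod 5) V := AddCommGroup.zmodModule hexp5
  let R : ZMod 5 := if b₀ then 1 else 2
  have hz : ∀ (g : G) (c : ZMod 5) (v : V), ρ g (c • v) = c • ρ g v := fun g c v =>
    ZMod.map_smul (ρ g) c v
  let Φ : Q →ₗ[ZMod 5] V :=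
    { toFun := fun q => q.1 • e + q.2.1 • ρ h₂ e + q.2.2.1 • ρ h₁ e + q.2.2.2 • ρ h₁ (ρ h₂ e)
      map_add' := fun p q => by simp only [Prod.fst_add, Prod.snd_add, add_smul]; abel
      map_smul' := fun c q => by
        simp only [Prod.smul_fst, Prod.smul_snd, smul_eq_mul, mul_smul, RingHom.id_apply, smul_add] }
  have hΦ : ∀ q : Q, Φ q = q.1 • e + q.2.1 • ρ h₂ e + q.2.2.1 • ρ h₁ e +
      q.2.2.2 • ρ h₁ (ρ h₂ e) := fun q => rfl
  have hR : ∀ v : V, ρ h₁ (ρ h₁ v) = R • v := fun v => by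
    rw [s₁]
    cases b₀
    · show (2 : K) • v = (2 : ZMod 5) • v
      rw [two_smul, two_smul]
    · simp [R]
  have op_f₁ : ∀ q, ρ f₁ (Φ q) = Φ (sg₁ q) := fun q => by
    simp only [hΦ, sg₁, map_add, hz, e₁, c₁₂, a₁, neg_smul, smul_neg]
  have op_f₂ : ∀ q, ρ f₂ (Φ q) = Φ (sg₂ q) := fun q => by
    simp only [hΦ, sg₂, map_add, hz, e₂, c₂₁, a₂, map_neg, neg_smul, smul_neg]
  have op_h₁ : ∀ q, ρ h₁ (Φ q) = Φ (sh₁ R q) := fun q => by
    simp only [hΦ, sh₁, map_add, hz, hR, mul_comm R, mul_smul]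
    abel
  have op_h₂ : ∀ q, ρ h₂ (Φ q) = Φ (sh₂ q) := fun q => by
    simp only [hΦ, sh₂, map_add, hz, s₂, ch]
    abel
  have hinj : Function.Injective Φ := by
    refine (injective_iff_map_eq_zero Φ).mpr fun q hq0 => ?_
    have hfirst : ∀ p, Φ p = 0 → p.1 = 0 := by
      intro p hp
      have h1 : Φ (p + sg₁ p) = 0 := by rw [map_add, ← op_f₁, hp, map_zero, add_zero]
      have h2 : Φ ((p + sg₁ p) + sg₂ (p + sg₁ p)) = 0 := by
        rw [map_add, ← op_f₂, h1, map_zero, add_zero]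
      rw [show (p + sg₁ p) + sg₂ (p + sg₁ p) = (4 * p.1, 0, 0, 0) by
        simp [sg₁, sg₂, Prod.ext_iff]; ring, hΦ] at h2
      simp only [zero_smul, add_zero] at h2
      have h3 : (4 : ZMod 5) * p.1 = 0 := by
        by_contra hne
        exact he (by rw [← inv_smul_smul₀ hne e, h2, smul_zero])
      exact Five.zmod_four _ h3
    have hR0 : R ≠ 0 := by cases b₀ <;> simp [R, Five.zmod_units.1, Five.zmod_units.2]
    have h0 := hfirst q hq0
    have h1 := hfirst (sh₂ q) (by rw [← op_h₂, hq0, map_zero])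
    have h2 := hfirst (sh₁ R q) (by rw [← op_h₁, hq0, map_zero])
    have h3 := hfirst (sh₁ R (sh₂ q)) (by rw [← op_h₁, ← op_h₂, hq0, map_zero, map_zero])
    have h2' : q.2.2.1 = 0 := (mul_eq_zero.mp h2).resolve_left hR0
    have h3' : q.2.2.2 = 0 := (mul_eq_zero.mp h3).resolve_left hR0
    exact Prod.ext h0 (Prod.ext h1 (Prod.ext h2' h3'))
  have hbij : Function.Bijective Φ := by
    haveI := Fintype.ofFinite V
    refine (Fintype.bijective_iff_injective_and_card Φ).mpr ⟨hinj, ?_⟩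
    rw [← Nat.card_eq_fintype_card, ← Nat.card_eq_fintype_card, hV]
    simp
  have hneg : ∀ v : V, (-1 : K) • v = -v := fun v => by rw [neg_smul, one_smul]
  -- every element of `N` is a word
  have hword : ∀ n ∈ N, ∃ w, ∀ q, ρ n (Φ q) = Φ (act R w q) := by
    intro n hn
    obtain ⟨q₀, hq₀⟩ := hbij.2 (ρ n e)
    have hne : q₀ ≠ 0 := fun h => he (rho_injective ρ n (by rw [← hq₀, h, map_zero, map_zero]))
    have hsig : ∀ f ∈ N, ∀ sg : Q → Q, (∀ q, ρ f (Φ q) = Φ (sg q)) → ρ f e = e →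
        sg q₀ = q₀ ∨ sg q₀ = -q₀ := by
      intro f hf sg hop hfe
      obtain ⟨t, ht1, ht⟩ := H.sign hexp hf hn
      have h1 := hop q₀
      rw [hq₀, ht e, hfe, ← hq₀] at h1
      rcases ht1 with rfl | rfl
      · exact Or.inl (hinj (by rw [← h1, one_smul]))
      · exact Or.inr (hinj (by rw [← h1, hneg, map_neg]))
    have hh : ∀ h ∈ N, ∃ x : Bool,
        ∀ v, ρ n (ρ h v) = (if x then (4 : ℕ) else 1) • ρ h (ρ n v) := by
      intro h hh
      obtain ⟨t, ht1, ht⟩ := H.sign hexp hn hh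
      rcases ht1 with rfl | rfl
      · exact ⟨false, fun v => by rw [ht, one_smul, if_neg Bool.false_ne_true, one_nsmul]⟩
      · refine ⟨true, fun v => ?_⟩
        rw [ht, hneg, if_pos rfl, neg_eq_iff_add_eq_zero, ← succ_nsmul']
        exact hexp5 _
    obtain ⟨x, hx⟩ := hh h₁ hh₁
    obtain ⟨y, hy⟩ := hh h₂ hh₂
    obtain ⟨c, a, b, hw⟩ := Five.word_exists b₀ x y q₀ hne (hsig f₁ hf₁ sg₁ op_f₁ e₁)
      (hsig f₂ hf₂ sg₂ op_f₂ e₂)
    refine ⟨(c, a, b, x, y), fun q => ?_⟩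
    obtain ⟨u2, u3, u4⟩ := Five.act_unit b₀ (c, a, b, x, y)
    have hlin : ∀ (p : Q) (k : ZMod 5), act R (c, a, b, x, y) (k • p) =
        k • act R (c, a, b, x, y) p := fun p k => by
      simp only [act, sg₁, sg₂, sh₁, sh₂]
      split_ifs <;> simp [Prod.ext_iff] <;> refine ⟨?_, ?_, ?_, ?_⟩ <;> ring
    have hadd : ∀ p p' : Q, act R (c, a, b, x, y) (p + p') =
        act R (c, a, b, x, y) p + act R (c, a, b, x, y) p' := fun p p' => by
      simp only [act, sg₁, sg₂, sh₁, sh₂]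
      split_ifs <;> simp [Prod.ext_iff] <;> ring_nf <;> simp
    have hq : q = q.1 • ((1, 0, 0, 0) : Q) + q.2.1 • ((0, 1, 0, 0) : Q) +
        q.2.2.1 • ((0, 0, 1, 0) : Q) + q.2.2.2 • ((0, 0, 0, 1) : Q) := by
      simp [Prod.ext_iff]
    conv_rhs => rw [hq]
    rw [hadd, hadd, hadd, hlin, hlin, hlin, hlin, u2, u3, u4, hw, hΦ]
    have op' : ∀ q, ρ h₁ (Φ q) = Φ (sh₁ (if b₀ then 1 else 2) q) := op_h₁
    simp only [map_add, hz, map_smul, map_nsmul, ← op', ← op_h₂, hq₀, hx, hy]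
  have hreal : ∀ w : Word, ∃ n ∈ N, ∀ q, ρ n (Φ q) = Φ (act R w q) := by
    intro w
    obtain ⟨z, hzN, hzv⟩ := H.scalar ((w.1.val + 1 : ℕ) : K) (by
      obtain ⟨h2, h3, h4⟩ := Five.num_ne hq
      obtain ⟨c, w⟩ := w
      fin_cases c <;> norm_num <;> assumption)
    refine ⟨z * ((if w.2.1 then h₁ else 1) * ((if w.2.2.1 then h₂ else 1) *
      ((if w.2.2.2.1 then f₁ else 1) * (if w.2.2.2.2 then f₂ else 1)))),
      mul_mem hzN (mul_mem (by split_ifs <;> [exact hh₁; exact one_mem N])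
        (mul_mem (by split_ifs <;> [exact hh₂; exact one_mem N])
          (mul_mem (by split_ifs <;> [exact hf₁; exact one_mem N])
            (by split_ifs <;> [exact hf₂; exact one_mem N])))), fun q => ?_⟩
    rw [rho_mul, rho_mul, rho_mul, rho_mul, hzv, Nat.cast_smul_eq_nsmul]
    simp only [act]
    rw [Nat.cast_smul_eq_nsmul, map_nsmul]
    congr 1
    have e : ∀ (c : Bool) (h : G) (op : Q → Q), (∀ q, ρ h (Φ q) = Φ (op q)) → ∀ q,
        ρ (if c then h else 1) (Φ q) = Φ (if c then op q else q) := fun c h op hop q => by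
      cases c <;> simp [hop]
    rw [e _ _ _ op_f₂, e _ _ _ op_f₁, e _ _ _ op_h₂, e _ _ _ op_h₁]
  obtain ⟨C⟩ : Nonempty (Cert R) := by
    cases b₀
    · exact ⟨certTwo⟩
    · exact ⟨certOne⟩
  let a := Φ C.A
  let b := Φ C.B
  have horb : ∀ x : Q, x ∈ orb R C.A ↔ ∃ n ∈ N, ρ n a = Φ x := by
    intro x
    simp only [orb, Finset.mem_image, Finset.mem_univ, true_and]
    constructor
    · rintro ⟨w, rfl⟩
      obtain ⟨n, hn, hw⟩ := hreal w
      exact ⟨n, hn, hw _⟩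
    · rintro ⟨n, hn, h⟩
      obtain ⟨w, hw⟩ := hword n hn
      exact ⟨w, hinj (by rw [← hw]; exact h)⟩
  have hreg : Regular ρ N a := by
    intro n hn hna
    obtain ⟨w, hw⟩ := hword n hn
    have h1 := C.regular w (hinj (by rw [← hw]; exact hna))
    refine end_ext fun v => ?_
    obtain ⟨q, rfl⟩ := hbij.2 v
    rw [hw, h1]
    simp [act, oneWord]
  have hA0 : C.A ≠ 0 := fun h => by
    have := C.regular (1, false, false, false, false) (by rw [h]; simp [act])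
    simp [oneWord] at this
  have hB0 : C.B ≠ 0 := C.nzB
  have ha0 : a ≠ 0 := fun h => hA0 (hinj (h.trans (map_zero Φ).symm))
  have hb0 : b ≠ 0 := fun h => hB0 (hinj (h.trans (map_zero Φ).symm))
  refine ⟨a, b, ⟨hreg, hreg, fun n hn h => ?_, fun g hga hgb _ _ _ => ?_⟩, ha0, hb0⟩
  · obtain ⟨w, hw⟩ := hword n hn
    exact C.apart w (hinj (by rw [← hw]; exact h))
  -- `g` commutes with the recognised elements
  have hgi : ρ g⁻¹ a = a := by
    conv_lhs => rw [← hga]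
    exact rho_inv_apply ρ g a
  have hgorb : ∀ x y : Q, Φ y = ρ g (Φ x) → (y ∈ orb R C.A ↔ x ∈ orb R C.A) := by
    intro x y hxy
    rw [horb, horb]
    constructor
    · rintro ⟨n, hn, h⟩
      refine ⟨g⁻¹ * n * g, by simpa using H.normal.conj_mem n hn g⁻¹, ?_⟩
      rw [rho_mul, rho_mul, hga, h, hxy, rho_inv_apply]
    · rintro ⟨n, hn, h⟩
      refine ⟨g * n * g⁻¹, H.normal.conj_mem n hn g, ?_⟩
      rw [rho_mul, rho_mul, hgi, h, hxy]
  have hgen : ∀ (i : Fin 4) (q : Q),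
      ρ g (Φ (act R (C.gens i) q)) = ρ (Classical.choose (hreal (C.gens i))) (ρ g (Φ q)) := by
    intro i q
    obtain ⟨hn, hnw⟩ := Classical.choose_spec (hreal (C.gens i))
    generalize Classical.choose (hreal (C.gens i)) = n at hn hnw ⊢
    have hm : g * n * g⁻¹ ∈ N := H.normal.conj_mem n hn g
    obtain ⟨w, hw⟩ := hword _ hm
    have hma : ρ (g * n * g⁻¹) a = ρ g (ρ n a) := by rw [rho_mul, rho_mul, hgi]
    have hcol : colour (orb R C.A) C.A C.B C.tests (act R w C.A) =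
        colour (orb R C.A) C.A C.B C.tests (act R (C.gens i) C.A) := by
      refine List.map_congr_left fun t _ => decide_eq_decide.mpr (hgorb _ _ ?_)
      simp only [map_add, map_nsmul]
      rw [← hw, ← hnw]
      change _ + t.1 • a + t.2 • b = _
      rw [hma, hga, hgb]
    have h1 := C.unique i w hcol
    have h2 : ρ (n⁻¹ * (g * n * g⁻¹)) a = a := by
      rw [rho_mul, show ρ (g * n * g⁻¹) a = ρ n a from (hw _).trans (by rw [h1, ← hnw]),
        rho_inv_apply]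
    have h3 := hreg _ (mul_mem (inv_mem hn) hm) h2
    have h4 : ρ (g * n * g⁻¹) = ρ n := by
      rw [← mul_inv_cancel_left n (g * n * g⁻¹), map_mul, h3, mul_one]
    rw [← hnw]
    conv_rhs => rw [← h4, rho_mul, rho_mul, rho_inv_apply]
  let Com : (Q → Q) → Prop := fun op => ∃ n : G, (∀ q, ρ n (Φ q) = Φ (op q)) ∧
    ∀ q, ρ g (Φ (op q)) = ρ n (ρ g (Φ q))
  have hcomp : ∀ op op', Com op → Com op' → Com fun q => op (op' q) := by
    rintro op op' ⟨n, hn, hg⟩ ⟨n', hn', hg'⟩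
    exact ⟨n * n', fun q => by rw [rho_mul, hn', hn],
      fun q => by rw [hg, hg', ← rho_mul ρ n n']⟩
  have hite : ∀ (c : Bool) (i : Fin 4), Com fun q => if c then act R (C.gens i) q else q := by
    intro c i
    cases c
    · exact ⟨1, fun q => by simp, fun q => by simp⟩
    · exact ⟨_, (Classical.choose_spec (hreal (C.gens i))).2, fun q => by simpa using hgen i q⟩
  have hfour : ∀ t : Fin 4, ∀ q, ρ g (ρ (![f₁, f₂, h₁, h₂] t) (Φ q)) =
      ρ (![f₁, f₂, h₁, h₂] t) (ρ g (Φ q)) := by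
    intro t q
    have hop : ∀ q, ρ (![f₁, f₂, h₁, h₂] t) (Φ q) = Φ (![sg₁, sg₂, sh₁ R, sh₂] t q) := by
      fin_cases t
      exacts [op_f₁, op_f₂, op_h₁, op_h₂]
    obtain ⟨c, e', hce⟩ := C.gen t
    obtain ⟨n, hn, hng⟩ := hcomp _ _ (hite (e' 0) 0) (hcomp _ _ (hite (e' 1) 1)
      (hcomp _ _ (hite (e' 2) 2) (hite (e' 3) 3)))
    obtain ⟨q', hq'⟩ := hbij.2 (ρ g (Φ q))
    rw [hop, hce, map_nsmul, map_nsmul, hng, ← hq', hn, hop, hce, map_nsmul]
  have hall : ∀ n ∈ N, ∀ v, ρ g (ρ n v) = ρ n (ρ g v) := by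
    intro n hn v
    obtain ⟨q, rfl⟩ := hbij.2 v
    obtain ⟨⟨c, i, j, k, l⟩, hw⟩ := hword n hn
    obtain ⟨q', hq'⟩ := hbij.2 (ρ g (Φ q))
    have hC : ∀ (c : Bool) (t : Fin 4) (op : Q → Q), (∀ q, ρ (![f₁, f₂, h₁, h₂] t) (Φ q) = Φ (op q)) →
        ∀ x x', Φ x' = ρ g (Φ x) →
          Φ (if c then op x' else x') = ρ g (Φ (if c then op x else x)) := by
      intro c t op hop x x' hxx
      cases c
      · exact hxx
      · show Φ (op x') = ρ g (Φ (op x))
        rw [← hop, ← hop, hxx, hfour]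
    rw [hw, ← hq', hw]
    simp only [act, Nat.cast_smul_eq_nsmul, map_nsmul]
    congr 1
    exact (hC i 2 _ op_h₁ _ _ (hC j 3 _ op_h₂ _ _ (hC k 0 _ op_f₁ _ _ (hC l 1 _ op_f₂ _ _ hq')))).symm
  have hsmul : ∀ (k : K) (v : V), ρ g (k • v) = k • ρ g v := by
    intro k v
    have hnat : ∃ l : ℕ, (l : K) = k := by
      rcases hK k with rfl | rfl | rfl | rfl | rfl
      exacts [⟨0, by simp⟩, ⟨1, by simp⟩, ⟨2, by simp⟩, ⟨3, by simp⟩, ⟨4, by simp⟩]
    obtain ⟨l, rfl⟩ := hnat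
    rw [Nat.cast_smul_eq_nsmul, Nat.cast_smul_eq_nsmul, map_nsmul]
  obtain ⟨k, hk⟩ := H.cent
    { toFun := fun v => ρ g v
      map_add' := fun v w => map_add (ρ g) v w
      map_smul' := hsmul } hall
  have hk1 : k = 1 := smul_left_injective K ha0 (((hk a).symm.trans hga).trans (one_smul K a).symm)
  exact end_ext fun v => by
    have := hk v
    rw [hk1, one_smul] at this
    exact this

/-- An element of the layer preserving the fixed space may be corrected to commute with the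
splitting, without changing it there. -/
theorem Split.exists_commuting [Finite V] (S : Split ρ K N) (H : Heis ρ K N)
    (hexp : ∀ n ∈ N, ∃ r : K, ∀ v, ρ (n * n) v = r • v) (hr : S.r = 2) {n : G} (hn : n ∈ N)
    (hnG : n ∈ S.G0) :
    ∃ n' ∈ N, (∀ v, ρ S.f (ρ n' v) = ρ n' (ρ S.f v)) ∧ (∀ v, ρ n' (ρ S.h v) = ρ S.h (ρ n' v)) ∧
      ∀ v ∈ S.V0, ρ n' v = ρ n v := by
  obtain ⟨w, hw0, hw⟩ := S.fixed
  have hω : S.ω = -1 := (show IsPrimitiveRoot S.ω 2 from hr ▸ S.root).eq_neg_one_of_two_right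
  have hfn : ∀ v, ρ S.f (ρ n v) = ρ n (ρ S.f v) := fun v => by
    have h1 := H.rel_of_vec S.hf hn hw0 (s := 1) (by
      rw [one_smul, show ρ S.f (ρ n w) = ρ n w from (hnG w).2 hw, hw]) v
    rwa [one_smul] at h1
  obtain ⟨t, ht1, ht⟩ := H.sign hexp hn S.hh
  rcases ht1 with rfl | rfl
  · exact ⟨n, hn, hfn, fun v => by rw [ht, one_smul], fun v _ => rfl⟩
  · refine ⟨n * S.f, mul_mem hn S.hf, fun v => ?_, fun v => ?_, fun v hv => ?_⟩
    · rw [rho_mul, rho_mul, hfn]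
    · rw [rho_mul, rho_mul, S.comm, hω, H.lin n hn, ht, smul_smul, neg_one_mul, neg_neg, one_smul]
    · rw [rho_mul, show ρ S.f v = v from hv]

theorem Five.exists_nonscalar {W : Type u} [AddCommGroup W] [Module K W] [Finite W] [Finite K]
    {d : ℕ} (hd : 2 ≤ d) (hW : Nat.card W = Nat.card K ^ d) :
    ∃ T : W →ₗ[K] W, ∀ r : K, ∃ v, T v ≠ r • v := by
  haveI : Module.Finite K W := Module.Finite.of_finite
  have hfin : Module.finrank K W = d := by
    rw [Module.natCard_eq_pow_finrank (K := K)] at hW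
    exact Nat.pow_right_injective Finite.one_lt_card hW
  haveI : Nontrivial W := Module.nontrivial_of_finrank_pos (R := K) (by omega)
  obtain ⟨w₀, hw₀⟩ := exists_ne (0 : W)
  obtain ⟨φ, hφ⟩ : ∃ φ : W →ₗ[K] K, φ w₀ = 1 := by
    obtain ⟨φ, hφ⟩ := (Module.forall_dual_apply_eq_zero_iff K w₀).not.mpr hw₀ |> not_forall.mp
    exact ⟨(φ w₀)⁻¹ • φ, by simp [hφ]⟩
  refine ⟨φ.smulRight w₀, fun r => ?_⟩
  by_contra hno
  push Not at hno
  have h1 : r = 1 := by
    have h := hno w₀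
    rw [LinearMap.smulRight_apply, hφ] at h
    exact (smul_left_injective K hw₀ h).symm
  have h2 := finrank_le_one w₀ fun w => ⟨φ w, by
    have h := hno w
    rw [LinearMap.smulRight_apply, h1, one_smul] at h
    exact h⟩
  omega

/-- The base in dimension four over the field with five elements. -/
theorem base_five [Finite G] [Finite V] [Finite K] (H : Heis ρ K N) (hcop : (Nat.card G : K) ≠ 0)
    (hexp : ∀ n ∈ N, ∃ r : K, ∀ v, ρ (n * n) v = r • v) (hq : Nat.card K = 5)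
    (he : Module.finrank K V = 4) :
    ∃ a b : V, IsTriple ρ N a b a ∧ a ≠ 0 ∧ b ≠ 0 := by
  haveI : Module.Finite K V := Module.Finite.of_finite
  haveI : Nontrivial V := Module.nontrivial_of_finrank_pos (R := K) (by omega)
  have hV : Nat.card V = 5 ^ 4 := by rw [Module.natCard_eq_pow_finrank (K := K), he, hq]
  obtain ⟨h5, hK⟩ := Five.field_facts hq
  obtain ⟨S, hr, r₁, hr₁, hs₁⟩ := Five.exists_ops H hexp hq
    (Five.exists_nonscalar (d := 4) (by norm_num) (by rw [hV, hq]))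
  letI := S.mod0 H
  haveI := S.nontrivial_V0
  have hV0 : Nat.card S.V0 = 5 ^ 2 := by
    have h := S.card_pow H
    rw [hV, hr, show (5 : ℕ) ^ 4 = (5 ^ 2) ^ 2 by norm_num] at h
    exact Nat.pow_left_injective two_ne_zero h.symm
  have hexp0 : ∀ n ∈ S.N0, ∃ r : K, ∀ v, S.ρ0 (n * n) v = r • v := fun n hn => by
    obtain ⟨r, hr⟩ := hexp n hn
    exact ⟨r, fun v => Subtype.ext (hr v)⟩
  obtain ⟨S', hr', r₂, hr₂, hs₂⟩ := Five.exists_ops (S.heis0 H) hexp0 hq
    (Five.exists_nonscalar (d := 2) le_rfl (by rw [hV0, hq]))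
  obtain ⟨f₂, hf₂, cf₁, cf₂, hf₂0⟩ := S.exists_commuting H hexp hr (n := ((S'.f : S.G0) : G)) S'.hf (S'.f : S.G0).2
  obtain ⟨h₂, hh₂, ch₁, ch₂, hh₂0⟩ := S.exists_commuting H hexp hr (n := ((S'.h : S.G0) : G)) S'.hh (S'.h : S.G0).2
  obtain ⟨e, he0, hee⟩ := S'.fixed
  have heV : (e : V) ≠ 0 := fun h => he0 (Subtype.ext h)
  have e1 : ρ S.f (e : V) = e := e.2
  have e2 : ρ f₂ (e : V) = e := by rw [hf₂0 _ e.2]; exact congrArg Subtype.val hee
  have hω : S.ω = -1 := (show IsPrimitiveRoot S.ω 2 from hr ▸ S.root).eq_neg_one_of_two_right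
  have hω' : S'.ω = -1 :=
    (show IsPrimitiveRoot S'.ω 2 from hr' ▸ S'.root).eq_neg_one_of_two_right
  have hanti₁ : ∀ v, ρ S.f (ρ S.h v) = -ρ S.h (ρ S.f v) := fun v => by
    rw [S.comm, hω, neg_smul, one_smul]
  -- the second pair on the whole space
  obtain ⟨u, hu⟩ := hexp h₂ hh₂
  simp only [rho_mul] at hu
  have hval : ρ h₂ (ρ h₂ (e : V)) = r₂ • (e : V) := by
    rw [hh₂0 _ e.2, hh₂0 _ ((S'.h : S.G0).2 _ |>.2 e.2)]
    exact congrArg Subtype.val (hs₂ e)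
  have hu2 : u = r₂ := smul_left_injective K heV ((hu _).symm.trans hval)
  subst hu2
  have hf2sq : ∀ v, ρ f₂ (ρ f₂ v) = v := by
    obtain ⟨c, hc⟩ := hexp f₂ hf₂
    simp only [rho_mul] at hc
    have : c = 1 := smul_left_injective K heV (by
      show c • (e : V) = (1 : K) • (e : V)
      rw [← hc, e2, e2, one_smul])
    intro v
    rw [hc, this, one_smul]
  have hanti₂ : ∀ v, ρ f₂ (ρ h₂ v) = -ρ h₂ (ρ f₂ v) := fun v => by
    have h := H.rel_of_vec hf₂ hh₂ heV (s := -1) (by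
      rw [e2, hh₂0 _ e.2, hf₂0 _ ((S'.h : S.G0).2 _ |>.2 e.2)]
      have h1 := congrArg Subtype.val (S'.comm e)
      rw [hee, hω'] at h1
      exact h1) v
    rwa [neg_smul, one_smul] at h
  have hV' : Nat.card V = 625 := by rw [hV]; norm_num
  rcases hr₂ with rfl | rfl
  · have hb : ∃ b₀ : Bool, ∀ v, ρ S.h (ρ S.h v) = (if b₀ then 1 else 2 : K) • v := by
      rcases hr₁ with rfl | rfl
      exacts [⟨true, hs₁⟩, ⟨false, hs₁⟩]
    obtain ⟨b₀, hb⟩ := hb
    exact Five.triple_of_frame H hq hV' hexp b₀ S.hf S.hh hf₂ hh₂ heV e1 e2 hb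
      (fun v => by rw [hu, one_smul]) hanti₁ hanti₂ ch₁ (fun v => cf₂ v) ch₂
  rcases hr₁ with rfl | rfl
  · exact Five.triple_of_frame H hq hV' hexp false hf₂ hh₂ S.hf S.hh heV e2 e1
      (by simpa using hu) (fun v => by rw [hs₁, one_smul]) hanti₂ hanti₁ cf₂
      (fun v => ch₁ v) (fun v => (ch₂ v).symm)
  · obtain ⟨z, hzN, hz⟩ := H.scalar (2 : K)⁻¹ (inv_ne_zero (Five.num_ne hq).1)
    refine Five.triple_of_frame H hq hV' hexp false (f₁ := S.f * f₂) (h₁ := S.h) (f₂ := f₂)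
      (h₂ := z * (S.h * h₂)) (mul_mem S.hf hf₂) S.hh hf₂ (mul_mem hzN (mul_mem S.hh hh₂)) heV
      (by rw [rho_mul, e2, e1]) e2 (by simpa using hs₁) (fun v => ?_) (fun v => ?_) (fun v => ?_)
      (fun v => ?_) cf₂ (fun v => ?_)
    · simp only [rho_mul, hz, H.lin _ S.hh, H.lin _ hh₂, smul_smul, ch₂, hs₁, hu]
      rw [show ((2 : K)⁻¹ * ((2 : K)⁻¹ * 2 * 2)) = 1 by
        field_simp [(Five.num_ne hq).1]] <;> simp
    · simp only [rho_mul]
      rw [cf₂, hanti₁]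
    · simp only [rho_mul, hz, H.lin _ hf₂]
      rw [cf₂, hanti₂, map_neg, smul_neg]
    · simp only [rho_mul, hz, H.lin _ hf₂, H.lin _ S.hf]
      rw [cf₂, hanti₂, map_neg, map_neg, hanti₁, neg_neg, ch₁, cf₁]
    · simp only [rho_mul, hz, H.lin _ S.hh, ch₂]

end CfsgLib.PairBase
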