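import Cfsg.Agent.Lib.PairBase.ThreeAct

/-!
# The base in dimensions four and eight over the field with three elements
-/

set_option autoImplicit false
set_option maxHeartbeats 1000000
set_option linter.unusedSectionVars false
set_option linter.style.haveILetI false

namespace CfsgLib.PairBase

open CfsgLib.OddBase

universe u

variable {G V : Type u} [Group G] [AddCommGroup V]
variable {K : Type u} [Field K] [Module K V]
variable {ρ : G →* AddMonoid.End V} {N : Subgroup G}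

theorem ne_neg_of_two (h2 : (2 : K) ≠ 0) {v : V} (hv : v ≠ 0) : v ≠ -v := fun h =>
  hv ((smul_eq_zero.1 (show (2 : K) • v = 0 by
    rw [two_smul]; nth_rw 1 [h]; exact neg_add_cancel v)).resolve_left h2)

/-- Three vectors filling three places with the same vector sit in different places. -/
theorem three_places {x₀ x₁ x₂ : Fin 3} {p₀ p₁ p₂ e : V} (he : e ≠ 0)
    (h₀ : (if x₀ = 0 then p₀ else 0) + (if x₁ = 0 then p₁ else 0) + (if x₂ = 0 then p₂ else 0) = e)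
    (h₁ : (if x₀ = 1 then p₀ else 0) + (if x₁ = 1 then p₁ else 0) + (if x₂ = 1 then p₂ else 0) = e)
    (h₂ : (if x₀ = 2 then p₀ else 0) + (if x₁ = 2 then p₁ else 0) + (if x₂ = 2 then p₂ else 0) = e) :
    (p₀ = e ∧ p₁ = e ∧ p₂ = e) ∧ x₀ ≠ x₁ ∧ x₀ ≠ x₂ ∧ x₁ ≠ x₂ := by
  have he' : ¬ (0 : V) = e := fun h => he h.symm
  fin_cases x₀ <;> fin_cases x₁ <;> fin_cases x₂ <;> simp [he'] at h₀ h₁ h₂ ⊢ <;>
    exact ⟨by assumption, by assumption, by assumption⟩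

/-- The configuration in dimension four. -/
theorem Fr.plus_four [Finite G] [Finite V] [Nontrivial V] (F : Fr ρ K N) (H : Heis ρ K N)
    (h2 : (2 : K) ≠ 0) (hpm : ∀ t : K, t ≠ 0 → t = 1 ∨ t = -1) {e : V} (he : e ∈ F.U) (he0 : e ≠ 0)
    (hline : ∀ u ∈ F.U, ∃ c : K, u = c • e) :
    ∃ a A v : V, a ≠ 0 ∧ A ≠ 0 ∧ v ≠ 0 ∧ Regular ρ N a ∧ ¬ Regular ρ N A ∧ ¬ Regular ρ N v ∧
      ∀ g, ρ g a = a → ρ g A = A → (ρ g v = v ∨ ρ g v = -v) → ρ g = 1 := by
  have hnf : ∀ k ∈ N, ∀ u ∈ F.U, u ≠ 0 → ρ k u = u → ∀ v ∈ F.U, ρ k v = v := by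
    intro k hk u hu hu0 hku v hv
    obtain ⟨c, rfl⟩ := hline u hu
    obtain ⟨d, rfl⟩ := hline v hv
    rw [H.lin k hk] at hku ⊢
    rw [smul_right_injective V (fun hc : c = 0 => hu0 (by rw [hc, zero_smul])) hku]
  have hz : (0 : V) ∈ F.U := zero_mem _
  have hne := ne_neg_of_two h2 he0
  have hreg := F.regular_three H h2 hpm hnf he he he he0 he0 he0
  have hv0 : F.emb 0 e 0 e ≠ 0 := fun h => by
    exact he0 (F.emb_inj H h2 hz he hz he hz hz hz hz (h.trans (F.emb_first 0).symm)).2.1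
  have ha0 : F.emb e e e 0 ≠ 0 := fun h => by
    exact he0 (F.emb_inj H h2 he he he hz hz hz hz hz (h.trans (F.emb_first 0).symm)).1
  have hvn : ¬ Regular ρ N (F.emb 0 e 0 e) := by
    intro hr
    obtain ⟨z, hzN, hz'⟩ := H.scalar (-1) (neg_ne_zero.2 one_ne_zero)
    have h1 := hr (z * F.f₁) (mul_mem hzN F.hf₁) (by
      have h' := F.mem_U.1 he
      simp only [rho_mul, hz', emb, map_add, map_zero, F.c11, F.c12, map_neg, h'.1, smul_add,
        smul_neg, neg_one_smul, neg_neg, neg_zero, smul_zero])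
    have h3 := DFunLike.congr_fun h1 e
    rw [rho_mul, (F.mem_U.1 he).1, hz', neg_one_smul] at h3
    exact hne h3.symm
  refine ⟨_, e, _, ha0, he0, hv0, hreg, F.not_regular_of_mem H h2 he he0, hvn,
    fun g hga hgA hgv => ?_⟩
  obtain ⟨hgU, π, m, -, hmU, hm⟩ := F.perm H h2 hnf he he0 hgA
  have hp0 : ∀ i, ρ (m i) e ≠ 0 := fun i h =>
    he0 (rho_injective ρ (m i) (h.trans (map_zero _).symm))
  have hite : ∀ (i : Fin 3) (u : V), u ∈ F.U → ∀ c : Prop, ∀ [Decidable c],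
      (if c then ρ (m i) (ρ g u) else 0) ∈ F.U := fun i u hu c _ => by
    split
    · exact hmU i _ (hgU u hu)
    · exact hz
  rw [F.perm_emb hm he he hz] at hga
  obtain ⟨-, a1, a2, a3⟩ := F.emb_inj H h2 (hgU e he)
    (add_mem (add_mem (hite _ _ he _) (hite _ _ he _)) (hite _ _ hz _))
    (add_mem (add_mem (hite _ _ he _) (hite _ _ he _)) (hite _ _ hz _))
    (add_mem (add_mem (hite _ _ he _) (hite _ _ he _)) (hite _ _ hz _))
    he he he hz hga
  obtain ⟨s, hs, hgv⟩ : ∃ s : K, (s = 1 ∨ s = -1) ∧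
      ρ g (F.emb 0 e 0 e) = s • F.emb 0 e 0 e := by
    rcases hgv with h | h
    · exact ⟨1, Or.inl rfl, by rw [one_smul]; exact h⟩
    · exact ⟨-1, Or.inr rfl, by rw [neg_one_smul]; exact h⟩
  rw [F.perm_emb hm he hz he, F.emb_smul H] at hgv
  obtain ⟨-, v1, v2, v3⟩ := F.emb_inj H h2 (hgU 0 hz)
    (add_mem (add_mem (hite _ _ he _) (hite _ _ hz _)) (hite _ _ he _))
    (add_mem (add_mem (hite _ _ he _) (hite _ _ hz _)) (hite _ _ he _))
    (add_mem (add_mem (hite _ _ he _) (hite _ _ hz _)) (hite _ _ he _))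
    (F.U_smul H hz s) (F.U_smul H he s) (F.U_smul H hz s) (F.U_smul H he s) hgv
  simp only [hgA, map_zero, smul_zero, ite_self, add_zero] at a1 a2 a3 v1 v2 v3
  have hall : π 0 = 0 ∧ π 1 = 1 ∧ π 2 = 2 ∧
      ρ (m 0) e = e ∧ ρ (m 1) e = e ∧ ρ (m 2) e = e := by
    have q0 := hp0 0
    have q1 := hp0 1
    have q2 := hp0 2
    generalize π 0 = x0, π 1 = x1, π 2 = x2 at a1 a2 a3 v1 v2 v3 ⊢
    generalize ρ (m 0) e = p0, ρ (m 1) e = p1, ρ (m 2) e = p2 at a1 a2 a3 v1 v2 v3 q0 q1 q2 ⊢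
    rcases hs with rfl | rfl <;> fin_cases x0 <;> fin_cases x1 <;> fin_cases x2 <;>
      simp_all
  obtain ⟨b0, b1, b2, c0, c1, c2⟩ := hall
  refine F.eq_one_of_emb H h2 fun a' ha' b' hb' c' hc' d' hd' => ?_
  obtain ⟨α, rfl⟩ := hline a' ha'
  obtain ⟨β, rfl⟩ := hline b' hb'
  obtain ⟨γ, rfl⟩ := hline c' hc'
  obtain ⟨δ, rfl⟩ := hline d' hd'
  rw [F.perm_emb hm hb' hc' hd']
  simp [b0, b1, b2, c0, c1, c2, hgA, linear_of_pm hpm]

/-- The configuration in dimension eight with a quaternion fixed space. -/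
theorem Fr.minus_eight [Finite G] [Finite V] [Nontrivial V] (F : Fr ρ K N) (H : Heis ρ K N)
    (h2 : (2 : K) ≠ 0) (hpm : ∀ t : K, t ≠ 0 → t = 1 ∨ t = -1)
    (hnf : ∀ k ∈ N, ∀ u ∈ F.U, u ≠ 0 → ρ k u = u → ∀ v ∈ F.U, ρ k v = v)
    {e : V} (he : e ∈ F.U) (he0 : e ≠ 0) {n h : G} (hn : n ∈ N) (hh : h ∈ N)
    (hnU : ∀ u ∈ F.U, ρ n u ∈ F.U) (hhU : ∀ u ∈ F.U, ρ h u ∈ F.U)
    (hn1 : ∀ u ∈ F.U, u ≠ 0 → ∀ c : K, ρ n u ≠ c • u)
    (hh1 : ∀ u ∈ F.U, u ≠ 0 → ∀ c : K, ρ h u ≠ c • u)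
    (hhn1 : ∀ u ∈ F.U, u ≠ 0 → ∀ c : K, ρ h (ρ n u) ≠ c • u)
    (hspan : ∀ u ∈ F.U, ∃ x y : K, u = x • e + y • ρ n e) :
    ∃ y x c : V, IsTriple ρ N y x c ∧ y ≠ 0 ∧ x ≠ 0 ∧ c ≠ 0 := by
  have hz : (0 : V) ∈ F.U := zero_mem _
  have hne : ρ n e ∈ F.U := hnU e he
  have hhe : ρ h e ∈ F.U := hhU e he
  have hne0 : ρ n e ≠ 0 := fun h' => he0 (rho_injective ρ n (h'.trans (map_zero _).symm))
  have hhe0 : ρ h e ≠ 0 := fun h' => he0 (rho_injective ρ h (h'.trans (map_zero _).symm))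
  obtain ⟨sn, hsn0, hsn⟩ := sq_scal H hpm hn
  obtain ⟨sh, hsh0, hsh⟩ := sq_scal H hpm hh
  obtain ⟨t, ht0, ht⟩ := exists_comm_ne H hn hh
  -- the lines
  have L1 : ∀ c : K, ρ n e ≠ c • e := hn1 e he he0
  have L2 : ∀ c : K, ρ h e ≠ c • e := hh1 e he he0
  have L3 : ∀ c : K, ρ h e ≠ c • ρ n e := fun c hc => by
    have h1 := congrArg (ρ n) hc
    rw [ht, H.lin n hn, hsn, smul_smul] at h1
    refine hhn1 e he he0 (t⁻¹ * (c * sn)) ?_
    rw [← smul_smul, ← h1, inv_smul_smul₀ ht0]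
  have L4 : ∀ c : K, ρ h (ρ n e) ≠ c • ρ n e := hh1 _ hne hne0
  have L5 : ∀ c : K, ρ h (ρ n e) ≠ c • ρ h e := fun c hc => by
    refine L1 c (rho_injective ρ h ?_)
    rw [H.lin h hh, hc]
  -- the three vectors
  have hY : Regular ρ N (F.emb (ρ n e) e e e) := by
    intro k hk hkv
    obtain ⟨m, hmN, hmU, hform⟩ := F.act H hpm hk
    have hsm : ∀ (x : K) {u : V}, u ∈ F.U → x • ρ m u ∈ F.U := fun x u hu =>
      F.U_smul H (hmU u hu) x
    have hcontra : ∀ x y : K, y ≠ 0 → x • ρ m e = ρ n e → y • ρ m e = e → False :=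
      fun x y hy q q' => L1 (x * y⁻¹) (by
        rw [← q]
        conv_rhs => rw [← q', smul_smul, mul_assoc, inv_mul_cancel₀ hy, mul_one])
    rcases hform with ⟨x, y, -, -, hf⟩ | ⟨x, hx, hf⟩ | ⟨x, hx, hf⟩ | ⟨x, hx, hf⟩ <;>
      rw [hf] at hkv
    · obtain ⟨q0, q1, q2, -⟩ := F.emb_inj H h2 (hmU _ hne) (hsm x he) (hsm y he)
        (hsm _ he) hne he he he hkv
      have hid := hnf m hmN _ hne hne0 q0
      rw [hid e he] at q1 q2
      have hx1 : x = 1 := smul_left_injective K he0 (q1.trans (one_smul K e).symm)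
      have hy1 : y = 1 := smul_left_injective K he0 (q2.trans (one_smul K e).symm)
      refine F.eq_one_of_emb H h2 fun a' ha' b' hb' c' hc' d' hd' => ?_
      rw [hf, hx1, hy1, hid a' ha', hid b' hb', hid c' hc', hid d' hd']
      simp
    · obtain ⟨q0, -, q2, -⟩ := F.emb_inj H h2 (hsm _ he) (hsm _ hne) (hsm _ he) (hsm _ he)
        hne he he he hkv
      exact (hcontra _ _ (hx 2) q0 q2).elim
    · obtain ⟨q0, q1, -, -⟩ := F.emb_inj H h2 (hsm _ he) (hsm _ he) (hsm _ hne) (hsm _ he)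
        hne he he he hkv
      exact (hcontra _ _ (hx 1) q0 q1).elim
    · obtain ⟨q0, q1, -, -⟩ := F.emb_inj H h2 (hsm _ he) (hsm _ he) (hsm _ he) (hsm _ hne)
        hne he he he hkv
      exact (hcontra _ _ (hx 1) q0 q1).elim
  have hC := F.regular_three H h2 hpm hnf he hne hhe he0 hne0 hhe0
  have hX := F.not_regular_of_mem H h2 he he0
  have hY0 : F.emb (ρ n e) e e e ≠ 0 := fun h' => by
    exact he0 (F.emb_inj H h2 hne he he he hz hz hz hz (h'.trans (F.emb_first 0).symm)).2.1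
  have hC0 : F.emb e (ρ n e) (ρ h e) 0 ≠ 0 := fun h' => by
    exact he0 (F.emb_inj H h2 he hne hhe hz hz hz hz hz (h'.trans (F.emb_first 0).symm)).1
  refine ⟨_, e, _, ⟨hY, hC, fun k hk hke => not_regular_map hX hk (hke ▸ hC),
    fun g hgy hge k hk hgc => ?_⟩, hY0, he0, hC0⟩
  obtain ⟨hgU, π, m, hmN, hmU, hm⟩ := F.perm H h2 hnf he he0 hge
  have hite : ∀ (i : Fin 3) (u : V), u ∈ F.U → ∀ c : Prop, ∀ [Decidable c],
      (if c then ρ (m i) (ρ g u) else 0) ∈ F.U := fun i u hu c _ => by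
    split
    · exact hmU i _ (hgU u hu)
    · exact hz
  rw [F.perm_emb hm he he he] at hgy
  obtain ⟨gne, a1, a2, a3⟩ := F.emb_inj H h2 (hgU _ hne)
    (add_mem (add_mem (hite _ _ he _) (hite _ _ he _)) (hite _ _ he _))
    (add_mem (add_mem (hite _ _ he _) (hite _ _ he _)) (hite _ _ he _))
    (add_mem (add_mem (hite _ _ he _) (hite _ _ he _)) (hite _ _ he _))
    hne he he he hgy
  have hgid : ∀ u ∈ F.U, ρ g u = u := fun u hu => by
    obtain ⟨x, y, rfl⟩ := hspan u hu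
    rw [map_add, linear_of_pm hpm g, linear_of_pm hpm g, hge, gne]
  rw [hge] at a1 a2 a3
  obtain ⟨⟨c0, c1, c2⟩, d01, d02, d12⟩ := three_places he0 a1 a2 a3
  have hmid : ∀ i, ∀ u ∈ F.U, ρ (m i) u = u := by
    intro i
    refine hnf _ (hmN i) e he he0 ?_
    fin_cases i
    exacts [c0, c1, c2]
  -- the image of the third vector
  rw [F.perm_emb hm hne hhe hz, hgid e he, hgid _ hne, hgid _ hhe, hgid 0 hz, hmid 0 _ hne,
    hmid 1 _ hhe, hmid 2 _ hz] at hgc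
  simp only [ite_self, add_zero] at hgc
  have key : ∀ a b d : V, a ∈ F.U → b ∈ F.U → d ∈ F.U →
      (a = 0 ∨ a = ρ n e ∨ a = ρ h e) → (b = 0 ∨ b = ρ n e ∨ b = ρ h e) →
      (d = 0 ∨ d = ρ n e ∨ d = ρ h e) →
      F.emb e a b d = ρ k (F.emb e (ρ n e) (ρ h e) 0) → a = ρ n e ∧ b = ρ h e := by
    intro a b d haU hbU hdU ha hb hd heq
    obtain ⟨μ, hμN, hμU, hform⟩ := F.act H hpm hk
    have hsm : ∀ (x : K) {u : V}, u ∈ F.U → x • ρ μ u ∈ F.U := fun x u hu =>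
      F.U_smul H (hμU u hu) x
    -- if `μ` takes `p e` to the line of `e` then it takes `q e` to the line of `q (p e)`
    have swap : ∀ (p q : G), p ∈ N → q ∈ N → ∀ x : K, x ≠ 0 → x • ρ μ (ρ p e) = e →
        ∃ c : K, c ≠ 0 ∧ ρ μ (ρ q e) = c • ρ q (ρ p e) := by
      intro p q hp hq x hx0 hx
      obtain ⟨s, hs0, hs⟩ := sq_scal H hpm hp
      obtain ⟨u, hu0, hu⟩ := exists_comm_ne H hμN hp
      obtain ⟨w, hw0, hw⟩ := exists_comm_ne H hμN hq
      have h1 := congrArg (ρ p) hx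
      rw [hu, H.lin p hp, H.lin p hp, hs, smul_smul, smul_smul] at h1
      have hxu : x * (u * s) ≠ 0 := mul_ne_zero hx0 (mul_ne_zero hu0 hs0)
      have h3 : ρ μ e = (x * (u * s))⁻¹ • ρ p e := by
        rw [← h1, smul_smul, mul_assoc x u s, inv_mul_cancel₀ hxu, one_smul]
      refine ⟨w * (x * (u * s))⁻¹, mul_ne_zero hw0 (inv_ne_zero hxu), ?_⟩
      rw [hw, h3, H.lin q hq, smul_smul]
    have bad : ∀ c : K, c ≠ 0 → ∀ r : V, (r = 0 ∨ r = ρ n e ∨ r = ρ h e) →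
        r = c • ρ h (ρ n e) → False := by
      rintro c hc r (rfl | rfl | rfl) hr
      · exact hne0 (rho_injective ρ h ((smul_eq_zero.1 hr.symm).resolve_left hc |>.trans
          (map_zero _).symm))
      · exact L4 c⁻¹ (by rw [eq_comm, inv_smul_eq_iff₀ hc]; exact hr)
      · exact L5 c⁻¹ (by rw [eq_comm, inv_smul_eq_iff₀ hc]; exact hr)
    rcases hform with ⟨x, y, hx, hy, hf⟩ | ⟨x, hx, hf⟩ | ⟨x, hx, hf⟩ | ⟨x, hx, hf⟩ <;>
      rw [hf] at heq
    · obtain ⟨q0, q1, q2, -⟩ := F.emb_inj H h2 he haU hbU hdU (hμU e he) (hsm x hne) (hsm y hhe)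
        (hsm _ hz) heq
      have hid := hnf μ hμN e he he0 q0.symm
      rw [hid _ hne] at q1
      rw [hid _ hhe] at q2
      constructor
      · rcases ha with rfl | rfl | rfl
        · exact absurd q1.symm (smul_ne_zero hx hne0)
        · rfl
        · exact absurd q1 (L3 x)
      · rcases hb with rfl | rfl | rfl
        · exact absurd q2.symm (smul_ne_zero hy hhe0)
        · exact absurd (by rw [q2, smul_smul, inv_mul_cancel₀ hy, one_smul]) (L3 y⁻¹)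
        · rfl
    · obtain ⟨q0, -, -, q3⟩ := F.emb_inj H h2 he haU hbU hdU (hsm _ hne) (hsm _ he)
        (hsm _ hz) (hsm _ hhe) heq
      obtain ⟨c, hc, hc'⟩ := swap n h hn hh (x 0) (hx 0) q0.symm
      rw [hc', smul_smul] at q3
      exact (bad _ (mul_ne_zero (hx 3) hc) d hd q3).elim
    · obtain ⟨q0, -, -, q3⟩ := F.emb_inj H h2 he haU hbU hdU (hsm _ hhe) (hsm _ hz)
        (hsm _ he) (hsm _ hne) heq
      obtain ⟨c, hc, hc'⟩ := swap h n hh hn (x 0) (hx 0) q0.symm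
      rw [hc', ht, smul_smul, smul_smul] at q3
      exact (bad _ (mul_ne_zero (mul_ne_zero (hx 3) hc) ht0) d hd q3).elim
    · obtain ⟨q0, -⟩ := F.emb_inj H h2 he haU hbU hdU (hsm _ hz) (hsm _ hhe)
        (hsm _ hne) (hsm _ he) heq
      rw [map_zero, smul_zero] at q0
      exact absurd q0 he0
  have hne_he : ρ n e ≠ ρ h e := fun h' => L3 1 (by rw [one_smul]; exact h'.symm)
  obtain ⟨p0, p1, p2⟩ : π 0 = 0 ∧ π 1 = 1 ∧ π 2 = 2 := by
    generalize π 0 = x0, π 1 = x1, π 2 = x2 at d01 d02 d12 hgc ⊢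
    have h' : ¬ ρ h e = ρ n e := fun h' => hne_he h'.symm
    fin_cases x0 <;> fin_cases x1 <;> fin_cases x2 <;> simp at d01 d02 d12 hgc ⊢
    · exact hhe0 (key _ _ _ hne hz hhe (by simp) (by simp) (by simp) hgc).2.symm |> False.elim
    · exact h' (key _ _ _ hhe hne hz (by simp) (by simp) (by simp) hgc).1 |> False.elim
    · exact hne0 (key _ _ _ hz hne hhe (by simp) (by simp) (by simp) hgc).1.symm |> False.elim
    · exact h' (key _ _ _ hhe hz hne (by simp) (by simp) (by simp) hgc).1 |> False.elim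
    · exact hne0 (key _ _ _ hz hhe hne (by simp) (by simp) (by simp) hgc).1.symm |> False.elim
  refine F.eq_one_of_emb H h2 fun a' ha' b' hb' c' hc' d' hd' => ?_
  rw [F.perm_emb hm hb' hc' hd', hgid a' ha', hgid b' hb', hgid c' hc', hgid d' hd',
    hmid 0 b' hb', hmid 1 c' hc', hmid 2 d' hd']
  simp [p0, p1, p2]

end CfsgLib.PairBase
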