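import Cfsg.Agent.Lib.PairBase.BaseThree

/-!
# Dimensions four and eight over the field with three elements: assembling
-/

set_option autoImplicit false
set_option maxHeartbeats 1000000
set_option linter.unusedSectionVars false
set_option linter.style.haveILetI false

namespace CfsgLib.PairBase

open CfsgLib.OddBase

universe u

variable {G V : Type u} [Group G] [AddCommGroup V]
variable {K : Type u} [Field K] [Module K V]
variable {ρ : G →* AddMonoid.End V} {N : Subgroup G}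

namespace Split

variable (S : Split ρ K N)

/-- A regular vector of the fixed space plus a translate of one which is not regular. -/
theorem reg_left [Finite V] (H : Heis ρ K N) (hr : S.r = 2) {a b : S.V0}
    (ha : Regular S.ρ0 S.N0 a) (hb : ¬ Regular S.ρ0 S.N0 b) (ha0 : a ≠ 0) (hb0 : b ≠ 0) :
    Regular ρ N ((a : V) + ρ S.h b) ∧
      ∀ n ∈ N, ∀ b' : S.V0, ρ n ((a : V) + ρ S.h b) = a + ρ S.h b' →
        ∃ j, S.ω ^ j • (b : V) = (b' : V) := by
  classical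
  have hbV : (b : V) ≠ 0 := fun h => hb0 (Subtype.ext h)
  have key : ∀ n ∈ N, ∀ b' : S.V0, ρ n ((a : V) + ρ S.h b) = a + ρ S.h b' →
      ∃ j, (∀ v, ρ n v = ρ (S.f ^ j) v) ∧ S.ω ^ j • (b : V) = (b' : V) := by
    intro n hn b' hnb
    obtain ⟨i, hi, hs⟩ := S.shift H hn
    have ha' := hs 0 a (S.eig_zero_iff.2 a.2)
    have hb1 := hs 1 _ (S.eig_h H (S.eig_zero_iff.2 b.2))
    have hE : S.Eig 1 (ρ S.h (b' : V)) := S.eig_h H (S.eig_zero_iff.2 b'.2)
    rw [map_add] at hnb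
    rcases (show i = 0 ∨ i = 1 by omega) with rfl | rfl
    · obtain ⟨e1, e2⟩ := S.split_sum H (S.eig_zero_iff.1 ha') a.2 hb1 hE hnb
      obtain ⟨j, hj⟩ := S.eq_pow_f H ha ha0 hn e1
      refine ⟨j, hj, rho_injective ρ S.h ?_⟩
      rw [H.lin _ S.hh, ← e2, hj, S.pow_f_eig (S.eig_h H (S.eig_zero_iff.2 b.2)) H]
      simp
    · exfalso
      have hm0 : ρ n (ρ S.h (b : V)) ∈ S.V0 := by
        rw [← eig_zero_iff, Eig, pow_zero, ← S.root.pow_eq_one]
        rw [hr]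
        exact hb1
      obtain ⟨e1, -⟩ := S.split_sum H hm0 a.2 ha' hE (by rw [add_comm]; exact hnb)
      have hblk : n * S.h ∈ S.G0 :=
        S.mem_G0 H (mul_mem hn S.hh) b.2 hbV (by rw [rho_mul, e1]; exact a.2)
      refine not_regular_map hb (n := (⟨n * S.h, hblk⟩ : S.G0)) (mul_mem hn S.hh) ?_
      rwa [show S.ρ0 ⟨n * S.h, hblk⟩ b = a from Subtype.ext ((rho_mul ρ n S.h _).trans e1)]
  refine ⟨fun n hn hfix => ?_, fun n hn b' h => ?_⟩
  · obtain ⟨j, hj, hωj⟩ := key n hn b hfix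
    have h1 : S.ω ^ j = 1 := smul_left_injective K hbV (hωj.trans (one_smul K _).symm)
    obtain ⟨m, rfl⟩ := S.pow_omega_eq_one.1 h1
    refine end_ext fun v => ?_
    rw [hj, pow_mul, map_pow, S.pow_f, one_pow]
  · obtain ⟨j, -, hωj⟩ := key n hn b' h
    exact ⟨j, hωj⟩

/-- The configuration in dimension eight with a split fixed space. -/
theorem plus_eight [Finite G] [Finite V] [Nontrivial V] (H : Heis ρ K N)
    (hpm : ∀ t : K, t ≠ 0 → t = 1 ∨ t = -1) (hr : S.r = 2) {a A v : S.V0} (ha0 : a ≠ 0)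
    (hA0 : A ≠ 0) (hv0 : v ≠ 0) (ha : Regular S.ρ0 S.N0 a) (hA : ¬ Regular S.ρ0 S.N0 A)
    (hv : ¬ Regular S.ρ0 S.N0 v)
    (hstab : ∀ g, S.ρ0 g a = a → S.ρ0 g A = A → (S.ρ0 g v = v ∨ S.ρ0 g v = -v) →
      S.ρ0 g = 1) :
    ∃ y x c : V, IsTriple ρ N y x c ∧ y ≠ 0 ∧ x ≠ 0 ∧ c ≠ 0 := by
  letI := S.mod0 H
  haveI := H.normal
  haveI := S.nontrivial_V0
  have hω := S.omega_eq hr
  have haV : (a : V) ≠ 0 := fun h => ha0 (Subtype.ext h)
  obtain ⟨s, hs0, hs⟩ := sq_scal H hpm S.hh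
  have hy : Regular ρ N ((A : V) + ρ S.h a) := by
    have h1 := ((S.reg_left H hr ha (not_regular_smul (S.heis0 H) hA s⁻¹) ha0
      (smul_ne_zero (inv_ne_zero hs0) hA0)).1.smul H hs0).map (inv_mem S.hh)
    have e : ρ S.h⁻¹ (s • ((a : V) + ρ S.h ((s⁻¹ • A : S.V0) : V))) = (A : V) + ρ S.h a := by
      refine rho_injective ρ S.h ?_
      rw [rho_apply_inv, map_add, hs, smul_add,
        show ((s⁻¹ • A : S.V0) : V) = s⁻¹ • (A : V) from rfl, H.lin _ S.hh, smul_smul,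
        mul_inv_cancel₀ hs0, one_smul, add_comm]
    rwa [e] at h1
  have hc := S.reg_left H hr ha hv ha0 hv0
  have hx : ¬ Regular ρ N (a : V) := fun h => S.f_ne (h _ S.hf a.2)
  have nz : ∀ {b d : S.V0}, b ≠ 0 → (b : V) + ρ S.h d ≠ 0 := fun {b d} hb h => by
    obtain ⟨e, -⟩ := S.split_sum H b.2 (zero_mem S.V0) (S.eig_h H (S.eig_zero_iff.2 d.2))
      (show S.Eig 1 (0 : V) by rw [Eig, map_zero, smul_zero]) (by rw [h, add_zero])
    exact hb (Subtype.ext e)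
  refine ⟨(A : V) + ρ S.h a, a, (a : V) + ρ S.h v,
    ⟨hy, hc.1, fun n hn h => not_regular_map hx hn (h ▸ hc.1), fun g hgy hga n hn hgc => ?_⟩,
    nz hA0, haV, nz ha0⟩
  obtain ⟨hg, l, hl, hconj⟩ := S.conj_f H ha ha0 hga
  have hgf : ∀ w, ρ S.f (ρ g w) = ρ g (ρ S.f w) := fun w => by
    obtain ⟨j, rfl⟩ : Odd l := Nat.odd_iff.2 (Nat.two_dvd_ne_zero.1 (hr ▸ hl))
    rw [← hconj, pow_succ, rho_mul, pow_mul, map_pow]
    rw [show ρ (S.f ^ 2) = 1 by rw [← hr]; exact S.pow_f, one_pow]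
    rfl
  have hgV : ∀ w ∈ S.V0, ρ g w ∈ S.V0 := fun w hw => (hg w).2 hw
  have hgE : ∀ w, S.Eig 1 w → S.Eig 1 (ρ g w) := fun w hw => by
    rw [Eig, hgf, show ρ S.f w = _ from hw, linear_of_pm hpm g]
  obtain ⟨e1, e2⟩ := S.split_sum H (hgV _ A.2) A.2 (hgE _ (S.eig_h H (S.eig_zero_iff.2 a.2)))
    (S.eig_h H (S.eig_zero_iff.2 a.2)) (by rw [← map_add]; exact hgy)
  have hga' : ρ g⁻¹ (a : V) = a := by
    conv_lhs => rw [← hga]
    exact rho_inv_apply ρ g _
  obtain ⟨m, hm⟩ := S.eq_pow_f H ha ha0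
    (N.mul_mem (N.inv_mem S.hh) (H.normal.conj_mem _ S.hh g))
    (by rw [rho_mul, rho_mul, rho_mul, hga', e2, rho_inv_apply])
  have hgh : ∀ w ∈ S.V0, ρ g (ρ S.h w) = ρ S.h (ρ g w) := fun w hw => by
    have h1 := hm (ρ g w)
    rw [S.pow_f_fixed (hgV w hw), rho_mul, rho_mul, rho_mul, rho_inv_apply] at h1
    conv_rhs => rw [← h1]
    rw [rho_apply_inv]
  obtain ⟨j, hj⟩ := hc.2 n hn ⟨ρ g v, hgV _ v.2⟩ (by
    rw [← hgc, map_add, hga, hgh _ v.2])
  have hsign : S.ρ0 ⟨g, hg⟩ v = v ∨ S.ρ0 ⟨g, hg⟩ v = -v := by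
    rcases Nat.even_or_odd j with hje | hjo
    · refine Or.inl (Subtype.ext ?_)
      rw [hω, hje.neg_one_pow, one_smul] at hj
      exact hj.symm
    · refine Or.inr (Subtype.ext ?_)
      rw [hω, hjo.neg_one_pow, neg_one_smul] at hj
      exact hj.symm
  have hone := hstab ⟨g, hg⟩ (Subtype.ext hga) (Subtype.ext e1) hsign
  have hV0 : ∀ w ∈ S.V0, ρ g w = w := fun w hw =>
    (congrArg Subtype.val (DFunLike.congr_fun hone ⟨w, hw⟩) :)
  refine end_ext (S.ext_h H (A := fun v => ρ g v) (B := fun v => v) (fun v w => map_add _ v w)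
    (fun _ _ => rfl) fun i hi w hw => ?_)
  show ρ g (ρ (S.h ^ i) w) = ρ (S.h ^ i) w
  rcases (show i = 0 ∨ i = 1 by omega) with rfl | rfl
  · rw [pow_zero, rho_one]; exact hV0 w hw
  · rw [pow_one, hgh w hw, hV0 w hw]

end Split

/-- The layer on a quaternion space. -/
theorem nonscal_pair [Finite G] [Finite K] [Finite V] [Nontrivial V] (H : Heis ρ K N)
    (hdim : Module.finrank K V = 2) {n h : G} (hn : n ∈ N) (hh : h ∈ N)
    (hall : ∀ k ∈ N, Scal ρ K k ∨ Scal ρ K (n * k) ∨ Scal ρ K (h * k) ∨ Scal ρ K (h * n * k)) :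
    ¬ Scal ρ K n ∧ ¬ Scal ρ K h ∧ ¬ Scal ρ K (h * n) := by
  haveI : Module.Finite K V := Module.Finite.of_finite
  -- not everything is a scalar
  have hnot : ¬ ∀ k ∈ N, Scal ρ K k := fun hk => by
    obtain ⟨v, hv⟩ := exists_ne (0 : V)
    obtain ⟨W, hW⟩ := Submodule.exists_isCompl (K ∙ v)
    let P := (K ∙ v).subtype.comp ((K ∙ v).projectionOnto W hW)
    obtain ⟨c, hc⟩ := H.cent P fun n hn u => by
      obtain ⟨d, hd⟩ := hk n hn
      rw [hd, hd, map_smul]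
    have hP : ∀ u, P u ∈ (K ∙ v) := fun u => ((K ∙ v).projectionOnto W hW u).2
    have h1 : c = 1 := smul_left_injective K hv (by
      show c • v = (1 : K) • v
      rw [one_smul, ← hc]
      simp only [P, LinearMap.coe_comp, Submodule.coe_subtype, Function.comp_apply]
      rw [Submodule.projectionOnto_apply_left hW ⟨v, Submodule.mem_span_singleton_self v⟩])
    have htop : (K ∙ v) = ⊤ := eq_top_iff.2 fun u _ => by
      have h3 := hP u
      rwa [hc, h1, one_smul] at h3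
    have := finrank_span_singleton (K := K) hv
    rw [htop, finrank_top] at this
    omega
  -- cancellation
  have hcancel : ∀ {m k : G}, m ∈ N → Scal ρ K m → Scal ρ K (m * k) → Scal ρ K k := by
    rintro m k hm ⟨c, hc⟩ ⟨d, hd⟩
    have hc0 := scal_ne_zero hc
    refine ⟨c⁻¹ * d, fun v => ?_⟩
    rw [← smul_smul, ← hd, rho_mul, hc, smul_smul, inv_mul_cancel₀ hc0, one_smul]
  have hcomm : ∀ {m k : G}, m ∈ N → Scal ρ K (m * k) → ∀ v, ρ m (ρ k v) = ρ k (ρ m v) := by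
    intro m k hm hs v
    refine rho_injective ρ m ?_
    have h1 := scal_comm H hm hs v
    rwa [rho_mul, rho_mul] at h1
  have hscal : ∀ {m : G}, m ∈ N → Scal ρ K m → ∀ k v, k ∈ N → ρ m (ρ k v) = ρ k (ρ m v) :=
    fun hm hs k v hk => (scal_comm H hk hs v).symm
  have hone : ∀ (m : G) (hm : m ∈ N),
      (∀ k ∈ N, Scal ρ K k ∨ Scal ρ K (m * k)) → False := fun m hm hall' => by
    have hms : Scal ρ K m := scal_of_central H hm fun k hk v => by
      rcases hall' k hk with hs | hs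
      · exact scal_comm H hm hs v
      · exact hcomm hm hs v
    exact hnot fun k hk => (hall' k hk).elim id (hcancel hm hms)
  refine ⟨fun hs => hone h hh fun k hk => ?_, fun hs => hone n hn fun k hk => ?_, fun hs => ?_⟩
  · rcases hall k hk with h1 | h1 | h1 | h1
    · exact Or.inl h1
    · exact Or.inl (hcancel hn hs h1)
    · exact Or.inr h1
    · obtain ⟨c, hc⟩ := hs
      obtain ⟨d, hd⟩ := h1
      refine Or.inr ⟨c⁻¹ * d, fun v => ?_⟩
      rw [← smul_smul, ← hd, rho_mul, rho_mul, rho_mul, hc, H.lin h hh, smul_smul,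
        inv_mul_cancel₀ (scal_ne_zero hc), one_smul]
  · rcases hall k hk with h1 | h1 | h1 | h1
    · exact Or.inl h1
    · exact Or.inr h1
    · exact Or.inl (hcancel hh hs h1)
    · exact Or.inr (hcancel hh hs (by rwa [← mul_assoc]))
  · have hnh : ∀ v, ρ n (ρ h v) = ρ h (ρ n v) := fun v => by
      have h1 := scal_comm H hn hs (ρ n⁻¹ v)
      simpa [rho_mul, rho_apply_inv] using h1
    have hns : Scal ρ K n := scal_of_central H hn fun k hk v => by
      rcases hall k hk with h1 | h1 | h1 | h1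
      · exact scal_comm H hn h1 v
      · exact hcomm hn h1 v
      · refine rho_injective ρ h ?_
        have e1 := hscal (mul_mem hh hn) hs k v hk
        rw [rho_mul, rho_mul] at e1
        rw [e1, hcomm hh h1]
      · exact scal_comm H hn (hcancel (mul_mem hh hn) hs h1) v
    refine hone h hh fun k hk => ?_
    rcases hall k hk with h1 | h1 | h1 | h1
    · exact Or.inl h1
    · exact Or.inl (hcancel hn hns h1)
    · exact Or.inr h1
    · exact Or.inl (hcancel (mul_mem hh hn) hs h1)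

/-- A regular vector in dimension four. -/
theorem base_three_four [Finite G] [Finite V] [Finite K] [Nontrivial V] (H : Heis ρ K N)
    (h2 : (2 : K) ≠ 0) (hpm : ∀ t : K, t ≠ 0 → t = 1 ∨ t = -1) (S : Split ρ K N) (hr : S.r = 2)
    (S₁ : @Split _ S.V0 _ _ S.ρ0 K _ (S.mod0 H) S.N0) (hr₁ : letI := S.mod0 H; S₁.r = 2)
    (hdim : Module.finrank K V = 4) :
    ∃ a A v : V, a ≠ 0 ∧ A ≠ 0 ∧ v ≠ 0 ∧ Regular ρ N a ∧ ¬ Regular ρ N A ∧ ¬ Regular ρ N v ∧
      ∀ g, ρ g a = a → ρ g A = A → (ρ g v = v ∨ ρ g v = -v) → ρ g = 1 := by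
  letI := S.mod0 H
  haveI := S.nontrivial_V0
  haveI := S₁.nontrivial_V0
  letI := S₁.mod0 (S.heis0 H)
  haveI : Module.Finite K S₁.V0 := Module.Finite.of_finite
  have hd := S.finrank_eq H
  have hd1 := S₁.finrank_eq (S.heis0 H)
  rw [hr, hdim] at hd
  rw [hr₁] at hd1
  obtain ⟨F, -, hF⟩ := exists_frame H hpm S hr S₁ hr₁
  obtain ⟨e₁, he₁⟩ := exists_ne (0 : S₁.V0)
  refine F.plus_four H h2 hpm (e := ((e₁ : S.V0) : V)) ((hF _).2 ⟨(e₁ : S.V0).2, e₁.2⟩)
    (fun h => he₁ (Subtype.ext (Subtype.ext h))) fun u hu => ?_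
  obtain ⟨hu0, hu1⟩ := (hF u).1 hu
  obtain ⟨c, hc⟩ := (finrank_eq_one_iff_of_nonzero' (K := K) e₁ he₁).1 (by omega) ⟨⟨u, hu0⟩, hu1⟩
  exact ⟨c, (congrArg (fun x : S₁.V0 => ((x : S.V0) : V)) hc).symm⟩

/-- The base in dimension eight. -/
theorem base_three [Finite G] [Finite V] [Finite K] [Nontrivial V] (H : Heis ρ K N)
    (h2 : (2 : K) ≠ 0) (hq : Nat.card K = 3) (hdim : Module.finrank K V = 8) :
    ∃ y x c : V, IsTriple ρ N y x c ∧ y ≠ 0 ∧ x ≠ 0 ∧ c ≠ 0 := by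
  have hpm := pm_of_card_three hq
  obtain ⟨S⟩ := exists_split_of_not_noFixer H fun h => by
    have := (h.small H h2 (by omega)).1
    omega
  have hr := S.r_eq_two (Or.inl hq)
  letI := S.mod0 H
  haveI := S.nontrivial_V0
  have hd := S.finrank_eq H
  rw [hr, hdim] at hd
  obtain ⟨S₁⟩ := exists_split_of_not_noFixer (S.heis0 H) fun h => by
    have := (h.small (S.heis0 H) h2 (by omega)).1
    omega
  have hr₁ := S₁.r_eq_two (Or.inl hq)
  letI := S₁.mod0 (S.heis0 H)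
  haveI := S₁.nontrivial_V0
  have hd1 := S₁.finrank_eq (S.heis0 H)
  rw [hr₁] at hd1
  have H1 := S₁.heis0 (S.heis0 H)
  by_cases hnf : NoFixer S₁.ρ0 S₁.N0
  · obtain ⟨hd2, n, h, hn, hh, hall⟩ := hnf.small H1 h2 (by omega)
    obtain ⟨ns, hs, hns⟩ := nonscal_pair H1 hd2 hn hh hall
    obtain ⟨F, -, hF⟩ := exists_frame H hpm S hr S₁ hr₁
    have hU : ∀ x : S₁.V0, ((x : S.V0) : V) ∈ F.U := fun x => (hF _).2 ⟨(x : S.V0).2, x.2⟩
    have lift : ∀ u ∈ F.U, ∃ x : S₁.V0, ((x : S.V0) : V) = u := fun u hu => by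
      obtain ⟨hu0, hu1⟩ := (hF u).1 hu
      exact ⟨⟨⟨u, hu0⟩, hu1⟩, rfl⟩
    have hfix : ∀ k ∈ N, ∀ x : S₁.V0, x ≠ 0 → ρ k ((x : S.V0) : V) = ((x : S.V0) : V) →
        ∀ y : S₁.V0, ρ k ((y : S.V0) : V) = ((y : S.V0) : V) := by
      intro k hk x hx hkx y
      have hx0 : (x : S.V0) ≠ 0 := fun h => hx (Subtype.ext h)
      have hk0 : k ∈ S.G0 := S.mem_G0 H hk (x : S.V0).2 (fun h => hx0 (Subtype.ext h))
        (by rw [hkx]; exact (x : S.V0).2)
      have hk1 : (⟨k, hk0⟩ : S.G0) ∈ S₁.G0 :=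
        S₁.mem_G0 (S.heis0 H) hk x.2 hx0 (by
          rw [show S.ρ0 ⟨k, hk0⟩ x = (x : S.V0) from Subtype.ext hkx]; exact x.2)
      have h1 := hnf x hx ⟨⟨k, hk0⟩, hk1⟩ hk (Subtype.ext (Subtype.ext hkx))
      exact congrArg (fun z : S₁.V0 => ((z : S.V0) : V)) (DFunLike.congr_fun h1 y)
    obtain ⟨e₁, he₁⟩ := exists_ne (0 : S₁.V0)
    have hcoe : ∀ {x : S₁.V0}, x ≠ 0 → ((x : S.V0) : V) ≠ 0 := fun hx h =>
      hx (Subtype.ext (Subtype.ext h))
    have hinv : ∀ m : S₁.G0, ∀ u ∈ F.U, ρ ((m : S.G0) : G) u ∈ F.U := fun m u hu => by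
      obtain ⟨x, rfl⟩ := lift u hu
      exact hU (S₁.ρ0 m x)
    have hnoeig : ∀ m : S₁.G0, m ∈ S₁.N0 → ¬ Scal S₁.ρ0 K m → ∀ u ∈ F.U, u ≠ 0 → ∀ c : K,
        ρ ((m : S.G0) : G) u ≠ c • u := by
      intro m hm hms u hu hu0 c hcu
      obtain ⟨x, rfl⟩ := lift u hu
      have hc0 : c ≠ 0 := fun hc0 => hu0 (rho_injective ρ _ (by
        rw [hcu, hc0, zero_smul, map_zero]))
      obtain ⟨z, hzN, hz⟩ := H1.scalar c⁻¹ (inv_ne_zero hc0)
      have hmx : S₁.ρ0 m x = c • x := Subtype.ext (Subtype.ext hcu)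
      have h1 := hnf x (fun hx => hu0 (by rw [hx]; rfl)) (z * m) (mul_mem hzN hm) (by
        rw [rho_mul, hmx, hz, smul_smul, inv_mul_cancel₀ hc0, one_smul])
      refine hms ⟨c, fun w => ?_⟩
      have h3 := DFunLike.congr_fun h1 w
      rw [rho_mul, hz] at h3
      change c⁻¹ • S₁.ρ0 m w = w at h3
      conv_rhs => rw [← h3]
      rw [smul_smul, mul_inv_cancel₀ hc0, one_smul]
    refine F.minus_eight H h2 hpm (e := ((e₁ : S.V0) : V)) (n := ((n : S.G0) : G))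
      (h := ((h : S.G0) : G)) (fun k hk u hu hu0 hku v hv => ?_) (hU e₁) (hcoe he₁) hn hh
      (hinv n) (hinv h) (hnoeig n hn ns) (hnoeig h hh hs) (fun u hu hu0 c => ?_) (fun u hu => ?_)
    · obtain ⟨x, rfl⟩ := lift u hu
      obtain ⟨y, rfl⟩ := lift v hv
      exact hfix k hk x (fun hx => hu0 (by rw [hx]; rfl)) hku y
    · rw [← rho_mul]
      exact hnoeig (h * n) (mul_mem hh hn) hns u hu hu0 c
    · obtain ⟨x, rfl⟩ := lift u hu
      have hli : LinearIndependent K ![e₁, S₁.ρ0 n e₁] :=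
        (linearIndependent_fin2).2 ⟨fun h0 => he₁ (rho_injective S₁.ρ0 n
          (h0.trans (map_zero _).symm)), fun c hc => by
          simp only [Matrix.cons_val_one, Matrix.cons_val_zero] at hc
          have hc0 : c ≠ 0 := fun hc0 => he₁ (by rw [← hc, hc0, zero_smul])
          refine hnoeig n hn ns _ (hU e₁) (hcoe he₁) c⁻¹ ?_
          rw [eq_inv_smul_iff₀ hc0]
          exact congrArg (fun z : S₁.V0 => ((z : S.V0) : V)) hc⟩
      haveI : Module.Finite K S₁.V0 := Module.Finite.of_finite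
      have htop := hli.span_eq_top_of_card_eq_finrank (by simp [hd2])
      have hw : x ∈ Submodule.span K (Set.range ![e₁, S₁.ρ0 n e₁]) := by rw [htop]; trivial
      rw [Matrix.range_cons_cons_empty, Submodule.mem_span_pair] at hw
      obtain ⟨α, β, hx⟩ := hw
      exact ⟨α, β, (congrArg (fun z : S₁.V0 => ((z : S.V0) : V)) hx).symm⟩
  · obtain ⟨S₂⟩ := exists_split_of_not_noFixer H1 hnf
    have hr₂ := S₂.r_eq_two (Or.inl hq)
    obtain ⟨a, A, v, ha0, hA0, hv0, ha, hA, hv, hst⟩ :=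
      base_three_four (S.heis0 H) h2 hpm S₁ hr₁ S₂ hr₂ (by omega)
    exact S.plus_eight H hpm hr ha0 hA0 hv0 ha hA hv hst

end CfsgLib.PairBase
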