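import Cfsg.Agent.Lib.PairBase.Setting
import Mathlib

/-!
# The layer in dimension four over the field with five elements: the computations

Two models: `r = 1` for the split form and `r = 2` for the twisted one. In both, four elements of
the layer are recognised by which translates of the orbit of `A` lie in the orbit again.
-/

set_option autoImplicit false

namespace CfsgLib.PairBase.Five

/-- The coordinate space. -/
abbrev Q := ZMod 5 × ZMod 5 × ZMod 5 × ZMod 5

/-- First shift. -/
def sh₁ (r : ZMod 5) (v : Q) : Q := (r * v.2.2.1, r * v.2.2.2, v.1, v.2.1)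
/-- Second shift. -/
def sh₂ (v : Q) : Q := (v.2.1, v.1, v.2.2.2, v.2.2.1)
/-- First sign. -/
def sg₁ (v : Q) : Q := (v.1, v.2.1, -v.2.2.1, -v.2.2.2)
/-- Second sign. -/
def sg₂ (v : Q) : Q := (v.1, -v.2.1, v.2.2.1, -v.2.2.2)

/-- A word: a scalar and four exponents. -/
abbrev Word := Fin 4 × Bool × Bool × Bool × Bool

/-- The action of a word. -/
def act (r : ZMod 5) (w : Word) (v : Q) : Q :=
  let v := if w.2.2.2.2 then sg₂ v else v
  let v := if w.2.2.2.1 then sg₁ v else v
  let v := if w.2.2.1 then sh₂ v else v
  let v := if w.2.1 then sh₁ r v else v
  ((w.1.val + 1 : ℕ) : ZMod 5) • v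

/-- The orbit of a vector. -/
def orb (r : ZMod 5) (A : Q) : Finset Q := Finset.univ.image fun w : Word => act r w A

/-- The identity word. -/
def oneWord : Word := (0, false, false, false, false)

/-- Which translates lie in the orbit. -/
def colour (O : Finset Q) (A B : Q) (tests : List (ℕ × ℕ)) (x : Q) : List Bool :=
  tests.map fun t => decide (x + t.1 • A + t.2 • B ∈ O)

/-- What the computation has to provide. -/
structure Cert (r : ZMod 5) where
  A : Q
  B : Q
  tests : List (ℕ × ℕ)
  gens : Fin 4 → Word
  regular : ∀ w, act r w A = A → w = oneWord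
  apart : ∀ w, act r w B ≠ A
  nzB : B ≠ 0
  unique : ∀ i w, colour (orb r A) A B tests (act r w A) =
    colour (orb r A) A B tests (act r (gens i) A) → act r w A = act r (gens i) A
  gen : ∀ t : Fin 4, ∃ (c : ℕ) (e : Fin 4 → Bool), ∀ v,
    ![sg₁, sg₂, sh₁ r, sh₂] t v =
      c • (fun v => if e 0 then act r (gens 0) v else v)
        ((fun v => if e 1 then act r (gens 1) v else v)
          ((fun v => if e 2 then act r (gens 2) v else v)
            ((fun v => if e 3 then act r (gens 3) v else v) v)))

/-- The split form. -/
def certOne : Cert 1 where
  A := (0, 1, 1, 1)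
  B := (1, 0, 1, 3)
  tests := [(0, 1), (0, 4), (1, 1), (1, 2)]
  gens := ![(0, false, false, true, true), (0, true, false, false, true),
    (1, false, true, false, false), (1, false, true, false, true)]
  regular := by decide +kernel
  apart := by decide +kernel
  nzB := by decide +kernel
  unique := by decide +kernel
  gen := Fin.cases ⟨4, ![true, false, true, true], by decide +kernel⟩
    (Fin.cases ⟨4, ![false, false, true, true], by decide +kernel⟩
      (Fin.cases ⟨4, ![false, true, true, true], by decide +kernel⟩
        (Fin.cases ⟨3, ![false, false, true, false], by decide +kernel⟩ (fun i => i.elim0))))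

/-- The twisted form. -/
def certTwo : Cert 2 where
  A := (0, 1, 1, 1)
  B := (1, 0, 0, 1)
  tests := [(0, 1), (1, 0), (1, 1), (1, 2)]
  gens := ![(1, false, true, false, false), (2, false, true, true, true),
    (2, true, false, true, false), (2, true, true, true, true)]
  regular := by decide +kernel
  apart := by decide +kernel
  nzB := by decide +kernel
  unique := by decide +kernel
  gen := Fin.cases ⟨4, ![false, true, true, true], by decide +kernel⟩
    (Fin.cases ⟨4, ![true, false, true, true], by decide +kernel⟩
      (Fin.cases ⟨4, ![false, true, false, true], by decide +kernel⟩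
        (Fin.cases ⟨3, ![true, false, false, false], by decide +kernel⟩ (fun i => i.elim0))))

end CfsgLib.PairBase.Five
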