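import Cfsg.Agent.Lib.PairBase.Small

/-!
# Two commuting involutions of the layer: four translates of their common fixed space
-/

set_option autoImplicit false
set_option linter.unusedSectionVars false
set_option linter.style.haveILetI false

namespace CfsgLib.PairBase

open CfsgLib.OddBase

universe u

variable {G V : Type u} [Group G] [AddCommGroup V]
variable {K : Type u} [Field K] [Module K V]
variable {ρ : G →* AddMonoid.End V} {N : Subgroup G}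

namespace Split

variable (S : Split ρ K N)

/-- The dimension is multiplied by the prime. -/
theorem finrank_eq [Finite V] [Finite K] [Nontrivial V] (H : Heis ρ K N) : letI := S.mod0 H
    Module.finrank K V = S.r * Module.finrank K S.V0 := by
  letI := S.mod0 H
  haveI : Module.Finite K V := Module.Finite.of_finite
  haveI : Module.Finite K S.V0 := Module.Finite.of_finite
  have hcard := S.card_pow H
  rw [Module.natCard_eq_pow_finrank (K := K), Module.natCard_eq_pow_finrank (K := K) (V := S.V0),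
    ← pow_mul] at hcard
  rw [Nat.pow_right_injective (Finite.one_lt_card (α := K)) hcard, mul_comm]

/-- Over fields with three or five elements the prime is two. -/
theorem r_eq_two [Finite K] (hq : Nat.card K = 3 ∨ Nat.card K = 5) : S.r = 2 := by
  haveI := Fintype.ofFinite K
  have h1 := FiniteField.pow_card_sub_one_eq_one S.ω S.omega_ne_zero
  rw [S.pow_omega_eq_one, ← Nat.card_eq_fintype_card] at h1
  have hp := S.prime
  rcases hq with hq | hq <;> rw [hq] at h1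
  · exact (Nat.prime_dvd_prime_iff_eq hp Nat.prime_two).1 h1
  · exact (Nat.prime_dvd_prime_iff_eq hp Nat.prime_two).1 (hp.dvd_of_dvd_pow (n := 2) h1)

theorem omega_eq (hr : S.r = 2) : S.ω = -1 := by
  have h1 := S.root.pow_eq_one
  rw [hr] at h1
  exact (sq_eq_one_iff.1 h1).resolve_left (S.root.ne_one S.prime.one_lt)

end Split

/-- Two commuting involutions `f₁`, `f₂` of the layer with dual elements `h₁`, `h₂`. -/
structure Fr (ρ : G →* AddMonoid.End V) (K : Type u) [Field K] [Module K V] (N : Subgroup G) where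
  f₁ : G
  f₂ : G
  h₁ : G
  h₂ : G
  hf₁ : f₁ ∈ N
  hf₂ : f₂ ∈ N
  hh₁ : h₁ ∈ N
  hh₂ : h₂ ∈ N
  c11 : ∀ v : V, ρ f₁ (ρ h₁ v) = -ρ h₁ (ρ f₁ v)
  c12 : ∀ v : V, ρ f₁ (ρ h₂ v) = ρ h₂ (ρ f₁ v)
  c21 : ∀ v : V, ρ f₂ (ρ h₁ v) = ρ h₁ (ρ f₂ v)
  c22 : ∀ v : V, ρ f₂ (ρ h₂ v) = -ρ h₂ (ρ f₂ v)
  cff : ∀ v : V, ρ f₁ (ρ f₂ v) = ρ f₂ (ρ f₁ v)
  chh : ∀ v : V, ρ h₁ (ρ h₂ v) = ρ h₂ (ρ h₁ v)
  sq₁ : ∀ v : V, ρ f₁ (ρ f₁ v) = v
  sq₂ : ∀ v : V, ρ f₂ (ρ f₂ v) = v

namespace Fr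

variable (F : Fr ρ K N)

/-- The common fixed space. -/
def U : AddSubgroup V := fixedBy (ρ F.f₁) ⊓ fixedBy (ρ F.f₂)

theorem mem_U {v : V} : v ∈ F.U ↔ ρ F.f₁ v = v ∧ ρ F.f₂ v = v := Iff.rfl

theorem U_smul (H : Heis ρ K N) {v : V} (hv : v ∈ F.U) (c : K) : c • v ∈ F.U := by
  rw [F.mem_U] at hv ⊢
  rw [H.lin _ F.hf₁, H.lin _ F.hf₂, hv.1, hv.2]
  exact ⟨rfl, rfl⟩

/-- The four components of a vector. -/
theorem decompose (H : Heis ρ K N) (h2 : (2 : K) ≠ 0) (v : V) :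
    ∃ a ∈ F.U, ∃ b ∈ F.U, ∃ c ∈ F.U, ∃ d ∈ F.U,
      v = a + ρ F.h₁ b + ρ F.h₂ c + ρ F.h₁ (ρ F.h₂ d) := by
  let q : K := (2 * 2)⁻¹
  have hq : q * 4 = 1 := by
    simp only [q]
    rw [show (4 : K) = 2 * 2 by norm_num]
    exact inv_mul_cancel₀ (mul_ne_zero h2 h2)
  let P : K → K → V := fun s t =>
    q • (v + s • ρ F.f₁ v + t • ρ F.f₂ v + (s * t) • ρ F.f₁ (ρ F.f₂ v))
  have hP1 : ∀ s t : K, s * s = 1 → ρ F.f₁ (P s t) = s • P s t := by
    intro s t hs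
    simp only [P, map_add, H.lin _ F.hf₁, F.sq₁]
    linear_combination (norm := module) (-(1 : K)) • (congrArg (fun x : K => x • (q • ρ F.f₁ v + (q * t) • ρ F.f₁ (ρ F.f₂ v))) hs)
  have hP2 : ∀ s t : K, t * t = 1 → ρ F.f₂ (P s t) = t • P s t := by
    intro s t ht
    simp only [P, map_add, H.lin _ F.hf₂, F.sq₂, ← F.cff]
    linear_combination (norm := module) (-(1 : K)) • (congrArg (fun x : K => x • (q • ρ F.f₂ v + (q * s) • ρ F.f₁ (ρ F.f₂ v))) ht)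
  have hinv : ∀ (h : G) {f : G} {s : K}, (∀ x, ρ f (ρ h x) = s • ρ h (ρ f x)) → s * s = 1 →
      f ∈ N → h ∈ N → ∀ x, ρ f (ρ h⁻¹ x) = s • ρ h⁻¹ (ρ f x) := by
    intro h f s hc hs hf hh x
    apply rho_injective ρ h
    rw [H.lin _ hh, rho_apply_inv]
    have := hc (ρ h⁻¹ x)
    rw [rho_apply_inv] at this
    rw [this, smul_smul, hs, one_smul]
  have k11 := hinv F.h₁ (s := (-1 : K)) (fun x => by rw [neg_one_smul]; exact F.c11 x) (by ring) F.hf₁ F.hh₁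
  have k12 := hinv F.h₂ (s := (1 : K)) (fun x => by rw [one_smul]; exact F.c12 x) (by ring) F.hf₁ F.hh₂
  have k21 := hinv F.h₁ (s := (1 : K)) (fun x => by rw [one_smul]; exact F.c21 x) (by ring) F.hf₂ F.hh₁
  have k22 := hinv F.h₂ (s := (-1 : K)) (fun x => by rw [neg_one_smul]; exact F.c22 x) (by ring) F.hf₂ F.hh₂
  refine ⟨P 1 1, ?_, ρ F.h₁⁻¹ (P (-1) 1), ?_, ρ F.h₂⁻¹ (P 1 (-1)), ?_,
    ρ F.h₂⁻¹ (ρ F.h₁⁻¹ (P (-1) (-1))), ?_, ?_⟩
  · rw [F.mem_U, hP1 _ _ (by ring), hP2 _ _ (by ring)]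
    simp
  · refine F.mem_U.2 ⟨?_, ?_⟩
    · rw [k11, hP1 _ _ (by ring), H.lin _ (inv_mem F.hh₁), smul_smul]
      norm_num
    · rw [k21, hP2 _ _ (by ring), H.lin _ (inv_mem F.hh₁), smul_smul]
      norm_num
  · refine F.mem_U.2 ⟨?_, ?_⟩
    · rw [k12, hP1 _ _ (by ring), H.lin _ (inv_mem F.hh₂), smul_smul]
      norm_num
    · rw [k22, hP2 _ _ (by ring), H.lin _ (inv_mem F.hh₂), smul_smul]
      norm_num
  · rw [F.mem_U, k12, k22, k11, k21, hP1 _ _ (by ring), hP2 _ _ (by ring)]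
    simp only [H.lin _ (inv_mem F.hh₁), H.lin _ (inv_mem F.hh₂), smul_smul]
    simp
  · rw [rho_apply_inv, rho_apply_inv, rho_apply_inv, rho_apply_inv]
    simp only [P]
    linear_combination (norm := module) -(congrArg (fun x : K => x • v) hq)

/-- The four components are unique. -/
theorem unique (H : Heis ρ K N) (h2 : (2 : K) ≠ 0) {a b c d a' b' c' d' : V} (ha : a ∈ F.U)
    (hb : b ∈ F.U) (hc : c ∈ F.U) (hd : d ∈ F.U) (ha' : a' ∈ F.U) (hb' : b' ∈ F.U)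
    (hc' : c' ∈ F.U) (hd' : d' ∈ F.U)
    (h : a + ρ F.h₁ b + ρ F.h₂ c + ρ F.h₁ (ρ F.h₂ d) =
      a' + ρ F.h₁ b' + ρ F.h₂ c' + ρ F.h₁ (ρ F.h₂ d')) :
    a = a' ∧ b = b' ∧ c = c' ∧ d = d' := by
  rw [F.mem_U] at ha hb hc hd ha' hb' hc' hd'
  have e1 := congrArg (fun x => ρ F.f₁ x) h
  have e2 := congrArg (fun x => ρ F.f₂ x) h
  have e3 := congrArg (fun x => ρ F.f₁ (ρ F.f₂ x)) h
  simp only [map_add, map_neg, F.c11, F.c12, F.c21, F.c22, ha.1, ha.2, hb.1, hb.2, hc.1, hc.2,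
    hd.1, hd.2, ha'.1, ha'.2, hb'.1, hb'.2, hc'.1, hc'.2, hd'.1, hd'.2] at e1 e2 e3
  have h4 : (4 : K) ≠ 0 := by rw [show (4 : K) = 2 * 2 by norm_num]; exact mul_ne_zero h2 h2
  have q0 : (4 : K) • a = (4 : K) • a' := by linear_combination (norm := module) h + e1 + e2 + e3
  have q1 : (4 : K) • ρ F.h₁ b = (4 : K) • ρ F.h₁ b' := by
    linear_combination (norm := module) h - e1 + e2 - e3
  have q2 : (4 : K) • ρ F.h₂ c = (4 : K) • ρ F.h₂ c' := by
    linear_combination (norm := module) h + e1 - e2 - e3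
  have q3 : (4 : K) • ρ F.h₁ (ρ F.h₂ d) = (4 : K) • ρ F.h₁ (ρ F.h₂ d') := by
    linear_combination (norm := module) h - e1 - e2 + e3
  exact ⟨smul_right_injective V h4 q0, rho_injective ρ _ (smul_right_injective V h4 q1),
    rho_injective ρ _ (smul_right_injective V h4 q2),
    rho_injective ρ _ (rho_injective ρ _ (smul_right_injective V h4 q3))⟩

/-- An element of the layer commutes with an involution up to sign. -/
theorem sign (H : Heis ρ K N) [Nontrivial V] {f n : G} (hf : f ∈ N) (hn : n ∈ N)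
    (hsq : ∀ v : V, ρ f (ρ f v) = v) :
    (∀ v : V, ρ f (ρ n v) = ρ n (ρ f v)) ∨ (∀ v : V, ρ f (ρ n v) = -ρ n (ρ f v)) := by
  obtain ⟨t, ht⟩ := H.comm f hf n hn
  have ht' : ∀ v, ρ f (ρ n v) = t • ρ n (ρ f v) := fun v => by
    rw [← rho_mul, ← rho_mul]; exact ht v
  obtain ⟨v, hv⟩ := exists_ne (0 : V)
  have h1 : ρ n v = (t * t) • ρ n v := by
    conv_lhs => rw [← hsq (ρ n v), ht', H.lin f hf, ht', hsq, smul_smul]
  have hne : ρ n v ≠ 0 := fun e => hv (rho_injective ρ n (e.trans (map_zero _).symm))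
  have h2 : t * t = 1 := smul_left_injective K hne (h1.symm.trans (one_smul K _).symm)
  rcases mul_self_eq_one_iff.1 h2 with rfl | rfl
  · exact Or.inl fun v => by rw [ht', one_smul]
  · exact Or.inr fun v => by rw [ht', neg_one_smul]

/-- An element of the layer maps the common fixed space onto one of its four translates. -/
theorem translate (H : Heis ρ K N) [Nontrivial V] {n : G} (hn : n ∈ N) :
    ∃ w, (w = 1 ∨ w = F.h₁ ∨ w = F.h₂ ∨ w = F.h₁ * F.h₂) ∧ ∀ v ∈ F.U, ρ (w⁻¹ * n) v ∈ F.U := by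
  have key : ∀ (w : G) (s t : Bool), (w ∈ N) →
      (∀ v, ρ F.f₁ (ρ w v) = (if s then ρ w (ρ F.f₁ v) else -ρ w (ρ F.f₁ v))) →
      (∀ v, ρ F.f₂ (ρ w v) = (if t then ρ w (ρ F.f₂ v) else -ρ w (ρ F.f₂ v))) →
      (∀ v, ρ F.f₁ (ρ n v) = (if s then ρ n (ρ F.f₁ v) else -ρ n (ρ F.f₁ v))) →
      (∀ v, ρ F.f₂ (ρ n v) = (if t then ρ n (ρ F.f₂ v) else -ρ n (ρ F.f₂ v))) →
      ∀ v ∈ F.U, ρ (w⁻¹ * n) v ∈ F.U := by
    intro w s t _ hw1 hw2 hn1 hn2 v hv
    rw [F.mem_U] at hv ⊢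
    constructor <;> apply rho_injective ρ w
    · have h1 := hw1 (ρ (w⁻¹ * n) v)
      rw [← rho_mul ρ w (w⁻¹ * n), mul_inv_cancel_left, hn1, hv.1] at h1
      cases s <;> simp only [Bool.false_eq_true, if_false, if_true, neg_inj] at h1 <;>
        rw [← h1, ← rho_mul ρ w (w⁻¹ * n), mul_inv_cancel_left]
    · have h1 := hw2 (ρ (w⁻¹ * n) v)
      rw [← rho_mul ρ w (w⁻¹ * n), mul_inv_cancel_left, hn2, hv.2] at h1
      cases t <;> simp only [Bool.false_eq_true, if_false, if_true, neg_inj] at h1 <;>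
        rw [← h1, ← rho_mul ρ w (w⁻¹ * n), mul_inv_cancel_left]
  rcases sign H F.hf₁ hn F.sq₁ with e1 | e1 <;> rcases sign H F.hf₂ hn F.sq₂ with e2 | e2
  · exact ⟨1, Or.inl rfl, key 1 true true (one_mem N) (fun v => by simp [rho_one])
      (fun v => by simp [rho_one]) (fun v => by simp [e1]) (fun v => by simp [e2])⟩
  · exact ⟨F.h₂, Or.inr (Or.inr (Or.inl rfl)), key F.h₂ true false F.hh₂ (fun v => by simp [F.c12])
      (fun v => by simp [F.c22]) (fun v => by simp [e1]) (fun v => by simp [e2])⟩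
  · exact ⟨F.h₁, Or.inr (Or.inl rfl), key F.h₁ false true F.hh₁ (fun v => by simp [F.c11])
      (fun v => by simp [F.c21]) (fun v => by simp [e1]) (fun v => by simp [e2])⟩
  · exact ⟨F.h₁ * F.h₂, Or.inr (Or.inr (Or.inr rfl)), key _ false false (mul_mem F.hh₁ F.hh₂)
      (fun v => by simp [rho_mul, F.c11, F.c12]) (fun v => by simp [rho_mul, F.c21, F.c22])
      (fun v => by simp [e1]) (fun v => by simp [e2])⟩

end Fr

/-- Two nested splittings give a frame. -/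
theorem exists_frame [Finite G] [Finite V] [Nontrivial V] (H : Heis ρ K N)
    (hpm : ∀ t : K, t ≠ 0 → t = 1 ∨ t = -1) (S : Split ρ K N) (hr : S.r = 2)
    (S₁ : @Split _ S.V0 _ _ S.ρ0 K _ (S.mod0 H) S.N0) (hr₁ : letI := S.mod0 H; S₁.r = 2) :
    letI := S.mod0 H
    ∃ F : Fr ρ K N, F.f₁ = S.f ∧
      ∀ v : V, v ∈ F.U ↔ ∃ hv : v ∈ S.V0, (⟨v, hv⟩ : S.V0) ∈ fixedBy (S.ρ0 S₁.f) := by
  letI := S.mod0 H
  haveI := S.nontrivial_V0
  have hω := S.omega_eq hr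
  have c11 : ∀ v, ρ S.f (ρ S.h v) = -ρ S.h (ρ S.f v) := fun v => by
    rw [S.comm, hω, neg_one_smul]
  have sq₁ : ∀ v, ρ S.f (ρ S.f v) = v := fun v => by
    have h1 : ρ (S.f ^ 2) v = v := by rw [← hr, S.pow_f]; rfl
    rwa [sq, rho_mul] at h1
  -- an element stabilizing the fixed space commutes with `f`
  have hcomm : ∀ n : S.G0, (n : G) ∈ N →
      ∀ v, ρ S.f (ρ (n : G) v) = ρ (n : G) (ρ S.f v) := by
    intro n hn
    rcases Fr.sign H S.hf hn sq₁ with e | e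
    · exact e
    · exfalso
      obtain ⟨v, hv, hfix⟩ := S.fixed
      have h1 := e v
      have h2 : ρ (n : G) v ∈ S.V0 := (n.2 v).2 hfix
      rw [show ρ S.f (ρ (n : G) v) = ρ (n : G) v from h2, hfix] at h1
      have hne : ρ (n : G) v ≠ 0 := fun e' => hv (rho_injective ρ _ (e'.trans (map_zero _).symm))
      have h3 : (2 : K) • ρ (n : G) v = 0 := by rw [two_smul]; nth_rw 1 [h1]; exact neg_add_cancel _
      rcases smul_eq_zero.1 h3 with h4 | h4
      · exact S.r_ne_zero (by rw [hr]; exact_mod_cast h4)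
      · exact hne h4
  -- adjusting by `f`
  have adjust : ∀ (n : S.G0) {m : G}, (n : G) ∈ N → m ∈ N → (∀ v, ρ S.f (ρ m v) = -ρ m (ρ S.f v)) →
      ∃ x : G, x ∈ N ∧ (∀ v ∈ S.V0, ρ x v = ρ (n : G) v) ∧
        (∀ v, ρ S.f (ρ x v) = ρ x (ρ S.f v)) ∧ ∀ v, ρ x (ρ m v) = ρ m (ρ x v) := by
    intro n m hn hm hfm
    have hsgn : (∀ v, ρ (n : G) (ρ m v) = ρ m (ρ (n : G) v)) ∨
        (∀ v, ρ (n : G) (ρ m v) = -ρ m (ρ (n : G) v)) := by
      obtain ⟨t, ht⟩ := exists_comm H hn hm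
      obtain ⟨v, hv, -⟩ := S.fixed
      have ht0 : t ≠ 0 := fun e0 => hv (rho_injective ρ m (rho_injective ρ (n : G) (by
        rw [ht, e0, zero_smul, map_zero, map_zero])))
      rcases hpm t ht0 with rfl | rfl
      · exact Or.inl fun v => by rw [ht, one_smul]
      · exact Or.inr fun v => by rw [ht, neg_one_smul]
    rcases hsgn with e | e
    · exact ⟨n, hn, fun v _ => rfl, hcomm n hn, e⟩
    · refine ⟨(n : G) * S.f, mul_mem hn S.hf, fun v hv => by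
        rw [rho_mul, show ρ S.f v = v from hv], fun v => by rw [rho_mul, rho_mul, hcomm n hn],
        fun v => by rw [rho_mul, rho_mul, hfm, map_neg, e, neg_neg]⟩
  obtain ⟨f₂, hf₂, hf₂v, c1f, c21⟩ := adjust S₁.f S₁.hf S.hh c11
  obtain ⟨h₂, hh₂, hh₂v, c12, chh⟩ := adjust S₁.h S₁.hh S.hh c11
  have hω₁ := S₁.omega_eq hr₁
  -- identities on the fixed space extend to the translates
  have ext2 : ∀ A B : V → V, (∀ v w, A (v + w) = A v + A w) → (∀ v w, B (v + w) = B v + B w) →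
      (∀ v ∈ S.V0, A v = B v) → (∀ v ∈ S.V0, A (ρ S.h v) = B (ρ S.h v)) → ∀ v, A v = B v := by
    intro A B hA hB h0 h1 v
    refine S.ext_h H hA hB (fun i hi w hw => ?_) v
    rcases (show i = 0 ∨ i = 1 by omega) with rfl | rfl
    · rw [pow_zero, rho_one]; exact h0 w hw
    · rw [pow_one]; exact h1 w hw
  have hV : ∀ {x : G}, (∀ v, ρ S.f (ρ x v) = ρ x (ρ S.f v)) → ∀ v ∈ S.V0, ρ x v ∈ S.V0 :=
    fun {x} hx v hv => by
      show ρ S.f (ρ x v) = ρ x v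
      rw [hx, show ρ S.f v = v from hv]
  have base22 : ∀ v ∈ S.V0, ρ f₂ (ρ h₂ v) = -ρ h₂ (ρ f₂ v) := fun v hv => by
    rw [hh₂v v hv, hf₂v v hv, hf₂v _ ((S₁.h.2 v).2 hv), hh₂v _ ((S₁.f.2 v).2 hv)]
    have e := congrArg Subtype.val (S₁.comm ⟨v, hv⟩)
    rw [hω₁, neg_one_smul] at e
    exact e
  have basesq : ∀ v ∈ S.V0, ρ f₂ (ρ f₂ v) = v := fun v hv => by
    rw [hf₂v v hv, hf₂v _ ((S₁.f.2 v).2 hv)]
    have e := congrArg Subtype.val (DFunLike.congr_fun S₁.pow_f ⟨v, hv⟩)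
    rw [hr₁, sq] at e
    exact (rho_mul ρ (S₁.f : G) S₁.f v).symm.trans e
  refine ⟨⟨S.f, f₂, S.h, h₂, S.hf, hf₂, S.hh, hh₂, c11, c12, c21, ?_, c1f,
    fun v => (chh v).symm, sq₁, ?_⟩, rfl, fun v => ?_⟩
  · exact ext2 (fun v => ρ f₂ (ρ h₂ v)) (fun v => -ρ h₂ (ρ f₂ v))
      (fun v w => by simp only [map_add]) (fun v w => by simp only [map_add]; abel) base22
      (fun v hv => by simp only [chh, c21, base22 v hv, map_neg])
  · exact ext2 (fun v => ρ f₂ (ρ f₂ v)) (fun v => v) (fun v w => by simp only [map_add])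
      (fun _ _ => rfl) basesq (fun v hv => by simp only [c21, basesq v hv])
  · constructor
    · rintro ⟨h1, h2⟩
      exact ⟨h1, Subtype.ext ((hf₂v v h1).symm.trans h2)⟩
    · rintro ⟨h1, h2⟩
      exact ⟨h1, (hf₂v v h1).trans (congrArg Subtype.val h2)⟩

end CfsgLib.PairBase
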