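import Cfsg.Agent.Lib.OddBase.Reduce
import Cfsg.Agent.Lib.PSqOne.Dichotomy

/-!
# Small symplectic modules over the field with two elements

A solvable completely reducible group of order prime to three preserving a non-degenerate
alternating form on at most `64` vectors has very few elements of prime order.
-/

set_option autoImplicit false
set_option linter.unusedSectionVars false
set_option linter.style.haveILetI false

namespace CfsgLib.PairBase

open CfsgLib.OddBase

universe u

variable {E : Type u} [AddCommGroup E]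

/-- A non-degenerate alternating form with values in the field with two elements, given by
orthogonality. -/
structure Form (O : E → E → Prop) : Prop where
  self : ∀ v, O v v
  symm : ∀ v w, O v w → O w v
  zero : ∀ v, O v 0
  add : ∀ v w w', O v w → (O v (w + w') ↔ O v w')
  add_not : ∀ v w w', ¬ O v w → ¬ O v w' → O v (w + w')
  nondeg : ∀ v, (∀ w, O v w) → v = 0

theorem sum_orth {O : E → E → Prop} (hO : Form O) {v : E} {ι : Type*} (s : Finset ι) (f : ι → E)
    (hf : ∀ i ∈ s, O v (f i)) : O v (∑ i ∈ s, f i) := by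
  classical
  induction s using Finset.induction_on with
  | empty => simpa using hO.zero v
  | insert i s hi ih =>
    rw [Finset.sum_insert hi, hO.add v _ _ (hf i (Finset.mem_insert_self i s))]
    exact ih fun j hj => hf j (Finset.mem_insert_of_mem hj)

theorem add_self (hexp : ∀ v : E, 2 • v = 0) (v : E) : v + v = 0 := by rw [← two_nsmul]; exact hexp v

theorem neg_self (hexp : ∀ v : E, 2 • v = 0) (v : E) : -v = v :=
  neg_eq_of_add_eq_zero_left (add_self hexp v)

variable {H : Type u} [Group H] {σ : H →* AddMonoid.End E}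

/-- The fixed space of an element of odd order has no radical. -/
theorem fixed_nondeg {O : E → E → Prop} (hO : Form O) (hexp : ∀ v : E, 2 • v = 0)
    (hinv : ∀ h v w, O v w → O (σ h v) (σ h w)) {h : H} {j : ℕ} (hh : h ^ (2 * j + 1) = 1)
    {v : E} (hv : σ h v = v) (horth : ∀ w, σ h w = w → O v w) : v = 0 := by
  refine hO.nondeg v fun w => ?_
  have hfixp : ∀ i : ℕ, σ (h ^ i) v = v := by
    intro i
    induction i with
    | zero => rw [pow_zero, rho_one]
    | succ i ih => rw [pow_succ, rho_mul, hv, ih]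
  have hdiff : ∀ i : ℕ, O v (σ (h ^ i) w + w) := by
    intro i
    by_cases hw : O v w
    · have h1 := hinv (h ^ i) _ _ hw
      rw [hfixp] at h1
      exact (hO.add v _ _ h1).mpr hw
    · refine hO.add_not v _ _ (fun h1 => hw ?_) hw
      have h2 := hinv (h ^ i)⁻¹ _ _ h1
      rwa [rho_inv_apply, show σ (h ^ i)⁻¹ v = v by
        conv_lhs => rw [← hfixp i]
        exact rho_inv_apply σ (h ^ i) v] at h2
  let s : E := ∑ i ∈ Finset.range (2 * j + 1), σ (h ^ i) w
  have hs : σ h s = s := by
    simp only [s]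
    rw [map_sum, Finset.sum_congr rfl fun i _ => (rho_mul σ h (h ^ i) w).symm]
    have h1 := Finset.sum_range_succ' (fun i => σ (h ^ i) w) (2 * j + 1)
    have h2 := Finset.sum_range_succ (fun i => σ (h ^ i) w) (2 * j + 1)
    simp only [pow_zero, hh, rho_one] at h1 h2
    rw [h1] at h2
    rw [← add_right_cancel h2]
    exact Finset.sum_congr rfl fun i _ => by rw [pow_succ']
  have hsum : O v (∑ i ∈ Finset.range (2 * j + 1), (σ (h ^ i) w + w)) :=
    sum_orth hO _ _ fun i _ => hdiff i
  rw [Finset.sum_add_distrib, Finset.sum_const, Finset.card_range, add_smul, one_smul,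
    mul_nsmul, hexp, smul_zero, zero_add] at hsum
  exact (hO.add v _ _ (horth s hs)).mp hsum

variable [Finite E]

/-- The possible primes and fixed spaces. -/
theorem prime_cases {O : E → E → Prop} (hO : Form O) (hexp : ∀ v : E, 2 • v = 0)
    (hinv : ∀ h v w, O v w → O (σ h v) (σ h w)) (hfaith : ∀ h, σ h = 1 → h = 1) [Finite H]
    {m : ℕ} (hE : Nat.card E = 4 ^ m) (hm : m ≤ 3) {h : H} {p : ℕ} (hp : p.Prime)
    (hord : orderOf h = p) (hp2 : p ≠ 2) (hp3 : p ≠ 3) :
    (p = 7 ∧ m = 3 ∧ Nat.card (fixedBy (σ h)) = 1) ∨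
      (p = 5 ∧ m = 3 ∧ Nat.card (fixedBy (σ h)) = 4) ∨
      (p = 5 ∧ m = 2 ∧ Nat.card (fixedBy (σ h)) = 1) := by
  classical
  haveI := Fact.mk hp
  obtain ⟨j, hj⟩ := hp.odd_of_ne_two hp2
  have hh : h ^ (2 * j + 1) = 1 := by rw [← hj, ← hord, pow_orderOf_eq_one]
  let F := fixedBy (σ h)
  have hFd : Nat.card F ∣ 2 ^ (2 * m) := by
    rw [pow_mul, show (2 : ℕ) ^ 2 = 4 from rfl, ← hE]
    exact AddSubgroup.card_addSubgroup_dvd_card _
  obtain ⟨a, ha, hF⟩ := (Nat.dvd_prime_pow Nat.prime_two).mp hFd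
  have hmod := card_modEq_fixedBy σ h (ℓ := p) (j := 1) (by rw [hord, pow_one])
  rw [hE, show fixedBy (σ h) = F from rfl, hF, show (4 : ℕ) = 2 ^ 2 from rfl, ← pow_mul] at hmod
  have hlt : a < 2 * m := by
    refine lt_of_le_of_ne ha fun he => ?_
    have h1 : σ h = 1 := by
      refine end_ext fun x => ?_
      have htop : F = ⊤ := AddSubgroup.eq_top_of_card_eq _ (by
        rw [hF, hE, he, pow_mul]; rfl)
      exact (show x ∈ F by rw [htop]; trivial)
    rw [hfaith h h1, orderOf_one] at hord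
    exact hp.one_lt.ne hord
  have hdvd : p ∣ 2 ^ (2 * m) - 2 ^ a :=
    (Nat.modEq_iff_dvd' (Nat.pow_le_pow_right two_pos hlt.le)).mp hmod.symm
  have ha1 : a ≠ 1 := by
    rintro rfl
    rw [pow_one] at hF
    haveI := Fintype.ofFinite F
    obtain ⟨⟨v, hvF⟩, hv0⟩ : ∃ v : F, v ≠ 0 := by
      haveI : Nontrivial F := Finite.one_lt_card_iff_nontrivial.mp (by omega)
      exact exists_ne 0
    refine hv0 (Subtype.ext (fixed_nondeg hO hexp hinv hh hvF fun w hw => ?_))
    by_cases hw0 : w = 0
    · exact hw0 ▸ hO.zero v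
    have h2 : (Finset.univ : Finset F) = {0, ⟨v, hvF⟩} := by
      refine (Finset.eq_of_subset_of_card_le (Finset.subset_univ _) ?_).symm
      rw [Finset.card_univ, ← Nat.card_eq_fintype_card, hF, Finset.card_pair (Ne.symm hv0)]
    have h3 : (⟨w, hw⟩ : F) ∈ ({0, ⟨v, hvF⟩} : Finset F) := h2 ▸ Finset.mem_univ _
    rcases Finset.mem_insert.mp h3 with h4 | h4
    · exact absurd (congrArg Subtype.val h4) hw0
    · rw [show w = v from congrArg Subtype.val (Finset.mem_singleton.mp h4)]
      exact hO.self v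
  have ha3 : a ≠ 3 := by
    rintro rfl
    obtain ⟨v, hvF, hv0⟩ : ∃ v ∈ F, v ≠ 0 := by
      by_contra hc
      push Not at hc
      rw [(AddSubgroup.eq_bot_iff_forall F).mpr hc, AddSubgroup.card_bot] at hF
      norm_num at hF
    obtain ⟨u, huF, huv⟩ : ∃ u ∈ F, ¬ O v u := by
      by_contra hc
      push Not at hc
      exact hv0 (fixed_nondeg hO hexp hinv hh hvF hc)
    -- the orthogonal of both in `F`
    obtain ⟨w, hwF, hw0, hwv, hwu⟩ : ∃ w ∈ F, w ≠ 0 ∧ O v w ∧ O u w := by
      by_contra hc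
      push Not at hc
      haveI := Fintype.ofFinite F
      have hinj : Function.Injective (fun w : F => (decide (O v w), decide (O u w))) := by
        rintro ⟨x, hx⟩ ⟨y, hy⟩ hxy
        simp only [Prod.mk.injEq, decide_eq_decide] at hxy
        by_contra hne
        have hne' : x + y ≠ 0 := fun h0 => hne (Subtype.ext (show x = y by
          rw [eq_neg_of_add_eq_zero_left h0, neg_self hexp]))
        have key : ∀ t, (O t x ↔ O t y) → O t (x + y) := fun t ht => by
          by_cases htx : O t x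
          · exact (hO.add t x y htx).mpr (ht.mp htx)
          · exact hO.add_not t x y htx fun h => htx (ht.mpr h)
        exact hc (x + y) (F.add_mem hx hy) hne' (key v hxy.1) (key u hxy.2)
      have := Fintype.card_le_of_injective _ hinj
      rw [← Nat.card_eq_fintype_card, hF] at this
      simp at this
    refine hw0 (fixed_nondeg hO hexp hinv hh hwF fun z hz => ?_)
    by_contra hwz
    -- `x ↦ (O v x, O u x, O w x)` is injective on `F`
    haveI := Fintype.ofFinite F
    let S : AddSubgroup E :=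
      { carrier := {x | x ∈ F ∧ O w x}
        zero_mem' := ⟨F.zero_mem, hO.zero w⟩
        add_mem' := fun {x y} hx hy => ⟨F.add_mem hx.1 hy.1, (hO.add w x y hx.2).mpr hy.2⟩
        neg_mem' := fun {x} hx => by rw [neg_self hexp]; exact hx }
    have hSF : S ≤ F := fun x hx => hx.1
    have hne : S ≠ F := fun h => hwz ((show z ∈ S by rw [h]; exact hz).2)
    have hdS : Nat.card S ∣ 2 ^ 3 := hF ▸ AddSubgroup.card_dvd_of_le hSF
    obtain ⟨b, hb, hbS⟩ := (Nat.dvd_prime_pow Nat.prime_two).mp hdS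
    have hb2 : b ≤ 2 := by
      by_contra hb2
      exact hne (AddSubgroup.eq_of_le_of_card_ge hSF (by rw [hF, hbS, show b = 3 by omega]))
    have hv' : v ∈ S := ⟨hvF, hO.symm _ _ hwv⟩
    have hu' : u ∈ S := ⟨huF, hO.symm _ _ hwu⟩
    have hw' : w ∈ S := ⟨hwF, hO.self w⟩
    have h5 : 5 ≤ Nat.card S := by
      haveI := Fintype.ofFinite S
      have hu0 : u ≠ 0 := fun h => huv (h ▸ hO.zero v)
      have hvu : v ≠ u := fun h => huv (h ▸ hO.self v)
      have hwv' : w ≠ v := fun h => huv (hO.symm _ _ (h ▸ hwu))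
      have hwu' : w ≠ u := fun h => huv (h ▸ hwv)
      have hs0 : v + u ≠ 0 := fun h => hvu (by rw [eq_neg_of_add_eq_zero_left h, neg_self hexp])
      have hsv : v + u ≠ v := fun h => hu0 (by simpa using h)
      have hsu : v + u ≠ u := fun h => hv0 (by simpa using h)
      have hsw : w ≠ v + u := fun h => huv ((hO.add v v u (hO.self v)).mp (h ▸ hwv))
      have hc : ({⟨0, S.zero_mem⟩, ⟨v, hv'⟩, ⟨u, hu'⟩, ⟨w, hw'⟩, ⟨v + u, S.add_mem hv' hu'⟩} :
          Finset S).card = 5 := by
        simp [hv0.symm, hu0.symm, hw0.symm, hs0.symm, hvu, hwv'.symm, hsv.symm, hwu'.symm,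
          hsu.symm, hsw]
      rw [Nat.card_eq_fintype_card, ← hc]
      exact Finset.card_le_univ _
    rw [hbS] at h5
    interval_cases b <;> norm_num at h5
  have hple := Nat.le_of_dvd (Nat.sub_pos_of_lt (Nat.pow_lt_pow_right one_lt_two hlt)) hdvd
  have hp5 : 5 ≤ p := by
    by_contra hc
    have := hp.two_le
    rcases (show p = 2 ∨ p = 3 ∨ p = 4 by omega) with rfl | rfl | rfl
    · exact hp2 rfl
    · exact hp3 rfl
    · norm_num at hp
  rw [hF]
  interval_cases m
  all_goals interval_cases a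
  all_goals try contradiction
  all_goals norm_num at hdvd hple ⊢
  all_goals interval_cases p
  all_goals first | omega | (norm_num at hdvd; done) | (norm_num at hp; done) | norm_num

theorem apply_trivial_of_small [Finite H] {U : AddSubgroup E} {h : H} {p : ℕ} [Fact p.Prime]
    (hU : ∀ x ∈ U, σ h x ∈ U) {j : ℕ} (hord : orderOf h = p ^ j) (hsmall : Nat.card U ≤ p)
    {x : E} (hx : x ∈ U) : σ h x = x := by
  classical
  let B : Subgroup H :=
    { carrier := {g | ∀ y, σ g y ∈ U ↔ y ∈ U}
      one_mem' := fun y => by rw [rho_one]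
      mul_mem' := fun {a b} ha hb y => by rw [rho_mul]; exact (ha _).trans (hb y)
      inv_mem' := fun {a} ha y => by
        conv_rhs => rw [← rho_apply_inv σ a y]
        exact (ha _).symm }
  have hhB : h ∈ B := fun y => ⟨fun hy => by
    obtain ⟨⟨z, hz⟩, e⟩ := Finite.surjective_of_injective
      (f := fun u : U => (⟨σ h u, hU u u.2⟩ : U))
      (fun a b e => Subtype.ext (rho_injective σ h (congrArg Subtype.val e))) ⟨σ h y, hy⟩
    rwa [← rho_injective σ h (congrArg Subtype.val e)], hU y⟩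
  let τ := restr (σ.comp B.subtype) U fun g y hy => (g.2 y).mpr hy
  have h1 := card_modEq_fixedBy τ (⟨h, hhB⟩ : B) (ℓ := p) (j := j) (by rw [Subgroup.orderOf_mk, hord])
  have hle : Nat.card (fixedBy (τ ⟨h, hhB⟩)) ≤ Nat.card U := Nat.card_le_card_of_injective _ Subtype.val_injective
  have hpos : 0 < Nat.card (fixedBy (τ ⟨h, hhB⟩)) := Nat.card_pos
  have heq : Nat.card (fixedBy (τ ⟨h, hhB⟩)) = Nat.card U := by
    rcases lt_or_eq_of_le hle with hlt | he
    · exfalso
      have h2 := Nat.le_of_dvd (by omega) ((Nat.modEq_iff_dvd' hle).mp h1.symm)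
      omega
    · exact he
  have htop := AddSubgroup.eq_top_of_card_eq _ heq
  exact congrArg Subtype.val (show (⟨x, hx⟩ : U) ∈ fixedBy (τ ⟨h, hhB⟩) by rw [htop]; trivial)

theorem fixed_map {a b : H} (hab : a * b = b * a) {x : E} (hx : x ∈ fixedBy (σ a)) :
    σ b x ∈ fixedBy (σ a) := by
  rw [mem_fixedBy] at hx ⊢
  rw [← rho_mul, hab, rho_mul, hx]

/-- The group has few elements of prime order. -/
theorem small_module {O : E → E → Prop} (hO : Form O) (hexp : ∀ v : E, 2 • v = 0)
    (hinv : ∀ h v w, O v w → O (σ h v) (σ h w)) (hfaith : ∀ h, σ h = 1 → h = 1) [Finite H]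
    [Group.IsSolvable H] (hcr : CR σ) (h3 : ¬ 3 ∣ Nat.card H)
    {m : ℕ} (hE : Nat.card E = 4 ^ m) (hm : m ≤ 3) :
    (∀ h : H, h = 1) ∨ ∃ p : ℕ, p.Prime ∧ (p = 5 ∨ p = 7) ∧ p ∣ Nat.card H ∧ 2 ≤ m ∧
      (m = 2 → p = 5) ∧ (∀ r : ℕ, r.Prime → r ∣ Nat.card H → r = 2 ∨ r = p) ∧
      Nat.card {h : H // orderOf h = p} ≤ p - 1 ∧ Nat.card {h : H // orderOf h = 2} ≤ p := by
  classical
  have hE2 : Nat.card E = 2 ^ (2 * m) := by rw [hE, pow_mul]; rfl
  have hno2 : ∀ (S : Subgroup H) [S.Normal], IsPGroup 2 S → S = ⊥ := fun S _ hS =>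
    (Subgroup.eq_bot_iff_forall S).mpr fun g hg =>
      hfaith g (normal_pgroup_trivial hcr hE2 S hS g hg)
  have hne3 : ∀ r : ℕ, r ∣ Nat.card H → r ≠ 3 := fun r hr h => h3 (h ▸ hr)
  rcases subsingleton_or_nontrivial H with hH | hH
  · exact Or.inl fun h => Subsingleton.elim _ _
  refine Or.inr ?_
  obtain ⟨A, hAn, hA0, hAc⟩ := CfsgLib.PSqOne.exists_normal_abelian (R := H) inferInstance
  haveI := hAn
  obtain ⟨p, hp, hpA⟩ := Nat.exists_prime_and_dvd
    (show Nat.card A ≠ 1 from fun h => hA0 (Subgroup.card_eq_one.mp h))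
  haveI := Fact.mk hp
  let P : Subgroup H :=
    { carrier := {a | a ∈ A ∧ a ^ p = 1}
      one_mem' := ⟨one_mem _, one_pow _⟩
      mul_mem' := fun {a b} ha hb => ⟨mul_mem ha.1 hb.1, by
        rw [(show Commute a b from hAc a ha.1 b hb.1).mul_pow, ha.2, hb.2, one_mul]⟩
      inv_mem' := fun {a} ha => ⟨inv_mem ha.1, by rw [inv_pow, ha.2, inv_one]⟩ }
  haveI hPn : P.Normal := ⟨fun a ha g => ⟨hAn.conj_mem a ha.1 g, by rw [conj_pow, ha.2]; simp⟩⟩
  have hPp : IsPGroup p P := fun a => ⟨1, Subtype.ext (by rw [pow_one]; exact a.2.2)⟩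
  obtain ⟨⟨s, hsA⟩, hs⟩ := exists_prime_orderOf_dvd_card' p hpA
  replace hs : orderOf s = p := (Subgroup.orderOf_mk s hsA).symm.trans hs
  have hsP : s ∈ P := ⟨hsA, by rw [← hs]; exact pow_orderOf_eq_one s⟩
  have hs1 : s ≠ 1 := fun h => hp.one_lt.ne (by rw [← hs, h, orderOf_one])
  have hpH : p ∣ Nat.card H := hpA.trans A.card_subgroup_dvd_card
  have hp2 : p ≠ 2 := by
    rintro rfl
    exact hs1 (Subgroup.mem_bot.mp (hno2 P hPp ▸ hsP))
  have hcases := prime_cases hO hexp hinv hfaith hE hm hp hs hp2 (hne3 p hpH)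
  have hp57 : p = 5 ∨ p = 7 := by
    rcases hcases with ⟨h, -⟩ | ⟨h, -⟩ | ⟨h, -⟩ <;> simp [h]
  have hm2 : 2 ≤ m ∧ (m = 2 → p = 5) := by
    rcases hcases with ⟨h, h', -⟩ | ⟨h, h', -⟩ | ⟨h, h', -⟩ <;> omega
  -- the `p`-part has order `p`
  have hsq : ¬ p ^ 2 ∣ Nat.card H := by
    intro hd
    obtain ⟨T, hT⟩ := Sylow.exists_subgroup_card_pow_prime p hd
    have hTc : ∀ a ∈ T, ∀ b ∈ T, a * b = b * a := fun a ha b hb =>
      congrArg Subtype.val (IsPGroup.commutative_of_card_eq_prime_sq hT ⟨a, ha⟩ ⟨b, hb⟩)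
    obtain ⟨⟨t, htT⟩, ht⟩ := exists_prime_orderOf_dvd_card' (G := T) p
      (hT ▸ dvd_pow_self p two_ne_zero)
    replace ht : orderOf t = p := (Subgroup.orderOf_mk t htT).symm.trans ht
    have hc := prime_cases hO hexp hinv hfaith hE hm hp ht hp2 (hne3 p hpH)
    let F := fixedBy (σ t)
    have hFle : Nat.card F ≤ p := by
      rcases hc with ⟨h, -, hF⟩ | ⟨h, -, hF⟩ | ⟨h, -, hF⟩ <;> rw [hF] <;> omega
    have hpow : ∀ x ∈ T, x ≠ 1 → fixedBy (σ x) = F := by
      intro x hx hx1
      have hd' : orderOf x ∣ p ^ 2 := by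
        rw [← hT]
        exact (Subgroup.orderOf_mk x hx).symm ▸ orderOf_dvd_natCard (⟨x, hx⟩ : T)
      obtain ⟨j, -, hj⟩ := (Nat.dvd_prime_pow hp).mp hd'
      have hge : F ≤ fixedBy (σ x) := fun y hy => mem_fixedBy.mpr (apply_trivial_of_small
        (fun z hz => fixed_map (hTc t htT x hx) hz) hj hFle hy)
      have hjpos : 1 ≤ j := by
        by_contra h
        exact hx1 (orderOf_eq_one_iff.mp (by rw [hj, show j = 0 by omega, pow_zero]))
      obtain ⟨y, hy, hle⟩ : ∃ y, orderOf y = p ∧ fixedBy (σ x) ≤ fixedBy (σ y) := by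
        refine ⟨x ^ p ^ (j - 1), ?_, fun z hz => ?_⟩
        · rw [orderOf_pow' x (pow_ne_zero _ hp.ne_zero), hj,
            Nat.gcd_eq_right (pow_dvd_pow p (by omega : j - 1 ≤ j)), Nat.pow_div (by omega) hp.pos,
            show j - (j - 1) = 1 by omega, pow_one]
        · rw [mem_fixedBy] at hz ⊢
          have : ∀ i : ℕ, σ (x ^ i) z = z := by
            intro i
            induction i with
            | zero => rw [pow_zero, rho_one]
            | succ i ih => rw [pow_succ, rho_mul, hz, ih]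
          exact this _
      refine (AddSubgroup.eq_of_le_of_card_ge hge ?_).symm
      refine (Nat.le_of_dvd Nat.card_pos (AddSubgroup.card_dvd_of_le hle)).trans (le_of_eq ?_)
      rcases hc with ⟨h, h', hF⟩ | ⟨h, h', hF⟩ | ⟨h, h', hF⟩ <;>
        rcases prime_cases hO hexp hinv hfaith hE hm hp hy hp2 (hne3 p hpH) with
          ⟨g, g', hG⟩ | ⟨g, g', hG⟩ | ⟨g, g', hG⟩ <;> simp only [F] at * <;> omega
    let X := {x : E // x ∉ F}
    letI : MulAction T X :=
      { smul := fun x y => ⟨σ (x : H) y.1, fun hc' => y.2 (by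
          have h1 := fixed_map (σ := σ) (hTc t htT _ (inv_mem x.2)) hc'
          rwa [rho_inv_apply] at h1)⟩
        one_smul := fun y => Subtype.ext (rho_one σ y.1)
        mul_smul := fun a b y => Subtype.ext (rho_mul σ a b y.1) }
    have hfree : ∀ y : X, MulAction.stabilizer T y = ⊥ := by
      intro y
      rw [Subgroup.eq_bot_iff_forall]
      intro x hx
      by_contra hx1
      exact y.2 ((hpow x x.2 fun h => hx1 (Subtype.ext h)).le
        (show y.1 ∈ fixedBy (σ (x : H)) from congrArg Subtype.val (MulAction.mem_stabilizer_iff.mp hx)))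
    haveI : Fintype E := Fintype.ofFinite E
    have hX : Nat.card X = Nat.card E - Nat.card F := by
      have h1 : Nat.card {x : E // x ∈ F} = Nat.card F := rfl
      rw [Nat.card_eq_fintype_card, Nat.card_eq_fintype_card, Fintype.card_subtype_compl,
        ← Nat.card_eq_fintype_card (α := {x : E // x ∈ F}), h1]
    have hdX : p ^ 2 ∣ Nat.card X := by
      haveI := Fintype.ofFinite (Quotient (MulAction.orbitRel T X))
      rw [Nat.card_congr (MulAction.selfEquivSigmaOrbits T X), Nat.card_sigma]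
      refine Finset.dvd_sum fun y _ => ?_
      rw [Nat.card_congr (MulAction.orbitEquivQuotientStabilizer T y.out), hfree,
        ← Subgroup.index, Subgroup.index_bot, hT]
    rw [hX, hE] at hdX
    rcases hc with ⟨h, h', hF⟩ | ⟨h, h', hF⟩ | ⟨h, h', hF⟩ <;> simp only [F] at * <;>
      rw [hF, h, h'] at hdX <;> norm_num at hdX
  -- elements of other odd prime order do not centralize `P`
  have hcomm : ∀ (r : ℕ) (c : H), r.Prime → orderOf c = r → c * s = s * c → r = 2 ∨ r = p := by
    intro r c hr hc hcs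
    by_contra hcon
    rw [not_or] at hcon
    haveI := Fact.mk hr
    have hr3 : r ≠ 3 := hne3 r (hc ▸ orderOf_dvd_natCard c)
    rcases hcases with ⟨h, h', hF⟩ | ⟨h, h', hF⟩ | ⟨h, h', hF⟩ <;>
      rcases prime_cases hO hexp hinv hfaith hE hm hr hc hcon.1 hr3 with
        ⟨g, g', hG⟩ | ⟨g, g', hG⟩ | ⟨g, g', hG⟩ <;> try omega
    · -- `p = 7`, `r = 5`
      have hfix : fixedBy (σ c) ≤ fixedBy (σ s) := fun y hy => mem_fixedBy.mpr
        (apply_trivial_of_small (p := p) (fun z hz => fixed_map hcs hz) (j := 1) (by rw [hs, pow_one])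
          (by omega) hy)
      have h1 := AddSubgroup.card_dvd_of_le hfix
      rw [hF, hG] at h1
      norm_num at h1
    · -- `p = 5`, `r = 7`
      have hfix : fixedBy (σ s) ≤ fixedBy (σ c) := fun y hy => mem_fixedBy.mpr
        (apply_trivial_of_small (p := r) (fun z hz => fixed_map hcs.symm hz) (j := 1) (by rw [hc, pow_one])
          (by omega) hy)
      have h1 := AddSubgroup.card_dvd_of_le hfix
      rw [hF, hG] at h1
      norm_num at h1
  have hPcard : Nat.card P = p := by
    obtain ⟨j, hj⟩ := IsPGroup.iff_card.mp hPp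
    have h1 : p ∣ Nat.card P :=
      hs ▸ (Subgroup.orderOf_mk s hsP).symm ▸ orderOf_dvd_natCard (⟨s, hsP⟩ : P)
    have hj0 : j ≠ 0 := by
      rintro rfl
      rw [hj, pow_zero, Nat.dvd_one] at h1
      exact hp.one_lt.ne' h1
    have hj2 : j < 2 := by
      by_contra hc
      exact hsq ((pow_dvd_pow p (not_lt.mp hc)).trans (hj ▸ P.card_subgroup_dvd_card))
    rw [hj, show j = 1 by omega, pow_one]
  have hPpow : ∀ x ∈ P, x ∈ Subgroup.zpowers s := by
    have h1 : Subgroup.zpowers s = P := Subgroup.eq_of_le_of_card_ge (Subgroup.zpowers_le.mpr hsP)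
      (by rw [Nat.card_zpowers, hs, hPcard])
    exact fun x hx => h1 ▸ hx
  -- the centralizer of `P` is `P`
  let C : Subgroup H := Subgroup.centralizer (P : Set H)
  haveI : C.Normal := inferInstanceAs (Subgroup.centralizer (P : Set H)).Normal
  have hPC : P ≤ C := fun x hx => Subgroup.mem_centralizer_iff.mpr fun y hy => hAc y hy.1 x hx.1
  have hC : ∀ c ∈ C, c ∈ P := by
    let S : Sylow 2 C := Classical.arbitrary _
    let T : Subgroup H := P ⊔ (S : Subgroup C).map C.subtype
    have hSC : (S : Subgroup C).map C.subtype ≤ C := Subgroup.map_subtype_le _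
    have hScard : Nat.card ((S : Subgroup C).map C.subtype) = 2 ^ (Nat.card C).factorization 2 := by
      rw [Subgroup.card_map_of_injective C.subtype_injective]
      exact Sylow.card_eq_multiplicity S
    have hCdvd : Nat.card C ∣ p * 2 ^ (Nat.card C).factorization 2 := by
      have hpart := Nat.ordProj_mul_ordCompl_eq_self (Nat.card C) 2
      set t := Nat.card C / 2 ^ (Nat.card C).factorization 2 with ht
      refine (dvd_of_eq hpart.symm).trans ?_
      rw [mul_comm]
      refine Nat.mul_dvd_mul_right ?_ _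
      have htC : t ∣ Nat.card C := Dvd.intro_left _ hpart
      have htH : t ∣ Nat.card H := htC.trans C.card_subgroup_dvd_card
      have ht2 : ¬ 2 ∣ t := Nat.not_dvd_ordCompl Nat.prime_two Nat.card_pos.ne'
      have hall : ∀ r : ℕ, r.Prime → r ∣ t → r = p := by
        intro r hr hrt
        haveI := Fact.mk hr
        obtain ⟨⟨c, hcC⟩, hc⟩ := exists_prime_orderOf_dvd_card' (G := C) r (hrt.trans htC)
        replace hc : orderOf c = r := (Subgroup.orderOf_mk c hcC).symm.trans hc
        exact (hcomm r c hr hc (Subgroup.mem_centralizer_iff.mp hcC s hsP).symm).resolve_left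
          fun h => ht2 (h ▸ hrt)
      have ht0 : t ≠ 0 := fun h => Nat.card_pos.ne' (Nat.eq_zero_of_zero_dvd (h ▸ htC))
      have htp := Nat.eq_prime_pow_of_unique_prime_dvd ht0 fun {r} hr hrt => hall r hr hrt
      rw [htp]
      refine (pow_dvd_pow p ?_).trans (pow_one p).dvd
      by_contra hc
      exact hsq ((pow_dvd_pow p (show 2 ≤ t.primeFactorsList.length by omega)).trans (htp ▸ htH))
    have hinfbot : P ⊓ (S : Subgroup C).map C.subtype = ⊥ := by
      refine Subgroup.inf_eq_bot_of_coprime ?_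
      rw [hPcard, hScard]
      exact Nat.Coprime.pow_right _ ((Nat.coprime_primes hp Nat.prime_two).mpr hp2)
    have hTC : T = C := by
      refine Subgroup.eq_of_le_of_card_ge (sup_le hPC hSC) (Nat.le_of_dvd Nat.card_pos ?_)
      refine hCdvd.trans (Nat.Coprime.mul_dvd_of_dvd_of_dvd ?_ ?_ ?_)
      · exact Nat.Coprime.pow_right _ ((Nat.coprime_primes hp Nat.prime_two).mpr hp2)
      · exact hPcard ▸ Subgroup.card_dvd_of_le le_sup_left
      · exact hScard ▸ Subgroup.card_dvd_of_le le_sup_right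
    have hSn : (S : Subgroup C).Normal := by
      refine ⟨fun x hx c => ?_⟩
      obtain ⟨u, hu, w, hw, huw⟩ : ∃ u ∈ P, ∃ w ∈ (S : Subgroup C).map C.subtype,
          u * w = (c : H) := Subgroup.mem_sup_of_normal_left.mp (hTC.symm ▸ c.2 : (c : H) ∈ T)
      obtain ⟨w', hw', rfl⟩ := hw
      simp only [Subgroup.coe_subtype] at huw
      have hu1 : (x : H) * u = u * x := (Subgroup.mem_centralizer_iff.mp x.2 u hu).symm
      have hw'u : (w' : H) * u = u * w' := (Subgroup.mem_centralizer_iff.mp w'.2 u hu).symm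
      have h1 : c * x * c⁻¹ = w' * x * w'⁻¹ := Subtype.ext (by
        show (c : H) * x * (c : H)⁻¹ = w' * x * (w' : H)⁻¹
        rw [← huw, show u * (w' : H) = w' * u from hw'u.symm]
        show (w' : H) * u * x * ((w' : H) * u)⁻¹ = _
        rw [mul_inv_rev, mul_assoc ((w' : H)) u, ← hu1]
        group)
      exact h1 ▸ mul_mem (mul_mem hw' hx) (inv_mem hw')
    haveI := hSn
    haveI := Sylow.characteristic_of_normal S hSn
    have hbot := hno2 ((S : Subgroup C).map C.subtype) (S.2.map C.subtype)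
    intro c hc
    rw [← hTC] at hc
    simpa [T, hbot] using hc
  -- at most `p` involutions
  haveI : IsCyclic P := isCyclic_of_prime_card hPcard
  let φ : H →* MulAut P := MulAut.conjNormal
  have hφ : ∀ x, φ x = 1 → x ∈ P := fun x hx => hC x (Subgroup.mem_centralizer_iff.mpr fun y hy => by
    have h1 := congrArg Subtype.val (DFunLike.congr_fun hx (⟨y, hy⟩ : P))
    change x * y * x⁻¹ = y at h1
    rw [mul_inv_eq_iff_eq_mul] at h1
    exact h1.symm)
  have hinvol : ∀ x : H, orderOf x = 2 → ∀ y : P, φ x y = y⁻¹ := by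
    intro x hx y
    have hx2 : x ^ 2 = 1 := by rw [← hx, pow_orderOf_eq_one]
    obtain ⟨k, hk⟩ := MonoidHom.map_cyclic (φ x).toMonoidHom
    have hk' : ∀ z : P, φ x z = z ^ k := hk
    have hsq' : ∀ z : P, z ^ (k * k) = z := fun z => by
      rw [zpow_mul, ← hk' z, ← hk', ← MulAut.mul_apply, ← map_mul, ← sq, hx2, map_one]
      rfl
    let s' : P := ⟨s, hsP⟩
    have hs' : orderOf s' = p := (Subgroup.orderOf_mk s hsP).trans hs
    have hdvd : (p : ℤ) ∣ (k - 1) * (k + 1) := by
      rw [← hs', orderOf_dvd_iff_zpow_eq_one, show (k - 1) * (k + 1) = k * k + -1 by ring, zpow_add,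
        hsq', zpow_neg_one, mul_inv_cancel]
    have hgen : ∀ z : P, z ^ (p : ℤ) = 1 := fun z => by
      rw [zpow_natCast]; exact Subtype.ext z.2.2
    rcases (Nat.prime_iff_prime_int.mp hp).dvd_or_dvd hdvd with ⟨l, hl⟩ | ⟨l, hl⟩
    · exfalso
      have hxP : x ∈ P := hφ x (MulEquiv.ext fun z => by
        rw [hk', show k = 1 + p * l by omega, zpow_add, zpow_one, zpow_mul, hgen, one_zpow, mul_one]
        rfl)
      have : orderOf x ∣ p := hPcard ▸ (Subgroup.orderOf_mk x hxP).symm ▸
        orderOf_dvd_natCard (⟨x, hxP⟩ : P)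
      rw [hx, Nat.prime_dvd_prime_iff_eq Nat.prime_two hp] at this
      exact hp2 this.symm
    · rw [hk', show k = -1 + p * l by omega, zpow_add, zpow_mul, hgen, one_zpow, mul_one,
        zpow_neg_one]
  refine ⟨p, hp, hp57, hpH, hm2.1, hm2.2, fun r hr hrH => ?_, ?_, ?_⟩
  · by_contra hcon
    rw [not_or] at hcon
    haveI := Fact.mk hr
    obtain ⟨c, hc⟩ := exists_prime_orderOf_dvd_card' r hrH
    have hr3 : r ≠ 3 := hne3 r hrH
    have hord : orderOf (φ c) ∣ r := hc ▸ orderOf_map_dvd φ c
    rcases (Nat.dvd_prime hr).mp hord with h | h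
    · have hcP := hφ c (orderOf_eq_one_iff.mp h)
      have : orderOf c ∣ p := hPcard ▸ (Subgroup.orderOf_mk c hcP).symm ▸
        orderOf_dvd_natCard (⟨c, hcP⟩ : P)
      rw [hc, Nat.prime_dvd_prime_iff_eq hr hp] at this
      exact hcon.2 this
    · have h1 : orderOf (φ c) ∣ Nat.card (MulAut P) := orderOf_dvd_natCard _
      rw [IsCyclic.card_mulAut, hPcard, Nat.totient_prime hp, h] at h1
      have := Nat.le_of_dvd (by have := hp.two_le; omega) h1
      have := hr.two_le
      rcases hp57 with rfl | rfl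
      · interval_cases r <;> first | omega | (norm_num at hr; done) | (norm_num at h1; done)
      · interval_cases r <;> first | omega | (norm_num at hr; done) | (norm_num at h1; done)
  · -- elements of order `p`
    have hsub : ∀ h : H, orderOf h = p → h ∈ P := by
      intro h hh
      have hj : orderOf (φ h) ∣ p := hh ▸ orderOf_map_dvd φ h
      rcases (Nat.dvd_prime hp).mp hj with h1 | h1
      · exact hφ h (orderOf_eq_one_iff.mp h1)
      · exfalso
        have h2 : orderOf (φ h) ∣ Nat.card (MulAut P) := orderOf_dvd_natCard _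
        rw [IsCyclic.card_mulAut, hPcard, Nat.totient_prime hp, h1] at h2
        have := Nat.le_of_dvd (by have := hp.two_le; omega) h2
        have := hp.two_le
        omega
    let f : {h : H // orderOf h = p} → {x : P // x ≠ 1} := fun h =>
      ⟨⟨h.1, hsub h.1 h.2⟩, fun e => hp.one_lt.ne (by
        rw [← h.2, show h.1 = 1 from congrArg Subtype.val e, orderOf_one])⟩
    refine (Nat.card_le_card_of_injective f fun a b e => Subtype.ext
      (congrArg (fun z : {x : P // x ≠ 1} => ((z.1 : P) : H)) e)).trans (le_of_eq ?_)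
    haveI := Fintype.ofFinite P
    rw [Nat.card_eq_fintype_card, Fintype.card_subtype_compl, Fintype.card_subtype_eq,
      ← Nat.card_eq_fintype_card, hPcard]
  · -- involutions
    rcases isEmpty_or_nonempty {h : H // orderOf h = 2} with he | ⟨⟨t, ht⟩⟩
    · simp
    let f : {h : H // orderOf h = 2} → P := fun h => ⟨h.1 * t⁻¹, hφ _ (MulEquiv.ext fun y => by
      rw [map_mul, map_inv, MulAut.mul_apply, hinvol _ h.2]
      show ((φ t)⁻¹ y)⁻¹ = y
      rw [← hinvol t ht ((φ t)⁻¹ y)]
      exact (φ t).apply_symm_apply y)⟩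
    refine (Nat.card_le_card_of_injective f fun a b e => Subtype.ext
      (mul_right_cancel (congrArg Subtype.val e))).trans hPcard.le

end CfsgLib.PairBase
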