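import Cfsg.Agent.Lib.PairBase.Setting
import Cfsg.Agent.Lib.PairBase.TopModule
import Cfsg.Agent.Lib.OddBase.Dim
import Cfsg.Agent.Lib.OddBase.Count

/-!
# Two vectors over the field with three elements in dimensions four and eight

With a regular vector for the layer, the few elements of prime order of the group induced on the
layer module leave a vector moved by all of those fixing the regular one.
-/

set_option autoImplicit false
set_option maxHeartbeats 800000
set_option linter.unusedSectionVars false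
set_option linter.style.haveILetI false

namespace CfsgLib.PairBase

open CfsgLib.OddBase
open scoped commutatorElement

universe u

variable {G V : Type u} [Group G] [AddCommGroup V]

/-- The stabilizer of a vector. -/
def stab (ρ : G →* AddMonoid.End V) (v : V) : Subgroup G where
  carrier := {g | ρ g v = v}
  one_mem' := rho_one ρ v
  mul_mem' {a b} ha hb := by
    simp only [Set.mem_ofPred_eq] at ha hb ⊢
    rw [rho_mul, hb, ha]
  inv_mem' {a} ha := by
    simp only [Set.mem_ofPred_eq] at ha ⊢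
    conv_lhs => rw [← ha]
    exact rho_inv_apply ρ a v

theorem mem_stab {ρ : G →* AddMonoid.End V} {v : V} {g : G} : g ∈ stab ρ v ↔ ρ g v = v := Iff.rfl

/-- A freely acting subgroup divides an invariant set. -/
theorem dvd_of_free [Finite V] (ρ : G →* AddMonoid.End V) (S : Subgroup G) (P : V → Prop)
    (hP : ∀ g ∈ S, ∀ v, P v → P (ρ g v)) (hfree : ∀ g ∈ S, ∀ v, P v → ρ g v = v → g = 1) :
    Nat.card S ∣ Nat.card {v : V // P v} := by
  letI : MulAction S {v : V // P v} :=
    { smul := fun g v => ⟨ρ (g : G) v, hP g g.2 v v.2⟩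
      one_smul := fun v => Subtype.ext (rho_one ρ v.1)
      mul_smul := fun g h v => Subtype.ext (rho_mul ρ g h v.1) }
  have hst : ∀ v : {v : V // P v}, MulAction.stabilizer S v = ⊥ := by
    intro v
    rw [Subgroup.eq_bot_iff_forall]
    intro g hg
    exact Subtype.ext (hfree g g.2 v v.2 (congrArg Subtype.val hg))
  have h := Nat.card_congr (MulAction.selfEquivOrbitsQuotientProd hst)
  rw [Nat.card_prod] at h
  exact Dvd.intro_left _ h.symm

theorem top_three [Finite G] [Group.IsSolvable G] [Finite V] {K : Type u} [Field K] [Finite K]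
    [Module K V] (ρ : G →* AddMonoid.End V) (hfaith : ∀ g, ρ g = 1 → g = 1)
    (hcop : (Nat.card G : K) ≠ 0) (Z N : Subgroup G) [Z.Normal] (hL : IsLayer Z N)
    (hcent : ∀ c ∈ Subgroup.centralizer (Z : Set G), (∀ y ∈ N, c * y = y * c) → c ∈ Z)
    (hZ : ∀ z ∈ Z, ∃ r : K, ∀ v, ρ z v = r • v)
    (H : Heis ρ K N) (hq : Nat.card K = 3)
    (he : Module.finrank K V = 4 ∨ Module.finrank K V = 8)
    (hreg : ∃ a : V, a ≠ 0 ∧ Regular ρ N a) : Good ρ := by
  classical
  obtain ⟨a, ha0, ha⟩ := hreg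
  haveI : Nontrivial V := ⟨⟨a, 0, ha0⟩⟩
  haveI := hL.normal
  haveI := Fintype.ofFinite K
  haveI := Fintype.ofFinite V
  haveI : Module.Finite K V := Module.Finite.of_finite
  -- the field
  have hK3 : ∀ r : K, r = 0 ∨ r = 1 ∨ r = -1 := fun r => by
    by_cases hr : r = 0
    · exact Or.inl hr
    · have h := FiniteField.pow_card_sub_one_eq_one r hr
      rw [← Nat.card_eq_fintype_card, hq] at h
      exact Or.inr (sq_eq_one_iff.mp h)
  have h3K : (3 : ℕ) ∣ Nat.card G → False := by
    rintro ⟨k, hk⟩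
    refine hcop ?_
    have h := FiniteField.cast_card_eq_zero K
    rw [← Nat.card_eq_fintype_card, hq] at h
    rw [hk, Nat.cast_mul, h, zero_mul]
  have hlin : ∀ (g : G) (r : K) (v : V), ρ g (r • v) = r • ρ g v := fun g r v => by
    rcases hK3 r with rfl | rfl | rfl
    · rw [zero_smul, zero_smul, map_zero]
    · rw [one_smul, one_smul]
    · rw [neg_smul, one_smul, neg_smul, one_smul, map_neg]
  have heq : ∀ b c : G, ρ b = ρ c → b = c := fun b c h => eq_of_mul_inv_eq_one (hfaith _ (by
    rw [map_mul, h, ← map_mul, mul_inv_cancel, map_one]))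
  have hC : ∀ g : G, g ∈ Subgroup.centralizer (Z : Set G) := fun g =>
    Subgroup.mem_centralizer_iff.mpr fun z hz => heq _ _ (end_ext fun v => by
      obtain ⟨r, hr⟩ := hZ z hz
      rw [rho_mul, rho_mul, hr, hr, hlin])
  -- the scalars
  let ι : ↥Z →* K :=
    { toFun := fun z => Classical.choose (hZ z z.2)
      map_one' := smul_left_injective K ha0 (by
        show Classical.choose (hZ (1 : ↥Z) (1 : ↥Z).2) • a = (1 : K) • a
        rw [← Classical.choose_spec (hZ (1 : ↥Z) (1 : ↥Z).2), one_smul]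
        exact rho_one ρ a)
      map_mul' := fun b c => smul_left_injective K ha0 (by
        show Classical.choose (hZ (b * c : ↥Z) (b * c).2) • a =
          (Classical.choose (hZ b b.2) * Classical.choose (hZ c c.2)) • a
        rw [← Classical.choose_spec (hZ (b * c : ↥Z) (b * c).2), mul_smul,
          ← Classical.choose_spec (hZ c c.2), ← Classical.choose_spec (hZ b b.2)]
        exact rho_mul ρ b c a) }
  have hι : ∀ (z : ↥Z) (v : V), ρ (z : G) v = ι z • v := fun z => Classical.choose_spec (hZ z z.2)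
  have hιinj : Function.Injective ι := fun b c h => Subtype.ext (heq _ _ (end_ext fun v => by
    rw [hι, hι, h]))
  haveI : IsCyclic ↥Z := isCyclic_of_subgroup_isDomain ι hιinj
  have hZdvd : Nat.card Z ∣ 2 := by
    have h := Subgroup.card_dvd_of_injective ι.toHomUnits fun b c h =>
      hιinj (congrArg Units.val h)
    rwa [Nat.card_units, hq] at h
  have hιpm : ∀ (z : G) (hz : z ∈ Z), z ≠ 1 → ι ⟨z, hz⟩ = -1 := fun z hz hz1 => by
    rcases hK3 (ι ⟨z, hz⟩) with h | h | h
    · exact absurd (rho_injective ρ z ((hι ⟨z, hz⟩ a).trans (by rw [h, zero_smul, map_zero]))) ha0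
    · exact absurd (congrArg Subtype.val (hιinj (h.trans (map_one ι).symm))) hz1
    · exact h
  have hz2 : ∀ z ∈ Z, z * z = 1 := fun z hz => by
    by_cases hz1 : z = 1
    · rw [hz1, one_mul]
    · have h : ι (⟨z, hz⟩ * ⟨z, hz⟩) = ι 1 := by
        rw [map_mul, map_one, hιpm z hz hz1, neg_mul_neg, one_mul]
      exact congrArg Subtype.val (hιinj h)
  have hzeq : ∀ b ∈ Z, ∀ c ∈ Z, b ≠ 1 → c ≠ 1 → b = c := fun b hb c hc hb1 hc1 =>
    congrArg Subtype.val (hιinj (a₁ := ⟨b, hb⟩) (a₂ := ⟨c, hc⟩)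
      (by rw [hιpm b hb hb1, hιpm c hc hc1]))
  have hZfix : ∀ z ∈ Z, z ≠ 1 → Nat.card (fixedBy (ρ z)) = 1 := fun z hz hz1 => by
    have : fixedBy (ρ z) = ⊥ := (AddSubgroup.eq_bot_iff_forall _).mpr fun v hv => by
      rw [mem_fixedBy, hι ⟨z, hz⟩, hιpm z hz hz1, neg_one_smul] at hv
      have h2 : (2 : K) • v = 0 := by rw [two_smul]; nth_rw 1 [← hv]; exact neg_add_cancel v
      refine (smul_eq_zero.mp h2).resolve_left fun h0 => ?_
      have h3 := FiniteField.cast_card_eq_zero K
      rw [← Nat.card_eq_fintype_card, hq] at h3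
      exact one_ne_zero (show (1 : K) = 0 by linear_combination h3 - h0)
    rw [this, AddSubgroup.card_bot]
  -- the module
  obtain ⟨E, _, _, τ, π, hπs, hπm, hπ0, hπa, hEN⟩ := exists_module hL
  have hπ1 : π 1 = 0 := (hπ0 1).mpr Z.one_mem
  have hsq : ∀ x : ↥N, (x : G) * x ∈ Z := fun x => hL.nondeg _ (N.mul_mem x.2 x.2) fun y hy => by
    rw [← commutatorElement_eq_one_iff_mul_comm, comm_mul_left (hC _) (hL.comm _ x.2 y hy)]
    exact hz2 _ (hL.comm _ x.2 y hy)
  have hexp : ∀ v : E, 2 • v = 0 := fun v => by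
    obtain ⟨x, rfl⟩ := hπs v
    rw [two_nsmul, ← hπm]
    exact (hπ0 _).mpr (hsq x)
  obtain ⟨e, hNe, hpr⟩ := exists_sq hL
  have hEe : Nat.card E = e ^ 2 := Nat.eq_of_mul_eq_mul_right Nat.card_pos (hEN.trans hNe)
  obtain ⟨m, rfl⟩ : ∃ m, e = 2 ^ m := by
    have he0 : e ≠ 0 := fun h => by
      have h1 : 0 < Nat.card E := Nat.card_pos
      rw [hEe, h] at h1
      simp at h1
    exact ⟨_, Nat.eq_prime_pow_of_unique_prime_dvd he0 fun {r} hr hre =>
      (Nat.prime_dvd_prime_iff_eq hr Nat.prime_two).mp ((hpr r hr hre).trans hZdvd)⟩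
  have hE4 : Nat.card E = 4 ^ m := by rw [hEe, ← pow_mul, mul_comm, pow_mul]; rfl
  have hen := dim_bound ρ hfaith hL (fun g _ => hlin g) ι hι hNe
  have hm3 : m ≤ 3 := (Nat.pow_le_pow_iff_right (le_refl 2)).mp
    (hen.trans (by rcases he with h | h <;> rw [h] <;> norm_num))
  -- the form
  let O : E → E → Prop := fun v w => ∀ x y : ↥N, π x = v → π y = w → ⁅(x : G), (y : G)⁆ = 1
  have key : ∀ x y : ↥N, O (π x) (π y) ↔ ⁅(x : G), (y : G)⁆ = 1 := by
    refine fun x y => ⟨fun h => h x y rfl rfl, fun h x' y' hx hy => ?_⟩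
    have hd : ∀ u u' : ↥N, π u' = π u → (u' : G) * (u : G)⁻¹ ∈ Z := fun u u' hu => by
      have : π (u' * u⁻¹) = 0 := by
        rw [hπm, hu, ← hπm, mul_inv_cancel, hπ1]
      exact (hπ0 _).mp this
    obtain ⟨c, hc, hx'⟩ : ∃ c ∈ Z, (x' : G) = c * x :=
      ⟨_, hd x x' hx, (inv_mul_cancel_right _ _).symm⟩
    obtain ⟨d, hd', hy'⟩ : ∃ d ∈ Z, (y' : G) = d * y :=
      ⟨_, hd y y' hy, (inv_mul_cancel_right _ _).symm⟩
    have hxy : ⁅(x : G), d * y⁆ = 1 := by
      rw [comm_mul_right (hC d) (hL.comm _ x.2 _ y.2),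
        commutatorElement_eq_one_iff_mul_comm.mpr (cent_comm (hC _) hd'), one_mul, h]
    rw [hx', hy', comm_mul_left (hC c) (by rw [hxy]; exact Z.one_mem), hxy, one_mul,
      commutatorElement_eq_one_iff_mul_comm]
    exact (cent_comm (hC _) hc).symm
  have hO : Form O := by
    refine ⟨fun v => ?_, fun v w => ?_, fun v => ?_, fun v w w' => ?_, fun v w w' => ?_, fun v h => ?_⟩
    · obtain ⟨x, rfl⟩ := hπs v
      exact (key x x).mpr (commutatorElement_self _)
    · obtain ⟨x, rfl⟩ := hπs v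
      obtain ⟨y, rfl⟩ := hπs w
      rw [key, key]
      exact fun h => by rw [← commutatorElement_inv, h, inv_one]
    · obtain ⟨x, rfl⟩ := hπs v
      rw [← hπ1, key]
      exact commutatorElement_one_right _
    · obtain ⟨x, rfl⟩ := hπs v
      obtain ⟨y, rfl⟩ := hπs w
      obtain ⟨y', rfl⟩ := hπs w'
      rw [← hπm, key, key, key]
      intro h
      rw [Subgroup.coe_mul, comm_mul_right (hC _) (hL.comm _ x.2 _ y'.2), h, one_mul]
    · obtain ⟨x, rfl⟩ := hπs v
      obtain ⟨y, rfl⟩ := hπs w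
      obtain ⟨y', rfl⟩ := hπs w'
      rw [← hπm, key, key, key]
      intro h h'
      rw [Subgroup.coe_mul, comm_mul_right (hC _) (hL.comm _ x.2 _ y'.2),
        hzeq _ (hL.comm _ x.2 _ y.2) _ (hL.comm _ x.2 _ y'.2) h h']
      exact hz2 _ (hL.comm _ x.2 _ y'.2)
    · obtain ⟨x, rfl⟩ := hπs v
      exact (hπ0 x).mpr (hL.nondeg _ x.2 fun y hy => commutatorElement_eq_one_iff_mul_comm.mp
        ((key x ⟨y, hy⟩).mp (h _)))
  let Hb : Subgroup (AddMonoid.End E)ˣ := τ.toHomUnits.range
  haveI : Finite (AddMonoid.End E) := Finite.of_injective _ DFunLike.coe_injective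
  let σ : ↥Hb →* AddMonoid.End E := (Units.coeHom _).comp Hb.subtype
  let q : G →* ↥Hb := τ.toHomUnits.rangeRestrict
  have hq' : ∀ g, σ (q g) = τ g := fun g => rfl
  have hqs : Function.Surjective q := MonoidHom.rangeRestrict_surjective _
  haveI : Group.IsSolvable ↥Hb := Group.isSolvable_of_surjective hqs
  have hcr : CR σ := fun U hU => by
    obtain ⟨W, hW, h1, h2⟩ := module_cr hL hπs hπm hπ0 hπa U fun g v hv => hU (q g) v hv
    exact ⟨W, fun h v hv => by obtain ⟨g, rfl⟩ := hqs h; exact hW g v hv, h1, h2⟩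
  have hinv : ∀ h v w, O v w → O (σ h v) (σ h w) := fun h v w => by
    obtain ⟨g, rfl⟩ := hqs h
    obtain ⟨x, rfl⟩ := hπs v
    obtain ⟨y, rfl⟩ := hπs w
    rw [hq', hπa, hπa, key, key, commutatorElement_eq_one_iff_mul_comm,
      commutatorElement_eq_one_iff_mul_comm]
    intro h
    calc g * x * g⁻¹ * (g * y * g⁻¹) = g * ((x : G) * y) * g⁻¹ := by group
      _ = g * y * g⁻¹ * (g * x * g⁻¹) := by rw [h]; group
  have hker : ∀ g, q g = 1 → g ∈ N := fun g hg => mem_layer_of_trivial hL hcent hπs hπm hπ0 hπa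
    (hC g) (by rw [← hq', hg, map_one])
  have h3H : ¬ 3 ∣ Nat.card Hb := fun h => h3K (h.trans (Subgroup.card_range_dvd _))
  rcases small_module hO hexp hinv (fun h hh => Subtype.ext (Units.ext hh)) hcr h3H hE4 hm3 with
    hall | ⟨p, hp, hp57, hpH, hm2, hmp, hrp, hcp, hc2⟩
  · exact ⟨a, a, fun g hg _ => ha g (hker g (hall _)) hg⟩
  haveI := Fact.mk hp
  have hpG : p ∣ Nat.card G := hpH.trans (Subgroup.card_range_dvd _)
  have hX : Nat.card V = 3 ^ Module.finrank K V := hq ▸ Module.natCard_eq_pow_finrank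
  have hfixpow : ∀ g : G, ∃ k ≤ Module.finrank K V, Nat.card (fixedBy (ρ g)) = 3 ^ k := fun g =>
    (Nat.dvd_prime_pow Nat.prime_three).mp (hX ▸ card_fixedBy_dvd ρ g)
  have hfixlt : ∀ g : G, g ≠ 1 → ∀ k, Nat.card (fixedBy (ρ g)) = 3 ^ k →
      k ≠ Module.finrank K V := fun g hg k hk he' =>
    hg (hfaith g (eq_one_of_fixedBy_card ρ g (by rw [hk, he', hX])))
  rcases he with he | he
  · -- dimension four: impossible
    exfalso
    rw [he] at hen hX hfixpow hfixlt
    have hm : m = 2 := le_antisymm ((Nat.pow_le_pow_iff_right (le_refl 2)).mp hen) hm2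
    obtain rfl := hmp hm
    have hN : Nat.card N = 32 := by
      obtain ⟨n, hn, hn'⟩ := H.scalar (-1) (neg_ne_zero.mpr one_ne_zero)
      have hn1 : n ≠ 1 := fun h => by
        have h1 := hn' a
        rw [h, rho_one, neg_one_smul] at h1
        have h2 : (2 : K) • a = 0 := by
          rw [two_smul]
          nth_rw 1 [h1]
          exact neg_add_cancel a
        refine ha0 ((smul_eq_zero.mp h2).resolve_left fun h0 => ?_)
        have h3 := FiniteField.cast_card_eq_zero K
        rw [← Nat.card_eq_fintype_card, hq] at h3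
        exact one_ne_zero (show (1 : K) = 0 by linear_combination h3 - h0)
      have hnZ : n ∈ Z := hL.nondeg n hn fun y _ => heq _ _ (end_ext fun v => by
        rw [rho_mul, rho_mul, hn', hn', hlin])
      have hZ2 : Nat.card Z = 2 := ((Nat.dvd_prime Nat.prime_two).mp hZdvd).resolve_left fun h =>
        hn1 (Subgroup.mem_bot.mp (Subgroup.card_eq_one.mp h ▸ hnZ))
      rw [hNe, hm, hZ2]; norm_num
    obtain ⟨x, hx⟩ := exists_prime_orderOf_dvd_card' 5 hpG
    have hx1 : x ≠ 1 := fun h => by rw [h, orderOf_one] at hx; norm_num at hx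
    have hxfix : ∀ v, ρ x v = v → v = 0 := by
      obtain ⟨k, hk, hk'⟩ := hfixpow x
      have hk4 := hfixlt x hx1 k hk'
      have hmod := card_modEq_fixedBy ρ x (ℓ := 5) (j := 1) (by rw [hx, pow_one])
      rw [hX, hk'] at hmod
      have hk0 : k = 0 := by
        interval_cases k <;> first | rfl | omega | (norm_num [Nat.ModEq] at hmod)
      rw [hk0, pow_zero] at hk'
      intro v hv
      exact (AddSubgroup.eq_bot_iff_forall _).mp (AddSubgroup.eq_bot_of_card_eq _ hk') v hv
    let P : V → Prop := fun v => v ≠ 0 ∧ Regular ρ N v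
    have hP : ∀ g : G, ∀ v, P v → P (ρ g v) := fun g v hv =>
      ⟨fun h => hv.1 (rho_injective ρ g (h.trans (map_zero _).symm)), fun n hn hnv => by
        have h1 := hfaith _ (hv.2 _ (hL.normal.conj_mem n hn g⁻¹) (by
          rw [inv_inv, rho_mul, rho_mul, hnv, rho_inv_apply]))
        rw [inv_inv] at h1
        rw [show n = g * (g⁻¹ * n * g) * g⁻¹ by group, h1, mul_one, mul_inv_cancel, map_one]⟩
    have h32 := dvd_of_free ρ N P (fun g _ => hP g)
      fun g hg v hv hgv => hfaith g (hv.2 g hg hgv)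
    have h5 := dvd_of_free ρ (Subgroup.zpowers x) P (fun g _ => hP g) fun g hg v hv hgv => by
      by_contra hg1
      have hz : Subgroup.zpowers g = Subgroup.zpowers x :=
        Subgroup.eq_of_le_of_card_ge (Subgroup.zpowers_le.mpr hg) (by
          rw [Nat.card_zpowers, Nat.card_zpowers, ((Nat.dvd_prime (Fact.out : Nat.Prime 5)).mp
            (hx ▸ orderOf_dvd_of_mem_zpowers hg)).resolve_left fun h => hg1 (orderOf_eq_one_iff.mp h),
            hx])
      have hxg : x ∈ Subgroup.zpowers g := hz ▸ Subgroup.mem_zpowers x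
      exact hv.1 (hxfix v ((Subgroup.zpowers_le.mpr (mem_stab.mpr hgv)) hxg))
    rw [hN] at h32
    rw [Nat.card_zpowers, hx] at h5
    have hlt : Nat.card {v : V // P v} < 81 := by
      rw [show (81 : ℕ) = Nat.card V by rw [hX]; norm_num, Nat.card_eq_fintype_card,
        Nat.card_eq_fintype_card]
      exact Fintype.card_subtype_lt (x := 0) fun h => h.1 rfl
    have hpos : 0 < Nat.card {v : V // P v} := by
      haveI : Nonempty {v : V // P v} := ⟨⟨a, ha0, ha⟩⟩
      exact Nat.card_pos
    omega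
  · -- dimension eight
    rw [he] at hX hfixpow hfixlt
    have hV : Nat.card V = 6561 := by rw [hX]; norm_num
    have hfixN : ∀ c ∈ N, c ∉ Z → Nat.card (fixedBy (ρ c)) ≤ 81 := by
      intro c hc hcZ
      obtain ⟨f, hf, hcf⟩ : ∃ f ∈ N, ⁅c, f⁆ ≠ 1 := by
        by_contra hne
        push Not at hne
        exact hcZ (hL.nondeg c hc fun f hf => commutatorElement_eq_one_iff_mul_comm.mp (hne f hf))
      have h1 := fixed_sq ρ c f
      rw [hZfix _ (hL.comm c hc f hf) hcf, hV] at h1
      exact (Nat.pow_le_pow_iff_left two_ne_zero).mp (h1.trans (by norm_num))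
    have hfix2 : ∀ g ∉ N, Nat.card (fixedBy (ρ g)) ≤ 729 := by
      intro g hg
      obtain ⟨f, hf, hgf⟩ : ∃ f ∈ N, ⁅g, f⁆ ∉ Z := by
        by_contra hne
        push Not at hne
        refine hg (hker g (Subtype.ext (Units.ext (end_ext fun v => ?_))))
        obtain ⟨x, rfl⟩ := hπs v
        show τ g (π x) = π x
        rw [hπa]
        have hc : ⁅g, (x : G)⁆ ∈ N := hL.le (hne x x.2)
        rw [show (⟨g * x * g⁻¹, hL.normal.conj_mem x x.2 g⟩ : ↥N) = ⟨⁅g, (x : G)⁆, hc⟩ * x from
          Subtype.ext (by simp [commutatorElement_def]), hπm,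
          (hπ0 _).mpr (show ((⟨⁅g, (x : G)⁆, hc⟩ : ↥N) : G) ∈ Z from hne x x.2), zero_add]
      have hcN : ⁅g, f⁆ ∈ N := by
        rw [commutatorElement_def]
        exact N.mul_mem (hL.normal.conj_mem f hf g) (N.inv_mem hf)
      have h1 := fixed_sq ρ g f
      have h2 := hfixN _ hcN hgf
      rw [hV] at h1
      exact (Nat.pow_le_pow_iff_left two_ne_zero).mp
        (h1.trans ((Nat.mul_le_mul_left _ h2).trans (by norm_num)))
    let bp : ℕ := if p = 5 then 81 else 9
    have hfixp : ∀ g : G, orderOf g = p → Nat.card (fixedBy (ρ g)) ≤ bp := by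
      intro g hg
      obtain ⟨k, hk, hk'⟩ := hfixpow g
      have hk8 := hfixlt g (fun h => by rw [h, orderOf_one] at hg; exact hp.one_lt.ne hg) k hk'
      have hmod := card_modEq_fixedBy ρ g (ℓ := p) (j := 1) (by rw [hg, pow_one])
      rw [hX, hk'] at hmod
      rw [hk']
      simp only [bp]
      rcases hp57 with rfl | rfl
      · interval_cases k <;> first | omega | (norm_num; done) | (norm_num [Nat.ModEq] at hmod)
      · interval_cases k <;> first | omega | (norm_num; done) | (norm_num [Nat.ModEq] at hmod)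
    have hqinj : ∀ g ∈ stab ρ a, q g = 1 → g = 1 := fun g hg hq1 =>
      hfaith g (ha g (hker g hq1) hg)
    have hord : ∀ g ∈ stab ρ a, ∀ r : ℕ, r.Prime → orderOf g = r → orderOf (q g) = r :=
      fun g hg r hr hgr => ((Nat.dvd_prime hr).mp (hgr ▸ orderOf_map_dvd q g)).resolve_left
        fun h => by
          rw [hqinj g hg (orderOf_eq_one_iff.mp h), orderOf_one] at hgr
          exact hr.one_lt.ne hgr
    haveI := Fintype.ofFinite G
    let S : ℕ → Finset G := fun r => Finset.univ.filter fun g => g ∈ stab ρ a ∧ orderOf g = r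
    have hS : ∀ r : ℕ, r.Prime → (S r).card ≤ Nat.card {h : ↥Hb // orderOf h = r} := by
      intro r hr
      rw [← Fintype.card_coe, ← Nat.card_eq_fintype_card]
      refine Nat.card_le_card_of_injective
        (fun g => ⟨q g.1, hord _ (Finset.mem_filter.mp g.2).2.1 r hr (Finset.mem_filter.mp g.2).2.2⟩)
        fun g g' h => Subtype.ext ?_
      have h1 : q g.1 = q g'.1 := congrArg Subtype.val h
      refine eq_of_mul_inv_eq_one (hqinj _ ((stab ρ a).mul_mem (Finset.mem_filter.mp g.2).2.1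
        ((stab ρ a).inv_mem (Finset.mem_filter.mp g'.2).2.1)) ?_)
      rw [map_mul, map_inv, h1, mul_inv_cancel]
    let Fx : G → Finset V := fun g => Finset.univ.filter fun v => ρ g v = v
    have hFx : ∀ g, (Fx g).card = Nat.card (fixedBy (ρ g)) := fun g => by
      rw [← Fintype.card_subtype, ← Nat.card_eq_fintype_card]
      rfl
    have hb2 : ((S 2).biUnion Fx).card ≤ p * 729 := by
      refine (Finset.card_biUnion_le_card_mul _ _ 729 fun g hg => ?_).trans
        (Nat.mul_le_mul_right _ ((hS 2 Nat.prime_two).trans hc2))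
      obtain ⟨-, hga, hg2⟩ := Finset.mem_filter.mp hg
      rw [hFx]
      refine hfix2 g fun hgN => ?_
      rw [hfaith g (ha g hgN hga), orderOf_one] at hg2
      exact absurd hg2 (by norm_num)
    have hbp : ((S p).biUnion Fx).card ≤ (p - 1) * bp := by
      refine (Finset.card_biUnion_le_card_mul _ _ bp fun g hg => ?_).trans
        (Nat.mul_le_mul_right _ ((hS p hp).trans hcp))
      rw [hFx]
      exact hfixp g (Finset.mem_filter.mp hg).2.2
    obtain ⟨b, -, hb⟩ : ∃ b ∈ (Finset.univ : Finset V), b ∉ (S 2).biUnion Fx ∪ (S p).biUnion Fx := by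
      refine Finset.exists_mem_notMem_of_card_lt_card ?_
      rw [Finset.card_univ, ← Nat.card_eq_fintype_card, hV]
      refine lt_of_le_of_lt ((Finset.card_union_le _ _).trans (Nat.add_le_add hb2 hbp)) ?_
      simp only [bp]
      rcases hp57 with rfl | rfl <;> norm_num
    refine ⟨a, b, fun g hga hgb => ?_⟩
    by_contra hg
    have hg1 : orderOf g ≠ 1 := fun h => hg (by rw [orderOf_eq_one_iff.mp h, map_one])
    obtain ⟨r, hr, hrg⟩ := Nat.exists_prime_and_dvd hg1
    let g' := g ^ (orderOf g / r)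
    have hor : orderOf g' = r := orderOf_pow_orderOf_div (orderOf_pos g).ne' hrg
    have hg'a : g' ∈ stab ρ a := pow_mem (mem_stab.mpr hga) _
    have hg'b : ρ g' b = b := mem_stab.mp (pow_mem (mem_stab.mpr hgb) _)
    have hr2p : r = 2 ∨ r = p := hrp r hr (hord g' hg'a r hr hor ▸ orderOf_dvd_natCard (q g'))
    refine hb (Finset.mem_union.mpr ?_)
    have hmem : b ∈ Fx g' := Finset.mem_filter.mpr ⟨Finset.mem_univ _, hg'b⟩
    rcases hr2p with h | h
    · exact Or.inl (Finset.mem_biUnion.mpr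
        ⟨g', Finset.mem_filter.mpr ⟨Finset.mem_univ _, hg'a, hor.trans h⟩, hmem⟩)
    · exact Or.inr (Finset.mem_biUnion.mpr
        ⟨g', Finset.mem_filter.mpr ⟨Finset.mem_univ _, hg'a, hor.trans h⟩, hmem⟩)

end CfsgLib.PairBase
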