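import Cfsg.Agent.Lib.PairBase.BaseFive
import Cfsg.Agent.Lib.PairBase.BaseThreeEight
import Cfsg.Agent.Lib.PairBase.TopThree
import Cfsg.Agent.Lib.CoprimeBase.Main

/-!
# Two vectors in the primitive case

The induction along the eigenspaces of involutions and elements of prime order of the layer.
-/

set_option autoImplicit false
set_option maxHeartbeats 1000000
set_option linter.unusedSectionVars false
set_option linter.style.haveILetI false

namespace CfsgLib.PairBase

open CfsgLib.OddBase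
open scoped commutatorElement

universe u

section

variable {G V : Type u} [Group G] [AddCommGroup V]
variable {K : Type u} [Field K] [Module K V]
variable {ρ : G →* AddMonoid.End V} {N : Subgroup G}

theorem Split.card_ne_zero (S : Split ρ K N) [Finite G] (hcop : (Nat.card G : K) ≠ 0) :
    (Nat.card S.G0 : K) ≠ 0 := fun h => hcop (by
  obtain ⟨c, hc⟩ := Subgroup.card_subgroup_dvd_card S.G0
  rw [hc, Nat.cast_mul, h, zero_mul])

theorem Strong.good (h : Strong ρ N) : Good ρ := by
  obtain ⟨a, b, -, -, -, -, -, -, -, hp⟩ := h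
  exact ⟨a, b, hp⟩

theorem exists_split_of_three_le [Finite G] [Finite V] [Finite K] (H : Heis ρ K N)
    (h2 : (2 : K) ≠ 0) (hd : 3 ≤ Module.finrank K V) : Nonempty (Split ρ K N) := by
  haveI : Nontrivial V := Module.nontrivial_of_finrank_pos (R := K) (by omega)
  refine exists_split_of_not_noFixer H fun h => ?_
  have := (h.small H h2 (by omega)).1
  omega

end

/-- Fields with at least seven elements. -/
theorem strong_seven (d : ℕ) : ∀ {G V K : Type u} [Group G] [Finite G] [AddCommGroup V] [Finite V]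
    [Field K] [Finite K] [Module K V] {ρ : G →* AddMonoid.End V} {N : Subgroup G},
    Heis ρ K N → (2 : K) ≠ 0 → (Nat.card G : K) ≠ 0 → 7 ≤ Nat.card K →
    Module.finrank K V = d → 2 ≤ d → Strong ρ N := by
  induction d using Nat.strong_induction_on with
  | _ d ih =>
  intro G V K _ _ _ _ _ _ _ ρ N H h2 hcop hq hd hd2
  by_cases hd3 : d = 2
  · exact strong_dim_two H h2 hcop hq (hd.trans hd3)
  haveI : Nontrivial V := Module.nontrivial_of_finrank_pos (R := K) (by omega)
  obtain ⟨S⟩ := exists_split_of_three_le H h2 (by omega)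
  letI := S.mod0 H
  haveI := S.nontrivial_V0
  have hdd := S.finrank_eq H
  rw [hd] at hdd
  haveI : Module.Finite K S.V0 := Module.Finite.of_finite
  have hr2 := S.prime.two_le
  have hd0 : 0 < Module.finrank K S.V0 := Module.finrank_pos
  have hlt : Module.finrank K S.V0 < d := by rw [hdd]; exact lt_mul_left hd0 hr2
  have hIH : 2 ≤ Module.finrank K S.V0 → Strong S.ρ0 S.N0 :=
    ih _ hlt (S.heis0 H) h2 (S.card_ne_zero hcop) hq rfl
  by_cases hr : S.r = 2
  · rw [hr] at hdd
    obtain ⟨a, b, c, hT, ha, hb, hc⟩ := (hIH (by omega)).triple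
    exact (S.step_two H hr hT ha hb hc).strong
  · obtain ⟨a, b, ha, hb, hreg, hp⟩ : ∃ a b : S.V0, a ≠ 0 ∧ b ≠ 0 ∧
        Regular S.ρ0 S.N0 a ∧ IsPair S.ρ0 a b := by
      by_cases h1 : Module.finrank K S.V0 = 1
      · exact pair_dim_one (S.heis0 H) h1
      · obtain ⟨a, b, -, ha, hb, -, hreg, -, -, hp⟩ := hIH (by omega)
        exact ⟨a, b, ha, hb, hreg, hp⟩
    exact (S.step_odd H h2 hr hp hreg ha hb).strong

/-- The field with five elements. -/
theorem strong_five (d : ℕ) : ∀ {G V K : Type u} [Group G] [Finite G] [AddCommGroup V] [Finite V]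
    [Field K] [Finite K] [Module K V] {ρ : G →* AddMonoid.End V} {N : Subgroup G},
    Heis ρ K N → (2 : K) ≠ 0 → (Nat.card G : K) ≠ 0 → Nat.card K = 5 →
    (∀ n ∈ N, ∃ r : K, ∀ v, ρ (n * n) v = r • v) →
    Module.finrank K V = d → 3 ≤ d → Strong ρ N := by
  induction d using Nat.strong_induction_on with
  | _ d ih =>
  intro G V K _ _ _ _ _ _ _ ρ N H h2 hcop hq hexp hd hd3
  by_cases hd4 : d = 4
  · obtain ⟨a, b, ⟨ha, -, hab, hstab⟩, ha0, hb0⟩ := base_five H hcop hexp hq (hd.trans hd4)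
    exact ⟨a, b, a, ha0, hb0, ha0, ha, ha, hab, fun g hga hgb =>
      hstab g hga hgb 1 (one_mem N) (by rw [rho_one, hga])⟩
  haveI : Nontrivial V := Module.nontrivial_of_finrank_pos (R := K) (by omega)
  obtain ⟨S⟩ := exists_split_of_three_le H h2 (by omega)
  letI := S.mod0 H
  haveI := S.nontrivial_V0
  have hr := S.r_eq_two (Or.inr hq)
  have hdd := S.finrank_eq H
  rw [hd, hr] at hdd
  obtain ⟨a, b, c, hT, ha, hb, hc⟩ := (ih (Module.finrank K S.V0) (by omega) (S.heis0 H) h2
    (S.card_ne_zero hcop) hq (fun n hn => by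
      obtain ⟨r, hr'⟩ := hexp n hn
      exact ⟨r, fun v => Subtype.ext (hr' v)⟩) rfl (by omega)).triple
  exact (S.step_two H hr hT ha hb hc).strong

/-- The field with three elements. -/
theorem up_three (d : ℕ) : ∀ {G V K : Type u} [Group G] [Finite G] [AddCommGroup V] [Finite V]
    [Field K] [Finite K] [Module K V] {ρ : G →* AddMonoid.End V} {N : Subgroup G},
    Heis ρ K N → (2 : K) ≠ 0 → Nat.card K = 3 → Module.finrank K V = d → 5 ≤ d →
    d = 8 ∨ Split.Up ρ N := by
  induction d using Nat.strong_induction_on with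
  | _ d ih =>
  intro G V K _ _ _ _ _ _ _ ρ N H h2 hq hd hd5
  by_cases hd8 : d = 8
  · exact Or.inl hd8
  haveI : Nontrivial V := Module.nontrivial_of_finrank_pos (R := K) (by omega)
  obtain ⟨S⟩ := exists_split_of_three_le H h2 (by omega)
  letI := S.mod0 H
  haveI := S.nontrivial_V0
  have hr := S.r_eq_two (Or.inl hq)
  have hdd := S.finrank_eq H
  rw [hd, hr] at hdd
  have hd0 : 5 ≤ Module.finrank K S.V0 := by
    by_contra hlt
    obtain ⟨S₁⟩ := exists_split_of_three_le (S.heis0 H) h2 (by omega)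
    have h3 := S₁.finrank_eq (S.heis0 H)
    rw [S₁.r_eq_two (Or.inl hq)] at h3
    omega
  obtain ⟨a, b, c, hT, ha, hb, hc⟩ : ∃ a b c : S.V0, IsTriple S.ρ0 S.N0 a b c ∧
      a ≠ 0 ∧ b ≠ 0 ∧ c ≠ 0 := by
    rcases ih (Module.finrank K S.V0) (by omega) (S.heis0 H) h2 hq rfl hd0 with h8 | h
    · exact base_three (S.heis0 H) h2 hq h8
    · exact h.strong.triple
  exact Or.inr (S.step_two H hr hT ha hb hc)

section

variable {G V : Type u} [Group G] [AddCommGroup V]

/-- Over five elements squares of the layer are scalars. -/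
theorem sq_mem_five [Finite G] [Finite V] [Nontrivial V] {K : Type u} [Field K] [Finite K]
    [Module K V] (ρ : G →* AddMonoid.End V) (hfaith : ∀ g, ρ g = 1 → g = 1) {Z N : Subgroup G}
    [hZn : Z.Normal] (hL : IsLayer Z N) (H : Heis ρ K N) (hq : Nat.card K = 5) {n : G}
    (hn : n ∈ N) : n * n ∈ Z := by
  haveI := hL.normal
  haveI := Fintype.ofFinite K
  have hinj : ∀ {a b : G}, (∀ v, ρ a v = ρ b v) → a = b := fun {a b} h =>
    eq_of_mul_inv_eq_one (hfaith _ (end_ext fun v => by
      rw [rho_mul, h, rho_apply_inv]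
      rfl))
  have h4 : ∀ x ∈ N, x * x * (x * x) ∈ Z := fun x hx =>
    hL.nondeg _ (mul_mem (mul_mem hx hx) (mul_mem hx hx)) fun y hy => hinj fun v => by
      obtain ⟨t, ht0, ht⟩ := exists_comm_ne H hx hy
      have h1 := FiniteField.pow_card_sub_one_eq_one t ht0
      rw [← Nat.card_eq_fintype_card, hq] at h1
      rw [show x * x * (x * x) = x ^ 4 by simp [pow_succ, mul_assoc], rho_mul, rho_mul, comm_pow_left H hx ht 4,
        show t ^ 4 = 1 from h1,
        one_smul]
  let π := QuotientGroup.mk' Z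
  have hπ : ∀ {x : G}, x ∈ Z ↔ π x = 1 := fun {x} => (QuotientGroup.eq_one_iff x).symm
  have hc : ∀ x ∈ N, ∀ y ∈ N, π x * π y = π y * π x := fun x hx y hy =>
    commutatorElement_eq_one_iff_mul_comm.1
      ((map_commutatorElement π x y).symm.trans (hπ.1 (hL.comm x hx y hy)))
  let U : Subgroup G :=
    { carrier := {x | x ∈ N ∧ x * x ∈ Z}
      one_mem' := ⟨one_mem N, by rw [one_mul]; exact one_mem Z⟩
      mul_mem' := fun {a b} ha hb => ⟨mul_mem ha.1 hb.1, by
        rw [hπ, map_mul, map_mul, mul_mul_mul_comm_of (hc b hb.1 a ha.1), ← map_mul, ← map_mul,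
          hπ.1 ha.2, hπ.1 hb.2, one_mul]⟩
      inv_mem' := fun {a} ha => ⟨inv_mem ha.1, by
        rw [← mul_inv_rev]; exact inv_mem ha.2⟩ }
  have hUn : U.Normal := ⟨fun x hx g => ⟨hL.normal.conj_mem x hx.1 g, by
    have h := hZn.conj_mem _ hx.2 g
    simpa [mul_assoc] using h⟩⟩
  obtain ⟨W, -, hZW, hWN, hUW, hsup⟩ :=
    hL.semisimple U hUn (fun z hz => ⟨hL.le hz, mul_mem hz hz⟩) fun x hx => hx.1
  have hWZ : W ≤ Z := fun w hw => by
    have h1 : w * w ∈ Z := by
      rw [← hUW]
      exact ⟨⟨mul_mem (hWN hw) (hWN hw), h4 w (hWN hw)⟩, mul_mem hw hw⟩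
    rw [← hUW]
    exact ⟨⟨hWN hw, h1⟩, hw⟩
  have hnU : n ∈ U := by
    rw [← hsup] at hn
    exact (sup_le le_rfl (hWZ.trans fun z hz => ⟨hL.le hz, mul_mem hz hz⟩) : U ⊔ W ≤ U) hn
  exact hnU.2
where
  mul_mul_mul_comm_of {M : Type u} [Group M] {a b c d : M} (h : b * c = c * b) :
      a * b * (c * d) = a * c * (b * d) := by
    rw [mul_assoc, ← mul_assoc b, h, mul_assoc c, mul_assoc]

/-- The primitive case. -/
theorem pair_of_layer [Finite G] [Group.IsSolvable G] [Finite V] [Nontrivial V] {K : Type u}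
    [Field K] [Finite K] [Module K V] (ρ : G →* AddMonoid.End V) (hfaith : ∀ g, ρ g = 1 → g = 1)
    (h2 : (2 : K) ≠ 0) (hcop : (Nat.card G : K) ≠ 0) (Z N : Subgroup G) [Z.Normal]
    (hL : IsLayer Z N)
    (hcent : ∀ c ∈ Subgroup.centralizer (Z : Set G), (∀ y ∈ N, c * y = y * c) → c ∈ Z)
    (hZ : ∀ z ∈ Z, ∃ r : K, ∀ v, ρ z v = r • v) (H : Heis ρ K N) : Good ρ := by
  haveI : Module.Finite K V := Module.Finite.of_finite
  haveI := Fintype.ofFinite K
  have hd0 : 0 < Module.finrank K V := Module.finrank_pos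
  obtain h1 | h2' | h3 : Module.finrank K V = 1 ∨ Module.finrank K V = 2 ∨
      3 ≤ Module.finrank K V := by omega
  · obtain ⟨a, b, -, -, -, hp⟩ := pair_dim_one H h1
    exact ⟨a, b, hp⟩
  · obtain ⟨a, ha⟩ := exists_ne (0 : V)
    obtain ⟨b, -, hp⟩ := exists_pair_dim_two H hcop h2' ha
    exact ⟨a, b, hp⟩
  obtain hq | hq | hq : Nat.card K = 3 ∨ Nat.card K = 5 ∨ 7 ≤ Nat.card K := by
    obtain ⟨p, hp⟩ := CharP.exists K
    have hK : ringChar K ≠ 2 := fun e => h2 (by
      have := ringChar.Nat.cast_ringChar (R := K)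
      rw [e] at this
      exact_mod_cast this)
    have hodd := FiniteField.odd_card_of_char_ne_two hK
    have h1 := Finite.one_lt_card (α := K)
    rw [← Nat.card_eq_fintype_card] at hodd
    omega
  · have hpm := pm_of_card_three hq
    by_cases h5 : 5 ≤ Module.finrank K V
    · rcases up_three _ H h2 hq rfl h5 with h8 | h
      · obtain ⟨y, x, c, hT, hy, -, -⟩ := base_three H h2 hq h8
        exact top_three ρ hfaith hcop Z N hL hcent hZ H hq (Or.inr h8) ⟨y, hy, hT.1⟩
      · exact h.strong.good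
    obtain ⟨S⟩ := exists_split_of_three_le H h2 h3
    letI := S.mod0 H
    haveI := S.nontrivial_V0
    have hr := S.r_eq_two (Or.inl hq)
    have hdd := S.finrank_eq H
    rw [hr] at hdd
    by_cases hnf : NoFixer S.ρ0 S.N0
    · obtain ⟨a, ha⟩ := exists_ne (0 : S.V0)
      obtain ⟨b, -, hp⟩ :=
        exists_pair_dim_two (S.heis0 H) (S.card_ne_zero hcop) (by omega) ha
      exact ⟨_, _, S.pair_two H hr (hnf a ha) (hnf a ha) (fun g h1 h2 _ _ _ => hp g h1 h2) ha ha⟩
    · obtain ⟨S₁⟩ := exists_split_of_not_noFixer (S.heis0 H) hnf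
      have hr₁ := S₁.r_eq_two (Or.inl hq)
      obtain ⟨a, -, -, ha, -, -, hreg, -⟩ :=
        base_three_four H h2 hpm S hr S₁ hr₁ (by omega)
      exact top_three ρ hfaith hcop Z N hL hcent hZ H hq (Or.inl (by omega)) ⟨a, ha, hreg⟩
  · exact (strong_five _ H h2 hcop hq (fun n hn => hZ _ (sq_mem_five ρ hfaith hL H hq hn)) rfl
      h3).good
  · exact (strong_seven _ H h2 hcop hq rfl (by omega)).good

end

/-- The primitive case in the form the main induction uses. -/
theorem primBase (q : ℕ) : CfsgLib.CoprimeBase.PrimBase.{u} q :=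
  fun _ _ _ _ _ _ _ _ _ _ _ _ ρ hfaith h2 hcop _ Z N _ hL hcent _ hZ H =>
    pair_of_layer ρ hfaith h2 hcop Z N hL hcent hZ H

end CfsgLib.PairBase
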