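import Cfsg.Agent.Lib.PairBase.Step

/-!
# Small dimensions, and the existence of an element with a fixed vector
-/

set_option autoImplicit false
set_option linter.unusedSectionVars false
set_option linter.style.haveILetI false

namespace CfsgLib.PairBase

open CfsgLib.OddBase

universe u

variable {G V : Type u} [Group G] [AddCommGroup V]
variable {K : Type u} [Field K] [Module K V]
variable {ρ : G →* AddMonoid.End V} {N : Subgroup G}

/-- Every non-zero vector is regular. -/
def NoFixer (ρ : G →* AddMonoid.End V) (N : Subgroup G) : Prop :=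
  ∀ v : V, v ≠ 0 → Regular ρ N v

/-- The element acts by a scalar. -/
def Scal (ρ : G →* AddMonoid.End V) (K : Type u) [Field K] [Module K V] (n : G) : Prop :=
  ∃ c : K, ∀ v : V, ρ n v = c • v

/-- A regular vector, a pair through it, and a second regular orbit. -/
def Strong (ρ : G →* AddMonoid.End V) (N : Subgroup G) : Prop :=
  ∃ a b c : V, a ≠ 0 ∧ b ≠ 0 ∧ c ≠ 0 ∧ Regular ρ N a ∧ Regular ρ N c ∧
    (∀ n ∈ N, ρ n b ≠ c) ∧ IsPair ρ a b

theorem Strong.triple (h : Strong ρ N) :
    ∃ a b c : V, IsTriple ρ N a b c ∧ a ≠ 0 ∧ b ≠ 0 ∧ c ≠ 0 := by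
  obtain ⟨a, b, c, ha, hb, hc, ra, rc, hbc, hp⟩ := h
  exact ⟨a, b, c, ⟨ra, rc, hbc, fun g h1 h2 _ _ _ => hp g h1 h2⟩, ha, hb, hc⟩

/-- A translate of a vector which is not regular is not regular. -/
theorem not_regular_map {x : V} (hx : ¬ Regular ρ N x) {n : G} (hn : n ∈ N) :
    ¬ Regular ρ N (ρ n x) := by
  intro hr
  refine hx fun m hm hmx => end_ext fun v => ?_
  have h1 := hr (n * m * n⁻¹) (mul_mem (mul_mem hn hm) (inv_mem hn))
    (by rw [rho_mul, rho_mul, rho_inv_apply, hmx])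
  have h2 := DFunLike.congr_fun h1 (ρ n v)
  rw [rho_mul, rho_mul, rho_inv_apply] at h2
  exact rho_injective ρ n h2

theorem Split.Up.strong (h : Split.Up ρ N) : Strong ρ N := by
  obtain ⟨y, x, hp, hy, hx, hy0, hx0⟩ := h
  exact ⟨y, x, y, hy0, hx0, hy0, hy, hy, fun n hn e => not_regular_map hx hn (e ▸ hy), hp⟩

/-- A splitting exists unless all non-zero vectors are regular. -/
theorem exists_split_of_not_noFixer [Finite G] (H : Heis ρ K N) (h : ¬ NoFixer ρ N) :
    Nonempty (Split ρ K N) := by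
  classical
  simp only [NoFixer, Regular, not_forall] at h
  obtain ⟨v, hv, n, hn, hfix, hne⟩ := h
  have hex : ∃ k, 0 < k ∧ ρ (n ^ k) = 1 :=
    ⟨orderOf n, orderOf_pos n, by rw [pow_orderOf_eq_one, map_one]⟩
  obtain ⟨hk0, hk⟩ := Nat.find_spec hex
  obtain ⟨r, hr, hrd⟩ := Nat.exists_prime_and_dvd (n := Nat.find hex) fun h1 => hne (by
    rw [h1, pow_one] at hk
    exact hk)
  have hpf : ∀ k, ρ (n ^ k) v = v := by
    intro k
    induction k with
    | zero => rw [pow_zero, rho_one]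
    | succ k ih => rw [pow_succ, rho_mul, hfix, ih]
  obtain ⟨S, -, -⟩ := exists_split H (f := n ^ (Nat.find hex / r)) (pow_mem hn _) hr
    (by rw [← pow_mul, Nat.div_mul_cancel hrd]; exact hk)
    (fun h1 => Nat.find_min hex (Nat.div_lt_self hk0 hr.one_lt)
      ⟨Nat.div_pos (Nat.le_of_dvd hk0 hrd) hr.pos, h1⟩)
    hv (hpf _)
  exact ⟨S⟩

/-! ### Without fixed vectors -/

section NoFixer

variable [Finite G] [Nontrivial V]

theorem scal_comm (H : Heis ρ K N) {m n : G} (hm : m ∈ N) (h : Scal ρ K n) (v : V) :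
    ρ m (ρ n v) = ρ n (ρ m v) := by
  obtain ⟨c, hc⟩ := h
  rw [hc, hc, H.lin m hm]

theorem scal_of_central (H : Heis ρ K N) {n : G} (hn : n ∈ N)
    (h : ∀ m ∈ N, ∀ v : V, ρ n (ρ m v) = ρ m (ρ n v)) : Scal ρ K n :=
  H.cent
    { toFun := fun v => ρ n v
      map_add' := fun v w => map_add (ρ n) v w
      map_smul' := fun c v => H.lin n hn c v } h

/-- The commutator scalar. -/
theorem exists_comm (H : Heis ρ K N) {m n : G} (hm : m ∈ N) (hn : n ∈ N) :
    ∃ t : K, ∀ v : V, ρ m (ρ n v) = t • ρ n (ρ m v) := by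
  obtain ⟨t, ht⟩ := H.comm m hm n hn
  exact ⟨t, fun v => by rw [← rho_mul, ← rho_mul]; exact ht v⟩

theorem comm_pow_left (H : Heis ρ K N) {m n : G} (hm : m ∈ N) {t : K}
    (ht : ∀ v : V, ρ m (ρ n v) = t • ρ n (ρ m v)) (k : ℕ) :
    ∀ v : V, ρ (m ^ k) (ρ n v) = t ^ k • ρ n (ρ (m ^ k) v) := by
  induction k with
  | zero => intro v; rw [pow_zero, pow_zero, rho_one, rho_one, one_smul]
  | succ k ih =>
    intro v
    rw [pow_succ', rho_mul, ih, H.lin m hm, ht, smul_smul, ← pow_succ, rho_mul]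

theorem comm_pow_right (H : Heis ρ K N) {m n : G} (hn : n ∈ N) {t : K}
    (ht : ∀ v : V, ρ m (ρ n v) = t • ρ n (ρ m v)) (k : ℕ) :
    ∀ v : V, ρ m (ρ (n ^ k) v) = t ^ k • ρ (n ^ k) (ρ m v) := by
  induction k with
  | zero => intro v; rw [pow_zero, pow_zero, rho_one, rho_one, one_smul]
  | succ k ih =>
    intro v
    rw [pow_succ', rho_mul, ht, ih, H.lin n hn, smul_smul, ← pow_succ', ← rho_mul]

theorem comm_unique (H : Heis ρ K N) {m n : G} {s t : K}
    (hs : ∀ v : V, ρ m (ρ n v) = s • ρ n (ρ m v)) (ht : ∀ v : V, ρ m (ρ n v) = t • ρ n (ρ m v)) :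
    s = t := by
  obtain ⟨v, hv⟩ := exists_ne (0 : V)
  refine smul_left_injective K (fun h => hv ?_) ((hs v).symm.trans (ht v))
  exact rho_injective ρ m (rho_injective ρ n (by rw [h, map_zero, map_zero]))

theorem pow_eq_one_of_scal (H : Heis ρ K N) {m n : G} (hm : m ∈ N) (hn : n ∈ N) {k : ℕ}
    (hmk : Scal ρ K (m ^ k)) {t : K} (ht : ∀ v : V, ρ m (ρ n v) = t • ρ n (ρ m v)) : t ^ k = 1 :=
  comm_unique H (comm_pow_left H hm ht k)
    (fun v => by rw [one_smul]; exact (scal_comm H hn hmk v).symm)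

theorem scal_mul (H : Heis ρ K N) {m n : G} (hm : m ∈ N) (h1 : Scal ρ K m) (h2 : Scal ρ K n) :
    Scal ρ K (m * n) := by
  obtain ⟨c, hc⟩ := h1
  obtain ⟨d, hd⟩ := h2
  exact ⟨c * d, fun v => by rw [rho_mul, hd, H.lin m hm, hc, smul_smul, mul_comm d]⟩

theorem scal_pow (H : Heis ρ K N) {m : G} (hm : m ∈ N) (h1 : Scal ρ K m) : ∀ k, Scal ρ K (m ^ k)
  | 0 => ⟨1, fun v => by rw [pow_zero, rho_one, one_smul]⟩
  | k + 1 => by rw [pow_succ]; exact scal_mul H (pow_mem hm k) (scal_pow H hm h1 k) h1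

/-- A non-scalar element with scalar `r`-th power has no eigenvalue. -/
theorem NoFixer.not_power (hnf : NoFixer ρ N) (H : Heis ρ K N) {n : G} (hn : n ∈ N)
    (hns : ¬ Scal ρ K n) {r : ℕ} (hr : r.Prime) {c : K} (hc : ∀ v : V, ρ (n ^ r) v = c • v)
    {μ : K} (hμ : μ ≠ 0) (hpow : μ ^ r = c) : False := by
  classical
  obtain ⟨z, hzN, hz⟩ := H.scalar μ⁻¹ (inv_ne_zero hμ)
  let T := z * n
  have hT : T ∈ N := mul_mem hzN hn
  have hTs : ¬ Scal ρ K T := by
    rintro ⟨d, hd⟩
    refine hns ⟨μ * d, fun v => ?_⟩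
    rw [← smul_smul, ← hd v, rho_mul, hz, smul_smul, mul_inv_cancel₀ hμ, one_smul]
  have hTk : ∀ k, ∀ v, ρ (T ^ k) v = μ⁻¹ ^ k • ρ (n ^ k) v := by
    intro k
    induction k with
    | zero => intro v; rw [pow_zero, pow_zero, pow_zero, one_smul]
    | succ k ih =>
      intro v
      rw [pow_succ', rho_mul ρ T, ih, H.lin T hT, rho_mul ρ z n, hz, smul_smul, ← pow_succ,
        ← rho_mul, ← pow_succ']
  have hTr : ∀ v, ρ (T ^ r) v = v := fun v => by
    rw [hTk, hc, smul_smul, ← hpow, ← mul_pow, inv_mul_cancel₀ hμ, one_pow, one_smul]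
  obtain ⟨m, hm, hne⟩ : ∃ m ∈ N, ∃ v : V, ρ T (ρ m v) ≠ ρ m (ρ T v) := by
    by_contra h
    push Not at h
    exact hTs (scal_of_central H hT h)
  obtain ⟨ω, hω⟩ := exists_comm H hT hm
  have hω1 : ω ≠ 1 := fun h => hne.choose_spec (by rw [hω, h, one_smul])
  have hωr : ω ^ r = 1 :=
    pow_eq_one_of_scal H hT hm ⟨1, fun v => by rw [hTr, one_smul]⟩ hω
  have hprim : IsPrimitiveRoot ω r := by
    rw [IsPrimitiveRoot.iff_orderOf]
    haveI := Fact.mk hr
    exact orderOf_eq_prime hωr hω1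
  have hrK : (r : K) ≠ 0 := by
    haveI : NeZero r := ⟨hr.ne_zero⟩
    exact (hprim.neZero' (R := K)).out
  obtain ⟨v, hv⟩ := exists_ne (0 : V)
  let P : ℕ → V := fun i => ∑ j ∈ Finset.range r, ω ^ (i * j) • ρ (T ^ j) v
  obtain ⟨i, hi⟩ : ∃ i, P i ≠ 0 := by
    by_contra h
    push Not at h
    have h0 : ∑ i ∈ Finset.range r, P i = 0 := Finset.sum_eq_zero fun i _ => h i
    rw [Finset.sum_comm] at h0
    simp only [← Finset.sum_smul] at h0
    rw [Finset.sum_eq_single_of_mem 0 (Finset.mem_range.2 hr.pos) (fun j hj hj0 => ?_)] at h0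
    · simp only [mul_zero, pow_zero, rho_one, Finset.sum_const, Finset.card_range, nsmul_eq_mul,
        mul_one] at h0
      exact hv ((smul_eq_zero.1 h0).resolve_left hrK)
    · have hx : ω ^ j ≠ 1 := fun e => absurd (Nat.le_of_dvd (Nat.pos_of_ne_zero hj0)
        ((hprim.pow_eq_one_iff_dvd j).1 e)) (not_le.2 (Finset.mem_range.1 hj))
      have h1 := geom_sum_mul (ω ^ j) r
      rw [← pow_mul, mul_comm j r, pow_mul, hωr, one_pow, sub_self, mul_eq_zero] at h1
      have h2 : ∑ i ∈ Finset.range r, ω ^ (i * j) = ∑ i ∈ Finset.range r, (ω ^ j) ^ i :=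
        Finset.sum_congr rfl fun i _ => by rw [← pow_mul, mul_comm]
      rw [h2, h1.resolve_right (sub_ne_zero.2 hx), zero_smul]
  obtain ⟨s, rfl⟩ := Nat.exists_eq_succ_of_ne_zero hr.ne_zero
  have hrot : ω ^ i • ρ T (P i) = P i := by
    simp only [P]
    rw [map_sum, Finset.smul_sum]
    simp only [H.lin T hT, smul_smul, ← pow_add, ← rho_mul, ← pow_succ', Nat.succ_eq_add_one]
    rw [Finset.sum_range_succ (fun j => ω ^ (i + i * j) • ρ (T ^ (j + 1)) v),
      Finset.sum_range_succ' (fun j => ω ^ (i * j) • ρ (T ^ j) v)]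
    have e : ∀ j, i + i * j = i * (j + 1) := fun j => by ring
    simp only [e, mul_zero, pow_zero, rho_one, one_smul]
    rw [show ω ^ (i * (s + 1)) = 1 by rw [mul_comm, pow_mul, hωr, one_pow], one_smul]
    exact congrArg _ (hTr v)
  obtain ⟨w, hwN, hw⟩ := H.scalar (ω ^ i) (pow_ne_zero _ (hprim.ne_zero hr.ne_zero))
  have h1 := hnf _ hi (w * T) (mul_mem hwN hT) (by rw [rho_mul, hw]; exact hrot)
  refine hTs ⟨(ω ^ i)⁻¹, fun u => ?_⟩
  have h2 : ρ (w * T) u = u := by rw [h1]; rfl
  rw [rho_mul, hw] at h2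
  conv_rhs => rw [← h2]
  rw [smul_smul, inv_mul_cancel₀ (pow_ne_zero _ (hprim.ne_zero hr.ne_zero)), one_smul]

/-- Classes of non-zero elements modulo `r`-th powers form a cyclic group of order at most `r`. -/
theorem exists_pow_class [Finite K] {r : ℕ} (hr : r.Prime) {c d : K} (hc : c ≠ 0) (hd : d ≠ 0)
    (hnp : ∀ μ : K, μ ≠ 0 → μ ^ r ≠ c) : ∃ (i : ℕ) (μ : K), μ ≠ 0 ∧ μ ^ r = d * c ^ i := by
  obtain ⟨g, hg⟩ := IsCyclic.exists_generator (α := Kˣ)
  obtain ⟨a, ha⟩ := Subgroup.mem_zpowers_iff.mp (hg (Units.mk0 c hc))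
  obtain ⟨b, hb⟩ := Subgroup.mem_zpowers_iff.mp (hg (Units.mk0 d hd))
  haveI := Fact.mk hr
  have hndvd : (a : ZMod r) ≠ 0 := by
    rw [ne_eq, ZMod.intCast_zmod_eq_zero_iff_dvd]
    rintro ⟨k, rfl⟩
    refine hnp ((g ^ k : Kˣ) : K) (Units.ne_zero _) ?_
    rw [← Units.val_pow_eq_pow_val, ← zpow_natCast (g ^ k) r, ← zpow_mul, mul_comm, ha]
    rfl
  let i : ℕ := (-(b : ZMod r) * (a : ZMod r)⁻¹).val
  obtain ⟨k, hk⟩ : (r : ℤ) ∣ (i : ℤ) * a + b := by
    rw [← ZMod.intCast_zmod_eq_zero_iff_dvd]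
    push_cast
    rw [ZMod.natCast_zmod_val, mul_assoc, inv_mul_cancel₀ hndvd, mul_one, neg_add_cancel]
  refine ⟨i, ((g ^ k : Kˣ) : K), Units.ne_zero _, ?_⟩
  have e : (g ^ k) ^ r = Units.mk0 d hd * Units.mk0 c hc ^ i := by
    rw [← ha, ← hb, ← zpow_natCast, ← zpow_natCast, ← zpow_mul, ← zpow_mul, ← zpow_add]
    congr 1
    linarith
  exact (congrArg Units.val e :)

theorem scal_ne_zero {n : G} {c : K} (h : ∀ v : V, ρ n v = c • v) : c ≠ 0 := by
  rintro rfl
  obtain ⟨v, hv⟩ := exists_ne (0 : V)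
  exact hv (rho_injective ρ n (by rw [h, zero_smul, map_zero]))

/-- Two non-scalar elements of the same prime order modulo scalars agree if their products behave. -/
theorem NoFixer.agree [Finite K] (hnf : NoFixer ρ N) (H : Heis ρ K N) {m n : G} (hm : m ∈ N)
    (hn : n ∈ N) {r : ℕ} (hr : r.Prime) (hns : ¬ Scal ρ K n) {c d : K}
    (hc : ∀ v : V, ρ (n ^ r) v = c • v) (hd : ∀ v : V, ρ (m ^ r) v = d • v)
    (hmul : ∀ i, ∀ v, ρ ((m * n ^ i) ^ r) v = ρ (m ^ r) (ρ ((n ^ r) ^ i) v)) :
    ∃ i, Scal ρ K (m * n ^ i) := by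
  have hc0 := scal_ne_zero hc
  obtain ⟨i, μ, hμ0, hμ⟩ := exists_pow_class hr hc0 (scal_ne_zero hd)
    fun μ h0 h => hnf.not_power H hn hns hr hc h0 h
  refine ⟨i, ?_⟩
  by_contra hs
  refine hnf.not_power H (mul_mem hm (pow_mem hn i)) hs hr (c := d * c ^ i) (fun v => ?_) hμ0 hμ
  rw [hmul]
  have hci : ∀ k, ∀ u, ρ ((n ^ r) ^ k) u = c ^ k • u := by
    intro k
    induction k with
    | zero => intro u; rw [pow_zero, pow_zero, rho_one, one_smul]
    | succ k ih =>
      intro u
      rw [pow_succ', rho_mul, ih, H.lin _ (pow_mem hn r), hc, smul_smul, ← pow_succ]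
  rw [hd, hci, smul_smul]

/-- Powers of a product. -/
theorem mul_pow_comm (H : Heis ρ K N) {m n : G} (hm : m ∈ N) (hn : n ∈ N) {t : K}
    (ht : ∀ v : V, ρ n (ρ m v) = t • ρ m (ρ n v)) (k : ℕ) :
    ∀ v : V, ρ ((m * n) ^ k) v = t ^ (k.choose 2) • ρ (m ^ k) (ρ (n ^ k) v) := by
  induction k with
  | zero => intro v; simp only [pow_zero, rho_one, Nat.choose_zero_succ, one_smul]
  | succ k ih =>
    intro v
    rw [pow_succ, rho_mul, rho_mul, ih]
    rw [comm_pow_left H hn ht k, H.lin _ (pow_mem hm k), smul_smul, ← pow_add,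
      Nat.choose_succ_succ', Nat.choose_one_right, add_comm k, pow_succ, pow_succ]
    simp only [rho_mul]

/-- An element of odd prime order modulo scalars does not exist. -/
theorem NoFixer.odd_none [Finite K] (hnf : NoFixer ρ N) (H : Heis ρ K N) {n : G} (hn : n ∈ N)
    {r : ℕ} (hr : r.Prime) (h2 : r ≠ 2) (hnr : Scal ρ K (n ^ r)) : Scal ρ K n := by
  by_contra hns
  obtain ⟨c, hc⟩ := hnr
  -- every element of `r`-power order modulo scalars commutes with `n`
  have key : ∀ j, ∀ k ∈ N, Scal ρ K (k ^ (r ^ j)) → ∀ v, ρ n (ρ k v) = ρ k (ρ n v) := by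
    intro j
    induction j with
    | zero => intro k hk hs v; rw [pow_zero, pow_one] at hs; exact scal_comm H hn hs v
    | succ j ih =>
      intro k hk hs
      obtain ⟨t, ht⟩ := exists_comm H hn hk
      have htr : t ^ r = 1 := pow_eq_one_of_scal H hn hk ⟨c, hc⟩ ht
      obtain ⟨d, hd⟩ := hs
      have hmr : ∀ v, ρ ((k ^ r ^ j) ^ r) v = d • v := fun v => by
        rw [← pow_mul, ← pow_succ]; exact hd v
      obtain ⟨i, hi⟩ := hnf.agree H (pow_mem hk (r ^ j)) hn hr hns hc hmr fun i v => by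
        obtain ⟨s, hs⟩ := exists_comm H (pow_mem hn i) (pow_mem hk (r ^ j))
        have hsr : s ^ r = 1 := pow_eq_one_of_scal H (pow_mem hn i) (pow_mem hk (r ^ j))
          (by rw [← pow_mul, mul_comm, pow_mul]; exact scal_pow H (pow_mem hn r) ⟨c, hc⟩ i) hs
        obtain ⟨e, he⟩ := hr.dvd_choose_self two_ne_zero (lt_of_le_of_ne hr.two_le (Ne.symm h2))
        rw [mul_pow_comm H (pow_mem hk _) (pow_mem hn i) hs, he, pow_mul, hsr, one_pow, one_smul,
          ← pow_mul, ← pow_mul, mul_comm i]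
        simp only [← pow_mul]
      by_cases hir : r ∣ i
      · -- a smaller power is scalar
        refine ih k hk ?_
        obtain ⟨e, rfl⟩ := hir
        have hs' : Scal ρ K (n ^ (r * e)) := by
          rw [pow_mul]; exact scal_pow H (pow_mem hn r) ⟨c, hc⟩ e
        obtain ⟨x, hx⟩ := hi
        obtain ⟨y, hy⟩ := hs'
        have hy0 := scal_ne_zero hy
        refine ⟨x * y⁻¹, fun v => ?_⟩
        have h1 := hx (y⁻¹ • v)
        rw [rho_mul, hy, smul_smul, mul_inv_cancel₀ hy0, one_smul] at h1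
        rw [h1, smul_smul]
      · intro v
        obtain ⟨x, hx⟩ := hi
        have hcomm : ∀ u, ρ k (ρ (n ^ i) u) = ρ (n ^ i) (ρ k u) := fun u => by
          have h1 := scal_comm H hk ⟨x, hx⟩ u
          rw [rho_mul, rho_mul, ← rho_mul ρ k, ← pow_succ', pow_succ, rho_mul] at h1
          exact rho_injective ρ (k ^ r ^ j) h1
        have hti : t ^ i = 1 := comm_unique H (comm_pow_left H hn ht i)
          (fun u => by rw [one_smul]; exact (hcomm u).symm)
        have ht1 : t = 1 := orderOf_eq_one_iff.1 (Nat.eq_one_of_dvd_coprimes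
          ((hr.coprime_iff_not_dvd).2 hir) (orderOf_dvd_of_pow_eq_one htr)
          (orderOf_dvd_of_pow_eq_one hti))
        rw [ht, ht1, one_smul]
  refine hns (scal_of_central H hn fun k hk v => ?_)
  obtain ⟨t, ht⟩ := exists_comm H hn hk
  obtain ⟨j, s, hs, ho⟩ := Nat.exists_eq_pow_mul_and_not_dvd (orderOf_pos k).ne' r hr.ne_one
  have hks := key j (k ^ s) (pow_mem hk s) (by
    rw [← pow_mul, mul_comm, ← ho, pow_orderOf_eq_one]
    exact ⟨1, fun u => by rw [rho_one, one_smul]⟩)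
  have hts : t ^ s = 1 := comm_unique H (comm_pow_right H hk ht s)
    (fun u => by rw [one_smul]; exact hks u)
  have ht1 : t = 1 := orderOf_eq_one_iff.1 (Nat.eq_one_of_dvd_coprimes
    ((hr.coprime_iff_not_dvd).2 hs)
    (orderOf_dvd_of_pow_eq_one (pow_eq_one_of_scal H hn hk ⟨c, hc⟩ ht))
    (orderOf_dvd_of_pow_eq_one hts))
  rw [ht, ht1, one_smul]

/-- Without fixed vectors the layer is quaternion: dimension at most two and four cosets. -/
theorem NoFixer.small [Finite K] [Finite V] (hnf : NoFixer ρ N) (H : Heis ρ K N)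
    (h2 : (2 : K) ≠ 0) (hdim : 2 ≤ Module.finrank K V) :
    Module.finrank K V = 2 ∧ ∃ n h : G, n ∈ N ∧ h ∈ N ∧ ∀ k ∈ N,
      Scal ρ K k ∨ Scal ρ K (n * k) ∨ Scal ρ K (h * k) ∨ Scal ρ K (h * n * k) := by
  classical
  haveI : Module.Finite K V := Module.Finite.of_finite
  -- some element of order two modulo scalars
  have hns : ∃ k ∈ N, ¬ Scal ρ K k := by
    by_contra h
    push Not at h
    obtain ⟨v, hv⟩ := exists_ne (0 : V)
    obtain ⟨W, hW⟩ := Submodule.exists_isCompl (K ∙ v)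
    let P := (K ∙ v).subtype.comp ((K ∙ v).projectionOnto W hW)
    obtain ⟨c, hc⟩ := H.cent P fun n hn u => by
      obtain ⟨d, hd⟩ := h n hn
      rw [hd, hd, map_smul]
    have h1 : c = 1 := smul_left_injective K hv (by
      show c • v = (1 : K) • v
      rw [one_smul, ← hc]
      simp only [P, LinearMap.coe_comp, Submodule.coe_subtype, Function.comp_apply]
      rw [Submodule.projectionOnto_apply_left hW ⟨v, Submodule.mem_span_singleton_self v⟩])
    have htop : (K ∙ v) = ⊤ := eq_top_iff.2 fun u _ => by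
      have h3 := hc u
      rw [h1, one_smul] at h3
      rw [← h3]
      exact ((K ∙ v).projectionOnto W hW u).2
    have := finrank_span_singleton (K := K) hv
    rw [htop, finrank_top] at this
    omega
  obtain ⟨k₀, hk₀, hk₀s⟩ := hns
  have hord : ∀ k ∈ N, ¬ Scal ρ K k → ∃ o, Scal ρ K (k ^ (2 * o)) ∧ ¬ Scal ρ K (k ^ o) ∧
      ∀ m, 0 < m → m < 2 * o → ¬ Scal ρ K (k ^ m) := by
    intro k hk hks
    have hex : ∃ o, 0 < o ∧ Scal ρ K (k ^ o) :=
      ⟨orderOf k, orderOf_pos k, 1, fun u => by rw [pow_orderOf_eq_one, rho_one, one_smul]⟩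
    obtain ⟨hO0, hO⟩ := Nat.find_spec hex
    have hmin : ∀ m, 0 < m → m < Nat.find hex → ¬ Scal ρ K (k ^ m) := fun m h0 hm hs =>
      Nat.find_min hex hm ⟨h0, hs⟩
    obtain ⟨r, hr, hrd⟩ := Nat.exists_prime_and_dvd (n := Nat.find hex) fun h1 => hks (by
      rw [h1, pow_one] at hO; exact hO)
    have hr2 : r = 2 := by
      by_contra hr2
      exact hmin _ (Nat.div_pos (Nat.le_of_dvd hO0 hrd) hr.pos) (Nat.div_lt_self hO0 hr.one_lt)
        (hnf.odd_none H (pow_mem hk _) hr hr2 (by rwa [← pow_mul, Nat.div_mul_cancel hrd]))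
    subst hr2
    obtain ⟨o, ho⟩ := hrd
    rw [ho] at hO hmin hO0
    exact ⟨o, hO, hmin o (by omega) (by omega), hmin⟩
  obtain ⟨o, ho, hos, -⟩ := hord k₀ hk₀ hk₀s
  let n := k₀ ^ o
  have hn : n ∈ N := pow_mem hk₀ o
  obtain ⟨lam, hlam⟩ : Scal ρ K (n ^ 2) := by
    rwa [← pow_mul, mul_comm]
  have hsign : ∀ k ∈ N, ∀ t : K, (∀ v, ρ n (ρ k v) = t • ρ k (ρ n v)) → t = 1 ∨ t = -1 :=
    fun k hk t ht => by
      have h1 := pow_eq_one_of_scal H hn hk ⟨lam, hlam⟩ ht
      exact sq_eq_one_iff.1 h1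
  -- commuting elements of order two agree
  have hagree : ∀ m ∈ N, ¬ Scal ρ K m → Scal ρ K (m ^ 2) →
      (∀ v, ρ n (ρ m v) = ρ m (ρ n v)) → Scal ρ K (n * m) := by
    rintro m hm hms ⟨d, hd⟩ hcm
    obtain ⟨i, hi⟩ := hnf.agree H hm hn Nat.prime_two hos hlam hd fun i v => by
      rw [mul_pow_comm H hm (pow_mem hn i) (t := 1) (fun u => by
        rw [comm_pow_left H hn (t := 1) (fun w => by rw [one_smul]; exact hcm w) i u, one_pow]) 2,
        one_pow, one_smul]
      congr 3
      simp only [← pow_mul, mul_comm i]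
    rcases Nat.even_or_odd i with ⟨j, rfl⟩ | ⟨j, rfl⟩
    · exfalso
      obtain ⟨e, he⟩ := scal_pow H (pow_mem hn 2) ⟨lam, hlam⟩ j
      obtain ⟨x, hx⟩ := hi
      have he0 := scal_ne_zero he
      refine hms ⟨x * e⁻¹, fun u => ?_⟩
      have h1 := hx (e⁻¹ • u)
      rw [← two_mul, pow_mul, rho_mul, he, smul_smul, mul_inv_cancel₀ he0, one_smul] at h1
      rw [h1, smul_smul]
    · obtain ⟨e, he⟩ := scal_pow H (pow_mem hn 2) ⟨lam, hlam⟩ j
      obtain ⟨x, hx⟩ := hi
      have he0 := scal_ne_zero he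
      refine ⟨x * e⁻¹, fun u => ?_⟩
      have h1 := hx (e⁻¹ • u)
      rw [pow_succ', pow_mul, rho_mul, rho_mul, he, smul_smul, mul_inv_cancel₀ he0, one_smul] at h1
      rw [rho_mul, hcm, h1, smul_smul]
  obtain ⟨h₀, hh₀, hh₀n⟩ : ∃ m ∈ N, ∃ v : V, ρ n (ρ m v) ≠ ρ m (ρ n v) := by
    by_contra h
    push Not at h
    exact hos (scal_of_central H hn h)
  -- the two-part of an anticommuting element squares to a scalar
  have hanti : ∀ j, ∀ k ∈ N, Scal ρ K (k ^ (2 ^ j)) → (∃ v, ρ n (ρ k v) ≠ ρ k (ρ n v)) →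
      Scal ρ K (k ^ 2) := by
    intro j
    induction j with
    | zero =>
      intro k hk hs _
      rw [pow_zero, pow_one] at hs
      exact scal_pow H hk hs 2
    | succ j ih =>
      intro k hk hs hne
      rcases Nat.eq_zero_or_pos j with rfl | hj
      · rwa [pow_one] at hs
      by_cases hsj : Scal ρ K (k ^ (2 ^ j))
      · exact ih k hk hsj hne
      exfalso
      obtain ⟨t, ht⟩ := exists_comm H hn hk
      obtain ⟨i, rfl⟩ := Nat.exists_eq_succ_of_ne_zero hj.ne'
      have hcm : ∀ v, ρ n (ρ (k ^ 2 ^ (i + 1)) v) = ρ (k ^ 2 ^ (i + 1)) (ρ n v) := fun v => by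
        rw [comm_pow_right H hk ht]
        have : t ^ 2 ^ (i + 1) = 1 := by
          rcases hsign k hk t ht with rfl | rfl
          · exact one_pow _
          · rw [pow_succ', pow_mul, neg_one_sq, one_pow]
        rw [this, one_smul]
      have hs' := hagree _ (pow_mem hk _) hsj (by rwa [← pow_mul, ← pow_succ]) hcm
      obtain ⟨v, hv⟩ := hne
      refine hv ?_
      have h1 := scal_comm H hk hs'
      have h2 : ∀ u, ρ k (ρ n u) = ρ n (ρ k u) := fun u => by
        obtain ⟨w, rfl⟩ : ∃ w, ρ (k ^ 2 ^ (i + 1)) w = u := ⟨_, rho_apply_inv ρ _ u⟩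
        have h3 := h1 w
        have e := (Commute.pow_self k (2 ^ (i + 1))).eq
        rw [rho_mul, rho_mul, ← rho_mul ρ (k ^ 2 ^ (i + 1)) k, e,
          rho_mul ρ k (k ^ 2 ^ (i + 1))] at h3
        exact h3
      exact (h2 v).symm
  obtain ⟨j, s, hs, hos'⟩ := Nat.exists_eq_pow_mul_and_not_dvd (orderOf_pos h₀).ne' 2 (by norm_num)
  let h := h₀ ^ s
  have hh : h ∈ N := pow_mem hh₀ s
  obtain ⟨t, ht⟩ := exists_comm H hn hh₀
  have ht1 : t = -1 := by
    rcases hsign h₀ hh₀ t ht with h1 | h1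
    · exact absurd (by rw [ht, h1, one_smul]) hh₀n.choose_spec
    · exact h1
  have htn : ∀ v, ρ n (ρ h v) = (-1 : K) • ρ h (ρ n v) := fun v => by
    rw [comm_pow_right H hh₀ ht, ht1, Odd.neg_one_pow (Nat.odd_iff.2 (Nat.two_dvd_ne_zero.1 hs))]
  have hneg1 : (-1 : K) ≠ 1 := fun e => h2 (by linear_combination -e)
  obtain ⟨mu, hmu⟩ : Scal ρ K (h ^ 2) := by
    refine hanti j h hh ?_ ?_
    · rw [← pow_mul, mul_comm, ← hos', pow_orderOf_eq_one]
      exact ⟨1, fun u => by rw [rho_one, one_smul]⟩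
    · obtain ⟨v, hv⟩ := exists_ne (0 : V)
      refine ⟨v, fun e => ?_⟩
      have h1 := htn v
      rw [e] at h1
      have h3 : ρ h (ρ n v) ≠ 0 := fun e' =>
        hv (rho_injective ρ n (rho_injective ρ h (by rw [e', map_zero, map_zero])))
      exact hneg1 (smul_left_injective K h3 ((one_smul K _).trans h1)).symm
  have hhs : ¬ Scal ρ K h := fun hs' => by
    obtain ⟨v, hv⟩ := exists_ne (0 : V)
    have h1 := htn v
    rw [scal_comm H hn hs'] at h1
    have h3 : ρ h (ρ n v) ≠ 0 := fun e' =>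
      hv (rho_injective ρ n (rho_injective ρ h (by rw [e', map_zero, map_zero])))
    exact hneg1 (smul_left_injective K h3 ((one_smul K _).trans h1)).symm
  have hlam0 := scal_ne_zero hlam
  have hmu0 := scal_ne_zero hmu
  have hnn : ∀ v, ρ n (ρ n v) = lam • v := fun v => by rw [← rho_mul, ← sq]; exact hlam v
  have hhh : ∀ v, ρ h (ρ h v) = mu • v := fun v => by rw [← rho_mul, ← sq]; exact hmu v
  have hsnp : ∀ μ : K, μ ≠ 0 → μ ^ 2 ≠ lam := fun μ h0 e =>
    hnf.not_power H hn hos Nat.prime_two hlam h0 e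
  have hhnp : ∀ μ : K, μ ≠ 0 → μ ^ 2 ≠ mu := fun μ h0 e =>
    hnf.not_power H hh hhs Nat.prime_two hmu h0 e
  -- `-1` is not a square
  have hnsq : ∀ i : K, i ^ 2 ≠ -1 := by
    intro i hi
    obtain ⟨k, μ, hμ0, hμ⟩ := exists_pow_class Nat.prime_two hlam0 hmu0 hsnp
    have hns' : ¬ Scal ρ K (h * n) := by
      intro hs'
      obtain ⟨v, hv⟩ := exists_ne (0 : V)
      have h1 := scal_comm H hn hs' v
      rw [rho_mul, rho_mul, htn, neg_one_smul] at h1
      have h3 : ρ h (ρ n (ρ n v)) ≠ 0 := fun e' => hv (rho_injective ρ n (rho_injective ρ n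
        (rho_injective ρ h (by rw [e', map_zero, map_zero, map_zero]))))
      refine h2 ?_
      have h4 : ((2 : K)) • ρ h (ρ n (ρ n v)) = 0 := by rw [two_smul]; nth_rw 1 [← h1]; exact neg_add_cancel _
      exact (smul_eq_zero.1 h4).resolve_right h3
    rcases Nat.even_or_odd k with ⟨e, rfl⟩ | ⟨e, rfl⟩
    · refine hhnp (μ * (lam ^ e)⁻¹) (mul_ne_zero hμ0 (inv_ne_zero (pow_ne_zero _ hlam0))) ?_
      rw [mul_pow, hμ, inv_pow, ← pow_mul, mul_two, mul_assoc,
        mul_inv_cancel₀ (pow_ne_zero _ hlam0), mul_one]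
    · refine hnf.not_power H (mul_mem hh hn) hns' Nat.prime_two (c := -(mu * lam)) (fun v => ?_)
        (μ := i * μ * (lam ^ e)⁻¹) ?_ ?_
      · rw [sq, rho_mul, rho_mul, rho_mul, htn, H.lin h hh, hhh, hnn]
        module
      · refine mul_ne_zero (mul_ne_zero (fun e0 => ?_) hμ0) (inv_ne_zero (pow_ne_zero _ hlam0))
        rw [e0, zero_pow two_ne_zero] at hi
        exact one_ne_zero (neg_eq_zero.1 hi.symm)
      · rw [mul_pow, mul_pow, hi, hμ, inv_pow, ← pow_mul, pow_succ, mul_comm e 2]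
        field_simp
  -- commuting elements
  have hC : ∀ k ∈ N, (∀ v, ρ n (ρ k v) = ρ k (ρ n v)) → Scal ρ K k ∨ Scal ρ K (n * k) := by
    intro k hk hcm
    by_cases hks : Scal ρ K k
    · exact Or.inl hks
    obtain ⟨a, ha, has, hmin⟩ := hord k hk hks
    rcases Nat.lt_or_ge a 2 with ha2 | ha2
    · rcases Nat.eq_zero_or_pos a with rfl | ha0
      · exact absurd ⟨1, fun u => by rw [pow_zero, rho_one, one_smul]⟩ has
      · obtain rfl : a = 1 := by omega
        exact Or.inr (hagree k hk hks ha hcm)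
    exfalso
    have hm := hagree (k ^ a) (pow_mem hk a) has (by rwa [← pow_mul, mul_comm])
      (fun v => by
        rw [comm_pow_right H hk (t := 1) (fun u => by rw [one_smul]; exact hcm u), one_pow, one_smul])
    obtain ⟨z, hz⟩ := exists_comm H hk hh
    have hza : z ^ a = -1 := by
      refine comm_unique H (comm_pow_left H hk hz a) fun v => ?_
      have e1 := scal_comm H hh hm v
      rw [rho_mul, rho_mul] at e1
      have e2 := htn (ρ (k ^ a) v)
      refine rho_injective ρ n ?_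
      rw [← e1, H.lin n hn, e2, smul_smul, neg_one_mul, neg_neg, one_smul]
    rcases Nat.even_or_odd a with ⟨b, hb⟩ | hodd
    · exact hnsq (z ^ b) (by rw [← pow_mul, mul_two, ← hb]; exact hza)
    · have hex : ∃ r : ℕ, r.Prime ∧ r ∣ a ∧ r ≠ 2 := by
        obtain ⟨r, hr, hra⟩ := Nat.exists_prime_and_dvd (n := a) (by omega)
        exact ⟨r, hr, hra, fun e => Nat.not_even_iff_odd.2 hodd (even_iff_two_dvd.2 (e ▸ hra))⟩
      obtain ⟨r, hr, hra, hr2⟩ := hex
      obtain ⟨c, rfl⟩ := hra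
      have hc0 : 0 < c := Nat.pos_of_ne_zero fun e => by simp [e] at ha2
      refine hmin (2 * c) (by omega) (by
        have := hr.two_le
        have : 2 * c < 2 * (r * c) := by nlinarith
        omega) (hnf.odd_none H (pow_mem hk _) hr hr2 ?_)
      rw [← pow_mul]
      rwa [show 2 * c * r = 2 * (r * c) by ring]
  have hall : ∀ k ∈ N, Scal ρ K k ∨ Scal ρ K (n * k) ∨ Scal ρ K (h * k) ∨ Scal ρ K (h * n * k) := by
    intro k hk
    obtain ⟨t', ht'⟩ := exists_comm H hn hk
    rcases hsign k hk t' ht' with rfl | rfl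
    · rcases hC k hk (fun v => by rw [ht', one_smul]) with h1 | h1
      exacts [Or.inl h1, Or.inr (Or.inl h1)]
    · have hcm : ∀ v, ρ n (ρ (h * k) v) = ρ (h * k) (ρ n v) := fun v => by
        rw [rho_mul, rho_mul, htn, ht', H.lin h hh, smul_smul, neg_one_mul, neg_neg, one_smul]
      rcases hC _ (mul_mem hh hk) hcm with h1 | h1
      · exact Or.inr (Or.inr (Or.inl h1))
      · obtain ⟨x, hx⟩ := h1
        refine Or.inr (Or.inr (Or.inr ⟨-x, fun v => ?_⟩))
        have h3 := hx v
        rw [rho_mul, rho_mul] at h3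
        rw [rho_mul, rho_mul, neg_smul, ← h3, htn, neg_one_smul, neg_neg]
  -- the dimension
  obtain ⟨a, b, hab⟩ : ∃ a b : K, (a ^ 2 - lam * b ^ 2) * mu = 1 := by
    haveI := Fintype.ofFinite K
    have hK : ringChar K ≠ 2 := by
      intro e
      have := ringChar.Nat.cast_ringChar (R := K)
      rw [e] at this
      exact h2 (by exact_mod_cast this)
    obtain ⟨a, b, hab⟩ := FiniteField.exists_root_sum_quadratic
      (f := (Polynomial.X ^ 2 : Polynomial K))
      (g := Polynomial.C (-lam) * Polynomial.X ^ 2 + Polynomial.C 0 * Polynomial.X + Polynomial.C (-mu⁻¹))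
      (Polynomial.degree_X_pow 2) (Polynomial.degree_quadratic (neg_ne_zero.2 hlam0))
      (FiniteField.odd_card_of_char_ne_two hK)
    refine ⟨a, b, ?_⟩
    simp only [Polynomial.eval_pow, Polynomial.eval_X, Polynomial.eval_add, Polynomial.eval_mul,
      Polynomial.eval_C] at hab
    have e : a ^ 2 - lam * b ^ 2 = mu⁻¹ := by linear_combination hab
    rw [e, inv_mul_cancel₀ hmu0]
  have hnh : ∀ v, ρ n (ρ h v) = -ρ h (ρ n v) := fun v => by rw [htn, neg_one_smul]
  have hhn : ∀ v, ρ h (ρ n v) = -ρ n (ρ h v) := fun v => by rw [hnh, neg_neg]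
  let τ : V → V := fun v => a • ρ h v + b • ρ n (ρ h v)
  have hττ : ∀ v, τ (τ v) = v := fun v => by
    simp only [τ, map_add, H.lin h hh, H.lin n hn, hhn, hhh, map_neg, H.lin n hn, hnn]
    rw [smul_neg, smul_add a, smul_add b, smul_neg, smul_neg]
    simp only [smul_smul]
    rw [← sub_eq_zero]
    have e : ((a ^ 2 - lam * b ^ 2) * mu - 1) • v = 0 := by rw [hab, sub_self, zero_smul]
    rw [← e]
    module
  obtain ⟨v, hv0, hv⟩ : ∃ v, v ≠ 0 ∧ τ v = v := by
    obtain ⟨v, hv⟩ := exists_ne (0 : V)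
    have hadd : ∀ x y, τ (x + y) = τ x + τ y := fun x y => by
      simp only [τ, map_add, smul_add]; abel
    by_cases h0 : v + τ v = 0
    · refine ⟨ρ n v, fun e => hv (rho_injective ρ n (e.trans (map_zero _).symm)), ?_⟩
      have hneg : τ v = -v := eq_neg_of_add_eq_zero_right h0
      have : τ (ρ n v) = -ρ n (τ v) := by
        simp only [τ, map_add, H.lin n hn, hhn, map_neg]
        module
      rw [this, hneg, map_neg, neg_neg]
    · exact ⟨v + τ v, h0, by rw [hadd, hττ, add_comm]⟩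
  let U : Submodule K V := Submodule.span K {v, ρ n v}
  have hvU : v ∈ U := Submodule.subset_span (Or.inl rfl)
  have hnU : ρ n v ∈ U := Submodule.subset_span (Or.inr rfl)
  have hUn : ∀ u ∈ U, ρ n u ∈ U := fun u hu => by
    refine Submodule.span_induction ?_ ?_ ?_ ?_ hu
    · rintro x (rfl | rfl)
      · exact hnU
      · rw [hnn]; exact U.smul_mem _ hvU
    · rw [map_zero]; exact zero_mem _
    · intro x y _ _ hx hy; rw [map_add]; exact add_mem hx hy
    · intro c x _ hx; rw [H.lin n hn]; exact U.smul_mem c hx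
  have hUh : ρ h v ∈ U := by
    have h1 : mu • (a • v - b • ρ n v) = mu • (a • τ v - b • ρ n (τ v)) := by rw [hv]
    have h3 : mu • (a • τ v - b • ρ n (τ v)) = ρ h v := by
      simp only [τ, map_add, H.lin n hn, hnn]
      have e : ((a ^ 2 - lam * b ^ 2) * mu - 1) • ρ h v = 0 := by rw [hab, sub_self, zero_smul]
      rw [← sub_eq_zero, ← e]
      module
    rw [← h3, ← h1]
    exact U.smul_mem _ (U.sub_mem (U.smul_mem _ hvU) (U.smul_mem _ hnU))
  have hUh' : ∀ u ∈ U, ρ h u ∈ U := fun u hu => by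
    refine Submodule.span_induction ?_ ?_ ?_ ?_ hu
    · rintro x (rfl | rfl)
      · exact hUh
      · rw [hhn]; exact neg_mem (hUn _ hUh)
    · rw [map_zero]; exact zero_mem _
    · intro x y _ _ hx hy; rw [map_add]; exact add_mem hx hy
    · intro c x _ hx; rw [H.lin h hh]; exact U.smul_mem c hx
  obtain ⟨W, hW⟩ := Submodule.exists_isCompl U
  let P : V →ₗ[K] V := U.subtype.comp (U.projectionOnto W hW)
  have hPU : ∀ u ∈ U, P u = u := fun u hu => by
    simp only [P, LinearMap.coe_comp, Submodule.coe_subtype, Function.comp_apply]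
    rw [Submodule.projectionOnto_apply_left hW ⟨u, hu⟩]
  have hPm : ∀ u, P u ∈ U := fun u => (U.projectionOnto W hW u).2
  let nL : V →ₗ[K] V :=
    { toFun := fun u => ρ n u, map_add' := map_add (ρ n), map_smul' := fun c u => H.lin n hn c u }
  let hL : V →ₗ[K] V :=
    { toFun := fun u => ρ h u, map_add' := map_add (ρ h), map_smul' := fun c u => H.lin h hh c u }
  let T : V →ₗ[K] V := P + lam⁻¹ • nL.comp (P.comp nL) + mu⁻¹ • hL.comp (P.comp hL) -
    (lam⁻¹ * mu⁻¹) • (hL.comp nL).comp (P.comp (hL.comp nL))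
  have hT : ∀ u, T u = P u + lam⁻¹ • ρ n (P (ρ n u)) + mu⁻¹ • ρ h (P (ρ h u)) -
      (lam⁻¹ * mu⁻¹) • ρ h (ρ n (P (ρ h (ρ n u)))) := fun u => rfl
  have hTn : ∀ u, T (ρ n u) = ρ n (T u) := fun u => by
    simp only [hT, map_add, map_sub, H.lin n hn, H.lin h hh, hnn, hhn, hhh, map_neg,
      map_smul, smul_smul, smul_neg, neg_neg]
    field_simp
    module
  have hTh : ∀ u, T (ρ h u) = ρ h (T u) := fun u => by
    simp only [hT, map_add, map_sub, H.lin n hn, H.lin h hh, hnn, hhn, hhh, map_neg,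
      map_smul, smul_smul, smul_neg, neg_neg]
    field_simp
    module
  obtain ⟨c, hc⟩ := H.cent T fun k hk u => by
    have key : ∀ {m : G} {x : K}, m ∈ N → (∀ w, ρ (m * k) w = x • w) →
        (∀ w, T (ρ m w) = ρ m (T w)) → T (ρ k u) = ρ k (T u) := by
      intro m x hm hx hTm
      refine rho_injective ρ m ?_
      rw [← hTm, ← rho_mul, ← rho_mul, hx, hx, map_smul]
    rcases hall k hk with ⟨x, hx⟩ | ⟨x, hx⟩ | ⟨x, hx⟩ | ⟨x, hx⟩
    · rw [hx, hx, map_smul]
    · exact key hn hx hTn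
    · exact key hh hx hTh
    · exact key (mul_mem hh hn) hx fun w => by rw [rho_mul, hTh, hTn, ← rho_mul]
  have hc4 : c = 4 := smul_left_injective K hv0 (by
    show c • v = (4 : K) • v
    rw [← hc, hT, hPU v hvU, hPU _ hnU, hPU _ (hUh' _ hvU), hPU _ (hUh' _ hnU)]
    simp only [hhn, map_neg, hnn, hhh, map_smul, H.lin n hn, H.lin h hh, smul_smul, smul_neg,
      neg_neg, inv_mul_cancel₀ hlam0, inv_mul_cancel₀ hmu0, one_smul]
    field_simp
    module)
  have htop : U = ⊤ := by
    refine eq_top_iff.2 fun u _ => ?_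
    have h40 : (4 : K) ≠ 0 := by
      rw [show (4 : K) = 2 * 2 by norm_num]; exact mul_ne_zero h2 h2
    have h1 : (4 : K) • u ∈ U := by
      rw [← hc4, ← hc, hT]
      exact sub_mem (add_mem (add_mem (hPm _) (U.smul_mem _ (hUn _ (hPm _))))
        (U.smul_mem _ (hUh' _ (hPm _)))) (U.smul_mem _ (hUh' _ (hUn _ (hPm _))))
    exact (U.smul_mem_iff h40).1 h1
  refine ⟨le_antisymm ?_ hdim, n, h, hn, hh, hall⟩
  rw [← finrank_top K V, ← htop]
  refine (finrank_span_le_card (R := K) ({v, ρ n v} : Set V)).trans ?_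
  rw [Set.toFinset_insert, Set.toFinset_singleton]
  exact Finset.card_le_two

end NoFixer

/-! ### Dimensions one and two -/

/-- Dimension one. -/
theorem pair_dim_one [Finite K] [Finite V] (H : Heis ρ K N) (hdim : Module.finrank K V = 1) :
    ∃ a b : V, a ≠ 0 ∧ b ≠ 0 ∧ Regular ρ N a ∧ IsPair ρ a b := by
  obtain ⟨t, ht⟩ := IsCyclic.exists_generator (α := Kˣ)
  haveI : Nontrivial V := Module.nontrivial_of_finrank_pos (R := K) (by omega)
  obtain ⟨a, ha⟩ := exists_ne (0 : V)
  have hall : ∀ w : V, ∃ c : K, c • a = w := fun w => (finrank_eq_one_iff_of_nonzero' a ha).1 hdim w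
  refine ⟨a, (t : K) • a, ha, smul_ne_zero t.ne_zero ha, fun n hn hna => end_ext fun w => ?_,
    fun g hga hgb => end_ext fun w => ?_⟩
  · obtain ⟨c, rfl⟩ := hall w
    rw [H.lin n hn, hna]
    rfl
  · obtain ⟨φ, hφ⟩ := H.semi g
    obtain ⟨c, rfl⟩ := hall w
    rw [hφ, hga] at hgb ⊢
    have hφt : φ t = t := smul_left_injective K ha hgb
    by_cases hc : c = 0
    · rw [hc, H.factor_zero ha hφ]; rfl
    · obtain ⟨i, hi⟩ := Subgroup.mem_zpowers_iff.mp (ht (Units.mk0 c hc))
      have : Units.map φ (Units.mk0 c hc) = Units.mk0 c hc := by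
        rw [← hi, map_zpow, show Units.map φ t = t from Units.ext hφt]
      rw [show φ c = c from (congrArg Units.val this :)]
      rfl

/-- In dimension two a vector has a distinguished line; every vector off both lines can be scaled
to complete a pair. -/
theorem pair_dim_two [Finite G] [Finite K] [Finite V] (H : Heis ρ K N)
    (hcop : (Nat.card G : K) ≠ 0) (hdim : Module.finrank K V = 2) {a : V} (ha : a ≠ 0) :
    ∃ l : V, (∀ c : K, l ≠ c • a) ∧ ∀ v : V, (∀ c : K, v ≠ c • a) → (∀ c : K, v ≠ c • l) →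
      ∃ c : K, c ≠ 0 ∧ IsPair ρ a (c • v) := by
  classical
  haveI : Module.Finite K V := Module.Finite.of_finite
  let St : Subgroup G :=
    { carrier := {g | ρ g a = a}
      one_mem' := rho_one ρ a
      mul_mem' := fun {g h} hg hh => by
        simp only [Set.mem_ofPred_eq] at hg hh ⊢
        rw [rho_mul, hh, hg]
      inv_mem' := fun {g} hg => by
        simp only [Set.mem_ofPred_eq] at hg ⊢
        conv_lhs => rw [← hg]
        rw [rho_inv_apply] }
  haveI := Fintype.ofFinite St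
  obtain ⟨W, hW⟩ := Submodule.exists_isCompl (K ∙ a)
  let P : V →ₗ[K] V := (K ∙ a).subtype.comp ((K ∙ a).projectionOnto W hW)
  have hPa : P a = a := by
    simp only [P, LinearMap.coe_comp, Submodule.coe_subtype, Function.comp_apply]
    rw [Submodule.projectionOnto_apply_left hW ⟨a, Submodule.mem_span_singleton_self a⟩]
  have hPm : ∀ u, ∃ c : K, c • a = P u := fun u =>
    Submodule.mem_span_singleton.1 ((K ∙ a).projectionOnto W hW u).2
  have hcard : (Fintype.card St : K) ≠ 0 := fun h0 => hcop (by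
    obtain ⟨e, he⟩ := St.card_subgroup_dvd_card
    rw [he, Nat.cast_mul, Nat.card_eq_fintype_card, h0, zero_mul])
  have hinv : ∀ g : St, ρ (g : G)⁻¹ a = a := fun g => (St.inv_mem g.2)
  have hlin : ∀ (g : G) (c : K) (v : V), ρ g (P (ρ g⁻¹ (c • v))) = c • ρ g (P (ρ g⁻¹ v)) := by
    intro g c v
    obtain ⟨φ, hφ⟩ := H.semi g
    obtain ⟨ψ, hψ⟩ := H.semi g⁻¹
    by_cases hv : v = 0
    · rw [hv]; simp
    rw [hψ, map_smul, hφ]
    congr 1
    have h := hψ c v
    have h' := congrArg (fun x => ρ g x) h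
    simp only [rho_apply_inv, hφ] at h'
    exact (smul_left_injective K hv h').symm
  let Q : V →ₗ[K] V :=
    { toFun := fun v => (Fintype.card St : K)⁻¹ • ∑ g : St, ρ (g : G) (P (ρ (g : G)⁻¹ v))
      map_add' := fun v w => by simp only [map_add, Finset.sum_add_distrib, smul_add]
      map_smul' := fun c v => by
        simp only [RingHom.id_apply, hlin, ← Finset.smul_sum]
        rw [smul_comm] }
  have hQa : Q a = a := by
    show (Fintype.card St : K)⁻¹ • ∑ g : St, ρ (g : G) (P (ρ (g : G)⁻¹ a)) = a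
    simp only [hinv, hPa]
    rw [Finset.sum_congr rfl (fun (g : St) _ => (g.2 : ρ (g : G) a = a)), Finset.sum_const,
      Finset.card_univ, ← Nat.cast_smul_eq_nsmul K, smul_smul, inv_mul_cancel₀ hcard, one_smul]
  have hQm : ∀ u, Q u ∈ K ∙ a := fun u => by
    refine Submodule.smul_mem _ _ (Submodule.sum_mem _ fun g _ => ?_)
    obtain ⟨φ, hφ⟩ := H.semi (g : G)
    obtain ⟨c, hc⟩ := hPm (ρ (g : G)⁻¹ u)
    rw [← hc, hφ, show ρ (g : G) a = a from g.2]
    exact Submodule.smul_mem _ _ (Submodule.mem_span_singleton_self a)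
  have hQg : ∀ g : St, ∀ u, Q (ρ (g : G) u) = ρ (g : G) (Q u) := by
    intro g u
    obtain ⟨φ, hφ⟩ := H.semi (g : G)
    show (Fintype.card St : K)⁻¹ • ∑ k : St, ρ (k : G) (P (ρ (k : G)⁻¹ (ρ (g : G) u))) =
      ρ (g : G) ((Fintype.card St : K)⁻¹ • ∑ k : St, ρ (k : G) (P (ρ (k : G)⁻¹ u)))
    rw [hφ, map_sum]
    congr 1
    · have h1 : φ (Fintype.card St : K) = (Fintype.card St : K) := by
        have h2 := hφ (Fintype.card St : K) a
        rw [show ρ (g : G) a = a from g.2, Nat.cast_smul_eq_nsmul K, map_nsmul,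
          show ρ (g : G) a = a from g.2, ← Nat.cast_smul_eq_nsmul K] at h2
        exact (smul_left_injective K ha h2).symm
      have h3 : φ (Fintype.card St : K)⁻¹ * φ (Fintype.card St : K) = 1 := by
        rw [← map_mul, inv_mul_cancel₀ hcard, map_one]
      rw [h1] at h3
      exact (eq_inv_of_mul_eq_one_left h3).symm
    · refine (Fintype.sum_equiv (Equiv.mulLeft g) _ _ fun k => ?_).symm
      simp only [Equiv.coe_mulLeft, Subgroup.coe_mul, mul_inv_rev, rho_mul]
      rw [rho_inv_apply]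
  obtain ⟨u, hu⟩ : ∃ u : V, u ∉ K ∙ a := by
    by_contra h
    push Not at h
    have := finrank_span_singleton (K := K) ha
    rw [(eq_top_iff.2 fun u _ => h u : (K ∙ a) = ⊤), finrank_top] at this
    omega
  let l := u - Q u
  have hQl : Q l = 0 := by
    obtain ⟨c, hc⟩ := Submodule.mem_span_singleton.1 (hQm u)
    simp only [l, map_sub, ← hc, map_smul, hQa, sub_self]
  have hl : ∀ c : K, l ≠ c • a := fun c h => hu (by
    have : u = l + Q u := by simp [l]
    rw [this, h]
    exact add_mem (Submodule.smul_mem _ _ (Submodule.mem_span_singleton_self a)) (hQm u))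
  refine ⟨l, hl, fun v hva hvl => ?_⟩
  have hl0 : l ≠ 0 := fun h => hl 0 (by rw [h, zero_smul])
  have hbasis : ∀ w : V, ∃ x y : K, x • a + y • l = w := by
    have hli : LinearIndependent K ![a, l] :=
      (linearIndependent_fin2).2 ⟨hl0, fun c h => by
        simp only [Matrix.cons_val_one, Matrix.cons_val_zero] at h
        by_cases hc : c = 0
        · exact ha (by rw [← h, hc, zero_smul])
        · exact hl c⁻¹ (by rw [← h, smul_smul, inv_mul_cancel₀ hc, one_smul])⟩
    have htop := hli.span_eq_top_of_card_eq_finrank (by simp [hdim])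
    intro w
    have hw : w ∈ Submodule.span K (Set.range ![a, l]) := by rw [htop]; trivial
    rw [Matrix.range_cons_cons_empty, Submodule.mem_span_pair] at hw
    exact hw
  obtain ⟨α, β, hv⟩ := hbasis v
  have hα : α ≠ 0 := fun h => hvl β (by rw [← hv, h, zero_smul, zero_add])
  have hβ : β ≠ 0 := fun h => hva α (by rw [← hv, h, zero_smul, add_zero])
  obtain ⟨t, ht⟩ := IsCyclic.exists_generator (α := Kˣ)
  refine ⟨(t : K) * α⁻¹, mul_ne_zero t.ne_zero (inv_ne_zero hα), fun g hga hgb => ?_⟩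
  obtain ⟨φ, hφ⟩ := H.semi g
  have hb : ((t : K) * α⁻¹) • v = (t : K) • a + (((t : K) * α⁻¹) * β) • l := by
    rw [← hv, smul_add, smul_smul, smul_smul, mul_assoc, inv_mul_cancel₀ hα, mul_one]
  rw [hb, map_add, hφ, hφ, hga] at hgb
  have hQgl : Q (ρ g l) = 0 := by rw [hQg ⟨g, hga⟩, hQl, map_zero]
  have h1 := congrArg Q hgb
  simp only [map_add, map_smul, hQa, hQl, hQgl, smul_zero, add_zero] at h1
  have hφt : φ t = t := smul_left_injective K ha h1
  rw [h1] at hgb
  have hgl := add_left_cancel hgb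
  have hid : ∀ c : K, φ c = c := by
    intro c
    by_cases hc : c = 0
    · rw [hc, H.factor_zero ha hφ]
    · obtain ⟨i, hi⟩ := Subgroup.mem_zpowers_iff.mp (ht (Units.mk0 c hc))
      have : Units.map φ (Units.mk0 c hc) = Units.mk0 c hc := by
        rw [← hi, map_zpow, show Units.map φ t = t from Units.ext hφt]
      exact (congrArg Units.val this :)
  have hgl' : ρ g l = l := by
    rw [hid] at hgl
    exact smul_right_injective V (mul_ne_zero (mul_ne_zero t.ne_zero (inv_ne_zero hα)) hβ) hgl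
  refine end_ext fun w => ?_
  obtain ⟨x, y, rfl⟩ := hbasis w
  rw [map_add, hφ, hφ, hid, hid, hga, hgl']
  rfl

/-- A non-zero vector off finitely many lines. -/
theorem exists_off_lines [Finite K] [Finite V] {ι : Type*} [Finite ι] (w : ι → V)
    (hdim : Module.finrank K V = 2) (hι : Nat.card ι < Nat.card K + 1) :
    ∃ v : V, v ≠ 0 ∧ ∀ i, ∀ c : K, v ≠ c • w i := by
  classical
  haveI := Fintype.ofFinite V
  haveI := Fintype.ofFinite K
  haveI := Fintype.ofFinite ι
  haveI : Module.Finite K V := Module.Finite.of_finite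
  by_contra h
  push Not at h
  have hsub : (Finset.univ.erase (0 : V)) ⊆ Finset.univ.biUnion fun i =>
      (Finset.univ.erase (0 : K)).image fun c => c • w i := fun v hv => by
    obtain ⟨i, c, hc⟩ := h v (Finset.ne_of_mem_erase hv)
    refine Finset.mem_biUnion.2 ⟨i, Finset.mem_univ i, Finset.mem_image.2 ⟨c, ?_, hc.symm⟩⟩
    refine Finset.mem_erase.2 ⟨fun h0 => Finset.ne_of_mem_erase hv ?_, Finset.mem_univ c⟩
    rw [hc, h0, zero_smul]
  have h1 := (Finset.card_le_card hsub).trans (Finset.card_biUnion_le_card_mul _ _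
    (Fintype.card K - 1) fun i _ => Finset.card_image_le.trans
      (by rw [Finset.card_erase_of_mem (Finset.mem_univ _), Finset.card_univ]))
  rw [Finset.card_erase_of_mem (Finset.mem_univ _), Finset.card_univ, Finset.card_univ,
    Module.card_eq_pow_finrank (K := K), hdim] at h1
  rw [Nat.card_eq_fintype_card, Nat.card_eq_fintype_card] at hι
  have h3 : 1 < Fintype.card K := Fintype.one_lt_card
  obtain ⟨q, hq⟩ : ∃ q, Fintype.card K = q + 1 := ⟨Fintype.card K - 1, by omega⟩
  rw [hq] at h1 hι h3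
  simp only [Nat.add_sub_cancel] at h1
  have h4 : Fintype.card ι * q ≤ (q + 1) * q := Nat.mul_le_mul_right q (by omega)
  have h5 : (q + 1) ^ 2 = (q + 1) * q + q + 1 := by ring
  omega

/-- A pair in dimension two. -/
theorem exists_pair_dim_two [Finite G] [Finite K] [Finite V] (H : Heis ρ K N)
    (hcop : (Nat.card G : K) ≠ 0) (hdim : Module.finrank K V = 2) {a : V} (ha : a ≠ 0) :
    ∃ b : V, b ≠ 0 ∧ IsPair ρ a b := by
  obtain ⟨l, -, hl⟩ := pair_dim_two H hcop hdim ha
  have h2 : Nat.card (Fin 2) < Nat.card K + 1 := by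
    rw [Nat.card_fin]
    have := Finite.one_lt_card (α := K)
    omega
  obtain ⟨v, hv0, hv⟩ := exists_off_lines (![a, l] : Fin 2 → V) hdim h2
  obtain ⟨c, hc, hp⟩ := hl v (hv 0) (hv 1)
  exact ⟨c • v, smul_ne_zero hc hv0, hp⟩

/-- Strong configurations in dimension two over fields with at least seven elements. -/
theorem strong_dim_two [Finite G] [Finite K] [Finite V] (H : Heis ρ K N) (h2 : (2 : K) ≠ 0)
    (hcop : (Nat.card G : K) ≠ 0) (hq : 7 ≤ Nat.card K) (hdim : Module.finrank K V = 2) :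
    Strong ρ N := by
  classical
  haveI : Module.Finite K V := Module.Finite.of_finite
  haveI : Nontrivial V := Module.nontrivial_of_finrank_pos (R := K) (by omega)
  by_cases hnf : NoFixer ρ N
  · obtain ⟨-, n, h, hn, hh, hall⟩ := hnf.small H h2 (by omega)
    obtain ⟨a, ha⟩ := exists_ne (0 : V)
    obtain ⟨b, hb, hp⟩ := exists_pair_dim_two H hcop hdim ha
    obtain ⟨c, hc, hoff⟩ := exists_off_lines
      (![b, ρ n⁻¹ b, ρ h⁻¹ b, ρ (h * n)⁻¹ b] : Fin 4 → V) hdim (by rw [Nat.card_fin]; omega)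
    refine ⟨a, b, c, ha, hb, hc, hnf a ha, hnf c hc, fun k hk e => ?_, hp⟩
    have key : ∀ {m : G} (x : K), m ∈ N → (∀ w, ρ (m * k) w = x • w) → c = x • ρ m⁻¹ b :=
      fun {m} x hm hx => by
        rw [← H.lin _ (inv_mem hm), ← hx b, rho_mul, rho_inv_apply]
        exact e.symm
    rcases hall k hk with ⟨x, hx⟩ | ⟨x, hx⟩ | ⟨x, hx⟩ | ⟨x, hx⟩
    · exact hoff 0 x (by rw [← e]; exact hx b)
    · exact hoff 1 x (key x hn hx)
    · exact hoff 2 x (key x hh hx)
    · exact hoff 3 x (key x (mul_mem hh hn) hx)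
  · obtain ⟨S⟩ := exists_split_of_not_noFixer H hnf
    haveI := Fintype.ofFinite K
    letI := S.mod0 H
    haveI := S.nontrivial_V0
    haveI : Module.Finite K S.V0 := Module.Finite.of_finite
    have hcard := S.card_pow H
    rw [Module.natCard_eq_pow_finrank (K := K), Module.natCard_eq_pow_finrank (K := K) (V := S.V0),
      ← pow_mul, hdim] at hcard
    have hrd := Nat.pow_right_injective (Finite.one_lt_card (α := K)) hcard
    have hd0 : 0 < Module.finrank K S.V0 := Module.finrank_pos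
    have hr2 : S.r = 2 := by
      have := S.prime.two_le
      nlinarith
    have hd1 : Module.finrank K S.V0 = 1 := by rw [hr2] at hrd; omega
    obtain ⟨v₀, hv₀⟩ := exists_ne (0 : S.V0)
    have hv : (v₀ : V) ≠ 0 := fun e => hv₀ (Subtype.ext e)
    have hline : ∀ w ∈ S.V0, ∃ c : K, c • (v₀ : V) = w := fun w hw => by
      obtain ⟨c, hc⟩ := (finrank_eq_one_iff_of_nonzero' v₀ hv₀).1 hd1 ⟨w, hw⟩
      exact ⟨c, congrArg Subtype.val hc⟩
    have hω : S.ω = -1 := by
      have h1 := S.root.pow_eq_one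
      rw [hr2] at h1
      exact (sq_eq_one_iff.1 h1).resolve_left (S.root.ne_one S.prime.one_lt)
    have hhh : ρ S.h (ρ S.h (v₀ : V)) ∈ S.V0 := by
      have h1 := S.eig_h H (S.eig_h H (S.eig_zero_iff.2 v₀.2))
      rw [Split.Eig, show 0 + 1 + 1 = 2 from rfl, hω, neg_one_sq, one_smul] at h1
      exact h1
    obtain ⟨τ, hτ⟩ := hline _ hhh
    let u := ρ S.h (v₀ : V)
    have hu : u ≠ 0 := fun e => hv (rho_injective ρ _ (e.trans (map_zero _).symm))
    have hind : ∀ x y : K, x • (v₀ : V) + y • u = 0 → x = 0 ∧ y = 0 := by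
      intro x y e
      have h1 := congrArg (S.proj 0) e
      rw [S.proj_add, S.proj_smul H, S.proj_smul H, S.proj_eig H (S.eig_zero_iff.2 v₀.2),
        S.proj_eig H (S.eig_h H (S.eig_zero_iff.2 v₀.2)), if_pos rfl,
        if_neg (fun e' => by
          rw [pow_zero, zero_add, pow_one] at e'
          exact S.root.ne_one S.prime.one_lt e'), smul_zero, add_zero] at h1
      simp only [Split.proj, map_zero, smul_zero, Finset.sum_const_zero] at h1
      have hx := (smul_eq_zero.1 h1).resolve_right hv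
      rw [hx, zero_smul, zero_add] at e
      exact ⟨hx, (smul_eq_zero.1 e).resolve_right hu⟩
    -- choose the regular vector
    obtain ⟨y, hy0, hy⟩ : ∃ y : K, y ≠ 0 ∧ y ^ 4 * τ ^ 2 ≠ 1 := by
      by_contra hc
      push Not at hc
      have hτ0 : τ ≠ 0 := fun e => hu (rho_injective ρ S.h (by
        rw [show ρ S.h u = τ • (v₀ : V) from hτ.symm, e, zero_smul, map_zero]))
      let P : Polynomial K := Polynomial.C (τ ^ 2) * Polynomial.X ^ 4 - 1
      have hP : P.natDegree = 4 := by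
        simp only [P]
        rw [show (1 : Polynomial K) = Polynomial.C 1 from rfl, Polynomial.natDegree_sub_C,
          Polynomial.natDegree_C_mul_X_pow 4 _ (pow_ne_zero 2 hτ0)]
      have hsub : (Finset.univ.erase (0 : K)) ⊆ P.roots.toFinset := fun z hz => by
        rw [Multiset.mem_toFinset, Polynomial.mem_roots (fun e => by rw [e] at hP; simp at hP)]
        simp only [P, Polynomial.IsRoot.def, Polynomial.eval_sub, Polynomial.eval_mul, Polynomial.eval_C,
          Polynomial.eval_pow, Polynomial.eval_X, Polynomial.eval_one]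
        linear_combination hc z (Finset.ne_of_mem_erase hz)
      have h4 := (Finset.card_le_card hsub).trans ((Multiset.toFinset_card_le _).trans
        ((Polynomial.card_roots' P).trans hP.le))
      rw [Finset.card_erase_of_mem (Finset.mem_univ _), Finset.card_univ,
        ← Nat.card_eq_fintype_card] at h4
      omega
    let a : V := v₀ + y • u
    have ha : a ≠ 0 := fun e => one_ne_zero (hind 1 y (by rw [one_smul]; exact e)).1
    have hreg : Regular ρ N a := by
      intro k hk hka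
      obtain ⟨i, hi, hs⟩ := S.shift H hk
      have hi' : i = 0 ∨ i = 1 := by omega
      have h0 := hs 0 _ (S.eig_zero_iff.2 v₀.2)
      obtain ⟨t, ht⟩ := exists_comm H hk S.hh
      rcases hi' with rfl | rfl
      · obtain ⟨c, hc⟩ := hline _ (S.eig_zero_iff.1 h0)
        have hku : ρ k u = (t * c) • u := by
          show ρ k (ρ S.h (v₀ : V)) = _
          rw [ht, ← hc, H.lin _ S.hh, smul_smul]
        have e : (c - 1) • (v₀ : V) + (y * (t * c) - y) • u = 0 := by
          rw [sub_smul, sub_smul, one_smul, hc, ← smul_smul y (t * c), ← hku, ← H.lin k hk y,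
            sub_add_sub_comm, ← map_add, hka]
          exact sub_self _
        obtain ⟨e1, e2⟩ := hind _ _ e
        rw [sub_eq_zero] at e1 e2
        refine end_ext (S.ext_h H (A := fun v => ρ k v) (B := fun v => v)
          (fun v w => map_add _ v w) (fun _ _ => rfl) fun j hj w hw => ?_)
        obtain ⟨d, rfl⟩ := hline w hw
        show ρ k (ρ (S.h ^ j) (d • (v₀ : V))) = ρ (S.h ^ j) (d • (v₀ : V))
        rw [H.lin _ (pow_mem S.hh j), H.lin k hk]
        congr 1
        rcases (show j = 0 ∨ j = 1 by omega) with rfl | rfl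
        · rw [pow_zero, rho_one, ← hc, e1, one_smul]
        · rw [pow_one]
          show ρ k u = u
          rw [hku, mul_left_eq_self₀.1 ((mul_comm _ _).trans e2) |>.resolve_right hy0, one_smul]
      · exfalso
        obtain ⟨c, hc⟩ := hline _ (S.back_mem H h0)
        have hkv : ρ k (v₀ : V) = c • u := by
          have h5 := congrArg (fun w => ρ (S.h ^ (0 + 1)) w) hc
          simp only [rho_apply_inv, H.lin _ (pow_mem S.hh _), zero_add, pow_one, H.lin _ S.hh] at h5
          exact h5.symm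
        have hku : ρ k u = (t * c * τ) • (v₀ : V) := by
          show ρ k (ρ S.h (v₀ : V)) = _
          rw [ht, hkv, H.lin _ S.hh, smul_smul, show ρ S.h u = τ • (v₀ : V) from hτ.symm, smul_smul]
        have e : (y * (t * c * τ) - 1) • (v₀ : V) + (c - y) • u = 0 := by
          rw [sub_smul, sub_smul, one_smul, ← smul_smul y, ← hku, ← hkv, ← H.lin k hk y,
            sub_add_sub_comm, ← map_add, add_comm (y • u), hka]
          exact sub_self _
        obtain ⟨e1, e2⟩ := hind _ _ e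
        rw [sub_eq_zero] at e1 e2
        have ht2 : t * t = 1 := by
          -- the commutator with `h` squares to one
          have h5 := hs 0 _ (S.eig_zero_iff.2 v₀.2)
          have h6 : ρ k (ρ S.h u) = t • ρ S.h (ρ k u) := ht u
          rw [show ρ S.h u = τ • (v₀ : V) from hτ.symm, H.lin k hk, hkv, hku, H.lin _ S.hh,
            smul_smul, smul_smul] at h6
          have h7 := smul_left_injective K hu h6
          have hτ0 : τ ≠ 0 := fun e0 => by simp [e0] at e1
          have hc0 : c ≠ 0 := e2 ▸ hy0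
          have : (t * t - 1) * (τ * c) = 0 := by linear_combination -h7
          exact sub_eq_zero.1 ((mul_eq_zero.1 this).resolve_right (mul_ne_zero hτ0 hc0))
        refine hy ?_
        rw [e2] at e1
        have h8 : (y * (t * y * τ)) ^ 2 = 1 := by rw [e1, one_pow]
        linear_combination h8 - (y ^ 4 * τ ^ 2) * ht2
    obtain ⟨l, hla, hl⟩ := pair_dim_two H hcop hdim ha
    -- a vector of an axis completes the pair
    have hv₀a : ∀ c : K, (v₀ : V) ≠ c • a := fun c e => by
      have h5 : (c - 1) • (v₀ : V) + (c * y) • u = 0 := by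
        rw [sub_smul, one_smul, ← smul_smul, sub_add_eq_add_sub, ← smul_add, sub_eq_zero]
        exact e.symm
      obtain ⟨h6, h7⟩ := hind _ _ h5
      rw [sub_eq_zero] at h6
      rw [h6, one_mul] at h7
      exact hy0 h7
    have hua : ∀ c : K, u ≠ c • a := fun c e => by
      have h5 : c • (v₀ : V) + (c * y - 1) • u = 0 := by
        rw [sub_smul, one_smul, ← smul_smul, ← add_sub_assoc, ← smul_add, sub_eq_zero]
        exact e.symm
      obtain ⟨h6, h7⟩ := hind _ _ h5
      simp [h6] at h7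
    obtain ⟨v, hva, hvl, hvn⟩ : ∃ v : V, (∀ c : K, v ≠ c • a) ∧ (∀ c : K, v ≠ c • l) ∧
        ∃ m ∈ N, ρ m v = v ∧ ρ m ≠ 1 := by
      by_cases hcase : ∀ c : K, (v₀ : V) ≠ c • l
      · exact ⟨v₀, hv₀a, hcase, S.f, S.hf, v₀.2, S.f_ne⟩
      · push Not at hcase
        obtain ⟨x, hx⟩ := hcase
        obtain ⟨z, hzN, hz⟩ := H.scalar (-1) (neg_ne_zero.2 one_ne_zero)
        refine ⟨u, hua, fun c e => ?_, z * S.f, mul_mem hzN S.hf, ?_, fun e => ?_⟩
        · have hx0 : x ≠ 0 := fun h0 => hv (by rw [hx, h0, zero_smul])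
          have h5 : (c * x⁻¹) • (v₀ : V) + (-1 : K) • u = 0 := by
            rw [hx, smul_smul, mul_assoc, inv_mul_cancel₀ hx0, mul_one, ← e, neg_one_smul,
              add_neg_cancel]
          exact neg_ne_zero.2 one_ne_zero (hind _ _ h5).2
        · rw [rho_mul, hz, show ρ S.f u = _ from S.eig_h H (S.eig_zero_iff.2 v₀.2), zero_add,
            pow_one, hω, smul_smul, neg_one_mul, neg_neg, one_smul]
        · have h5 := DFunLike.congr_fun e (v₀ : V)
          rw [rho_mul, show ρ S.f (v₀ : V) = v₀ from v₀.2, hz] at h5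
          have h6 : (2 : K) • (v₀ : V) = 0 := by
            rw [two_smul]
            conv_lhs => arg 1; rw [show (v₀ : V) = (-1 : K) • (v₀ : V) from h5.symm]
            rw [neg_one_smul, neg_add_cancel]
          exact h2 ((smul_eq_zero.1 h6).resolve_right hv)
    obtain ⟨c, hc, hp⟩ := hl v hva hvl
    have hv0' : v ≠ 0 := fun e => hva 0 (by rw [e, zero_smul])
    have hbn : ¬ Regular ρ N (c • v) := fun hr => by
      obtain ⟨m, hm, hmv, hm1⟩ := hvn
      exact hm1 (hr m hm (by rw [H.lin m hm, hmv]))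
    exact ⟨a, c • v, a, ha, smul_ne_zero hc hv0', ha, hreg, hreg,
      fun k hk e => not_regular_map hbn hk (e ▸ hreg), hp⟩

end CfsgLib.PairBase
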