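import Cfsg.Agent.Lib.PairBase.Setting
import Cfsg.Agent.Lib.OddBase.Reduce

/-!
# The eigenspaces of an element of prime order of the layer

An element `f` of `N` of prime order `r` with a fixed vector splits the space into the translates
of its fixed space `V₀` by a second element `h`; the centralizer of `f` gives a setting on `V₀`.
-/

set_option autoImplicit false
set_option linter.unusedSectionVars false
set_option linter.style.haveILetI false

namespace CfsgLib.PairBase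

open CfsgLib.OddBase

universe u

variable {G V : Type u} [Group G] [AddCommGroup V]
variable {K : Type u} [Field K] [Module K V]

/-- The setwise stabilizer of a subgroup. -/
def blk (ρ : G →* AddMonoid.End V) (U : AddSubgroup V) : Subgroup G where
  carrier := {g | ∀ x, ρ g x ∈ U ↔ x ∈ U}
  one_mem' x := by rw [rho_one]
  mul_mem' {a b} ha hb x := by rw [rho_mul]; exact (ha _).trans (hb x)
  inv_mem' {a} ha x := by
    conv_rhs => rw [← rho_apply_inv ρ a x]
    exact (ha _).symm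

theorem inv_blk (ρ : G →* AddMonoid.End V) (U : AddSubgroup V) :
    Inv (ρ.comp (blk ρ U).subtype) U := fun g x hx => (g.2 x).2 hx

theorem mem_blk [Finite V] {ρ : G →* AddMonoid.End V} {U : AddSubgroup V} {g : G}
    (h : ∀ x ∈ U, ρ g x ∈ U) : g ∈ blk ρ U := by
  intro x
  refine ⟨fun hx => ?_, h x⟩
  obtain ⟨⟨y, hy⟩, e⟩ := Finite.surjective_of_injective
    (f := fun u : U => (⟨ρ g u, h u u.2⟩ : U))
    (fun a b e => Subtype.ext (rho_injective ρ g (congrArg Subtype.val e))) ⟨ρ g x, hx⟩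
  rwa [← rho_injective ρ g (congrArg Subtype.val e)]

/-- The representation of the stabilizer of `U` on `U`. -/
abbrev sub (ρ : G →* AddMonoid.End V) (U : AddSubgroup V) : blk ρ U →* AddMonoid.End U :=
  restr (ρ.comp (blk ρ U).subtype) U (inv_blk ρ U)

/-- An element of prime order with a fixed vector, and a companion. -/
structure Split (ρ : G →* AddMonoid.End V) (K : Type u) [Field K] [Module K V] (N : Subgroup G) where
  f : G
  h : G
  r : ℕ
  ω : K
  hf : f ∈ N
  hh : h ∈ N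
  prime : r.Prime
  pow_f : ρ (f ^ r) = 1
  root : IsPrimitiveRoot ω r
  comm : ∀ v : V, ρ f (ρ h v) = ω • ρ h (ρ f v)
  fixed : ∃ v : V, v ≠ 0 ∧ ρ f v = v
  f_ne : ρ f ≠ 1

variable {ρ : G →* AddMonoid.End V} {N : Subgroup G}

/-- A splitting exists as soon as an element of prime order has a fixed vector. -/
theorem exists_split (H : Heis ρ K N) {f : G} (hf : f ∈ N) {r : ℕ} (hr : r.Prime)
    (hpow : ρ (f ^ r) = 1) (hne : ρ f ≠ 1) {v₀ : V} (hv₀ : v₀ ≠ 0) (hfix : ρ f v₀ = v₀) :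
    ∃ S : Split ρ K N, S.f = f ∧ S.r = r := by
  by_contra hno
  have hall : ∀ n ∈ N, ∀ v, ρ f (ρ n v) = ρ n (ρ f v) := by
    intro n hn
    obtain ⟨t, ht⟩ := H.comm f hf n hn
    have hit : ∀ k : ℕ, ∀ v, ρ (f ^ k) (ρ n v) = t ^ k • ρ n (ρ (f ^ k) v) := by
      intro k
      induction k with
      | zero => intro v; rw [pow_zero, pow_zero, rho_one, rho_one, one_smul]
      | succ k ih =>
        intro v
        have h1 := ht (ρ (f ^ k) v)
        rw [rho_mul, rho_mul, ← rho_mul ρ f (f ^ k), ← pow_succ'] at h1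
        rw [pow_succ', rho_mul, ih, H.lin f hf, ← pow_succ', h1, smul_smul, ← pow_succ]
    have htr : t ^ r = 1 := by
      have h1 := hit r v₀
      rw [hpow] at h1
      change ρ n v₀ = t ^ r • ρ n v₀ at h1
      have hne0 : ρ n v₀ ≠ 0 := fun h => hv₀ (rho_injective ρ n (h.trans (map_zero _).symm))
      exact smul_left_injective K hne0 (h1.symm.trans (one_smul K _).symm)
    by_cases ht1 : t = 1
    · intro v
      have h1 := ht v
      rw [ht1, one_smul, rho_mul, rho_mul] at h1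
      exact h1
    · exfalso
      haveI := Fact.mk hr
      refine hno ⟨⟨f, n, r, t, hf, hn, hr, hpow, ?_, fun v => ?_, ⟨v₀, hv₀, hfix⟩, hne⟩, rfl, rfl⟩
      · rw [IsPrimitiveRoot.iff_orderOf]
        exact orderOf_eq_prime htr ht1
      · rw [← rho_mul, ← rho_mul]
        exact ht v
  let T : V →ₗ[K] V :=
    { toFun := fun v => ρ f v
      map_add' := fun v w => map_add (ρ f) v w
      map_smul' := fun c v => H.lin f hf c v }
  obtain ⟨c, hc⟩ := H.cent T (fun n hn v => hall n hn v)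
  have hc1 : c = 1 := smul_left_injective K hv₀ (((hc v₀).symm.trans hfix).trans (one_smul K _).symm)
  exact hne (end_ext fun v => (hc v).trans (by rw [hc1, one_smul]; rfl))

namespace Split

variable (S : Split ρ K N)

/-- The fixed space. -/
abbrev V0 : AddSubgroup V := fixedBy (ρ S.f)

/-- The stabilizer of the fixed space. -/
abbrev G0 : Subgroup G := blk ρ S.V0

/-- The centralizer in the layer. -/
abbrev N0 : Subgroup S.G0 := N.subgroupOf S.G0

/-- The representation on the fixed space. -/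
abbrev ρ0 : S.G0 →* AddMonoid.End S.V0 := sub ρ S.V0

theorem omega_ne_zero : S.ω ≠ 0 := S.root.ne_zero S.prime.ne_zero

theorem r_ne_zero : (S.r : K) ≠ 0 := by
  haveI : NeZero S.r := ⟨S.prime.ne_zero⟩
  exact (S.root.neZero' (R := K)).out

theorem pow_omega_eq_one {i : ℕ} : S.ω ^ i = 1 ↔ S.r ∣ i := S.root.pow_eq_one_iff_dvd i

theorem pow_omega_inj {i j : ℕ} (hi : i < S.r) (hj : j < S.r) (h : S.ω ^ i = S.ω ^ j) : i = j :=
  S.root.pow_inj hi hj h

theorem exists_omega_pow {t : K} (ht : t ^ S.r = 1) : ∃ i < S.r, S.ω ^ i = t := by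
  haveI : NeZero S.r := ⟨S.prime.ne_zero⟩
  exact S.root.eq_pow_of_pow_eq_one ht

/-- A vector in the eigenspace of `ω ^ i`. -/
def Eig (i : ℕ) (v : V) : Prop := ρ S.f v = S.ω ^ i • v

theorem eig_zero_iff {v : V} : S.Eig 0 v ↔ v ∈ S.V0 := by
  rw [Eig, pow_zero, one_smul]
  exact Iff.rfl

theorem pow_f_eig {i : ℕ} {v : V} (hv : S.Eig i v) (H : Heis ρ K N) (j : ℕ) :
    ρ (S.f ^ j) v = (S.ω ^ i) ^ j • v := by
  induction j with
  | zero => rw [pow_zero, pow_zero, rho_one, one_smul]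
  | succ j ih => rw [pow_succ', rho_mul, ih, H.lin _ S.hf, hv, smul_smul, ← pow_succ]

theorem pow_f_fixed {v : V} (hv : v ∈ S.V0) (j : ℕ) : ρ (S.f ^ j) v = v := by
  induction j with
  | zero => rw [pow_zero, rho_one]
  | succ j ih => rw [pow_succ', rho_mul, ih]; exact hv

theorem eig_smul (H : Heis ρ K N) {i : ℕ} {v : V} (hv : S.Eig i v) (c : K) : S.Eig i (c • v) := by
  rw [Eig, H.lin _ S.hf, hv, smul_comm]

theorem smul_mem (H : Heis ρ K N) {v : V} (hv : v ∈ S.V0) (c : K) : c • v ∈ S.V0 :=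
  S.eig_zero_iff.1 (S.eig_smul H (S.eig_zero_iff.2 hv) c)

theorem eig_eq (H : Heis ρ K N) {i j : ℕ} {v : V} (hv : S.Eig i v) (hw : S.Eig j v) (hv0 : v ≠ 0) :
    S.ω ^ i = S.ω ^ j :=
  smul_left_injective K hv0 (hv.symm.trans hw)

/-- Every element of the layer shifts the eigenspaces. -/
theorem shift (H : Heis ρ K N) {n : G} (hn : n ∈ N) :
    ∃ i < S.r, ∀ k v, S.Eig k v → S.Eig (k + i) (ρ n v) := by
  obtain ⟨t, ht⟩ := H.comm S.f S.hf n hn
  have ht' : ∀ v, ρ S.f (ρ n v) = t • ρ n (ρ S.f v) := fun v => by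
    rw [← rho_mul, ← rho_mul]; exact ht v
  have hit : ∀ k : ℕ, ∀ v, ρ (S.f ^ k) (ρ n v) = t ^ k • ρ n (ρ (S.f ^ k) v) := by
    intro k
    induction k with
    | zero => intro v; rw [pow_zero, pow_zero, rho_one, rho_one, one_smul]
    | succ k ih =>
      intro v
      rw [pow_succ', rho_mul, ih, H.lin _ S.hf, ht', smul_smul, ← pow_succ, rho_mul]
  have htr : t ^ S.r = 1 := by
    obtain ⟨v, hv, -⟩ := S.fixed
    have h1 := hit S.r v
    rw [S.pow_f] at h1
    change ρ n v = t ^ S.r • ρ n v at h1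
    have hne0 : ρ n v ≠ 0 := fun h => hv (rho_injective ρ n (h.trans (map_zero _).symm))
    exact smul_left_injective K hne0 (h1.symm.trans (one_smul K _).symm)
  obtain ⟨i, hi, hit'⟩ := S.exists_omega_pow htr
  refine ⟨i, hi, fun k v hv => ?_⟩
  rw [Eig, ht', show ρ S.f v = _ from hv, H.lin n hn, smul_smul, ← hit', ← pow_add, add_comm k]

theorem eig_h (H : Heis ρ K N) {k : ℕ} {v : V} (hv : S.Eig k v) : S.Eig (k + 1) (ρ S.h v) := by
  rw [Eig, S.comm, show ρ S.f v = _ from hv, H.lin _ S.hh, smul_smul, ← pow_succ']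

theorem eig_h_pow (H : Heis ρ K N) {v : V} (hv : v ∈ S.V0) (i : ℕ) :
    S.Eig i (ρ (S.h ^ i) v) := by
  induction i with
  | zero => rw [pow_zero, rho_one]; exact S.eig_zero_iff.2 hv
  | succ i ih =>
    rw [pow_succ', rho_mul]
    exact S.eig_h H ih

/-- The projection on an eigenspace. -/
def proj (i : ℕ) (v : V) : V :=
  (S.r : K)⁻¹ • ∑ j ∈ Finset.range S.r, ((S.ω ^ i)⁻¹) ^ j • ρ (S.f ^ j) v

theorem proj_add (i : ℕ) (v w : V) : S.proj i (v + w) = S.proj i v + S.proj i w := by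
  simp only [proj, map_add, smul_add, Finset.sum_add_distrib]

theorem proj_smul (H : Heis ρ K N) (i : ℕ) (c : K) (v : V) : S.proj i (c • v) = c • S.proj i v := by
  simp only [proj, H.lin _ (pow_mem S.hf _), smul_comm _ c, Finset.smul_sum]

theorem proj_eig [DecidableEq K] (H : Heis ρ K N) {i k : ℕ} {v : V} (hv : S.Eig k v) :
    S.proj i v = if S.ω ^ k = S.ω ^ i then v else 0 := by
  have hi : S.ω ^ i ≠ 0 := pow_ne_zero _ S.omega_ne_zero
  simp only [proj, S.pow_f_eig hv H, smul_smul, ← mul_pow, ← Finset.sum_smul]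
  split_ifs with h
  · rw [h, inv_mul_cancel₀ hi]
    simp [S.r_ne_zero]
  · have hx : (S.ω ^ i)⁻¹ * S.ω ^ k ≠ 1 := fun e => h (by
      rw [inv_mul_eq_iff_eq_mul₀ hi, mul_one] at e; exact e)
    have hxr : ((S.ω ^ i)⁻¹ * S.ω ^ k) ^ S.r = 1 := by
      rw [mul_pow, inv_pow, ← pow_mul, ← pow_mul, mul_comm i, mul_comm k, pow_mul, pow_mul,
        S.root.pow_eq_one, one_pow, one_pow, inv_one, one_mul]
    have h1 := geom_sum_mul ((S.ω ^ i)⁻¹ * S.ω ^ k) S.r
    rw [hxr, sub_self, mul_eq_zero] at h1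
    rw [h1.resolve_right (sub_ne_zero.2 hx), mul_zero, zero_smul]

theorem eig_proj (H : Heis ρ K N) (i : ℕ) (v : V) : S.Eig i (S.proj i v) := by
  have hi : S.ω ^ i ≠ 0 := pow_ne_zero _ S.omega_ne_zero
  have hir : (S.ω ^ i) ^ S.r = 1 := by
    rw [← pow_mul, mul_comm, pow_mul, S.root.pow_eq_one, one_pow]
  rw [Eig, proj, H.lin _ S.hf, map_sum, smul_comm (S.ω ^ i)]
  congr 1
  rw [Finset.smul_sum]
  obtain ⟨s, hs⟩ := Nat.exists_eq_succ_of_ne_zero S.prime.ne_zero
  have hstep : ∀ j, ρ S.f (((S.ω ^ i)⁻¹) ^ j • ρ (S.f ^ j) v) =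
      S.ω ^ i • (((S.ω ^ i)⁻¹) ^ (j + 1) • ρ (S.f ^ (j + 1)) v) := fun j => by
    rw [H.lin _ S.hf, ← rho_mul, ← pow_succ', smul_smul, pow_succ (S.ω ^ i)⁻¹,
      ← mul_assoc, mul_comm (S.ω ^ i), mul_assoc, mul_inv_cancel₀ hi, mul_one]
  simp only [hstep, ← Finset.smul_sum]
  congr 1
  have hfr : ρ (S.f ^ (s + 1)) v = v := by
    rw [← Nat.succ_eq_add_one, ← hs, S.pow_f]; rfl
  have hwr : ((S.ω ^ i)⁻¹) ^ (s + 1) = 1 := by
    rw [← Nat.succ_eq_add_one, ← hs, inv_pow, hir, inv_one]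
  rw [hs, Finset.sum_range_succ (fun j => ((S.ω ^ i)⁻¹) ^ (j + 1) • ρ (S.f ^ (j + 1)) v),
    Finset.sum_range_succ' (fun j => ((S.ω ^ i)⁻¹) ^ j • ρ (S.f ^ j) v), hfr, hwr, pow_zero,
    pow_zero, rho_one]

theorem sum_proj (H : Heis ρ K N) (v : V) : ∑ i ∈ Finset.range S.r, S.proj i v = v := by
  simp only [proj, ← Finset.smul_sum]
  rw [Finset.sum_comm]
  simp only [← Finset.sum_smul]
  rw [Finset.sum_eq_single_of_mem 0 (Finset.mem_range.2 S.prime.pos)]
  · simp [pow_zero, rho_one, smul_smul, S.r_ne_zero]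
  · intro j hj hj0
    have hx : (S.ω ^ j)⁻¹ ≠ 1 := fun e => by
      rw [inv_eq_one, S.pow_omega_eq_one] at e
      exact absurd (Nat.le_of_dvd (Nat.pos_of_ne_zero hj0) e)
        (not_le.2 (Finset.mem_range.1 hj))
    have h1 := geom_sum_mul ((S.ω ^ j)⁻¹) S.r
    rw [inv_pow, ← pow_mul, mul_comm j, pow_mul, S.root.pow_eq_one, one_pow, inv_one, sub_self,
      mul_eq_zero] at h1
    have h2 : ∀ i, ((S.ω ^ i)⁻¹) ^ j = ((S.ω ^ j)⁻¹) ^ i := fun i => by
      rw [inv_pow, inv_pow, ← pow_mul, ← pow_mul, mul_comm]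
    simp only [h2]
    rw [h1.resolve_right (sub_ne_zero.2 hx), zero_smul]

/-- The component of a vector, pulled back to the fixed space. -/
theorem back_mem (H : Heis ρ K N) {k : ℕ} {v : V} (hv : S.Eig k v) :
    ρ (S.h ^ k)⁻¹ v ∈ S.V0 := by
  obtain ⟨i, -, hs⟩ := S.shift H (inv_mem (pow_mem S.hh k))
  by_cases hv0 : v = 0
  · rw [hv0, map_zero]; exact zero_mem _
  have h1 : S.Eig (k + i) (ρ (S.h ^ k)⁻¹ v) := hs k v hv
  obtain ⟨w, hw0, hw⟩ := S.fixed
  have h2 : S.Eig (k + i) w := by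
    have := hs k _ (S.eig_h_pow H hw k)
    rwa [rho_inv_apply] at this
  have h3 := S.eig_eq H h2 (S.eig_zero_iff.2 hw) hw0
  rw [← eig_zero_iff, Eig, ← h3]
  exact h1

/-- The translates of the fixed space span. -/
theorem ext_h {A B : V → V} (H : Heis ρ K N) (hA : ∀ v w, A (v + w) = A v + A w)
    (hB : ∀ v w, B (v + w) = B v + B w)
    (h : ∀ i < S.r, ∀ w ∈ S.V0, A (ρ (S.h ^ i) w) = B (ρ (S.h ^ i) w)) (v : V) : A v = B v := by
  rw [← S.sum_proj H v]
  have e : ∀ (C : V → V), (∀ v w, C (v + w) = C v + C w) → ∀ s : Finset ℕ,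
      C (∑ i ∈ s, S.proj i v) = ∑ i ∈ s, C (S.proj i v) :=
    fun C hC s => map_sum (AddMonoidHom.mk' C hC) _ s
  rw [e A hA, e B hB]
  refine Finset.sum_congr rfl fun i hi => ?_
  have h1 := h i (Finset.mem_range.1 hi) _ (S.back_mem H (S.eig_proj H i v))
  rwa [rho_apply_inv] at h1

/-- An element of the layer moving a vector of the fixed space inside stabilizes it. -/
theorem mem_G0 [Finite V] (H : Heis ρ K N) {n : G} (hn : n ∈ N) {w : V} (hw : w ∈ S.V0)
    (hw0 : w ≠ 0) (hnw : ρ n w ∈ S.V0) : n ∈ S.G0 := by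
  obtain ⟨i, -, hs⟩ := S.shift H hn
  have h1 := S.eig_eq H (hs 0 w (S.eig_zero_iff.2 hw)) (S.eig_zero_iff.2 hnw)
    (fun h => hw0 (rho_injective ρ n (h.trans (map_zero _).symm)))
  refine mem_blk fun x hx => S.eig_zero_iff.1 ?_
  have h2 := hs 0 x (S.eig_zero_iff.2 hx)
  rwa [Eig, h1] at h2

theorem f_mem_G0 [Finite V] : S.f ∈ S.G0 :=
  mem_blk fun x hx => by rw [show ρ S.f x = x from hx]; exact hx

/-- The fixed space is not the whole space. -/
theorem card_lt [Finite V] : Nat.card S.V0 < Nat.card V := by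
  refine lt_of_le_of_ne (Nat.le_of_dvd Nat.card_pos (AddSubgroup.card_addSubgroup_dvd_card _))
    fun h => S.f_ne ?_
  have htop := AddSubgroup.eq_top_of_card_eq _ h
  exact end_ext fun x => (show x ∈ S.V0 by rw [htop]; trivial)

theorem nontrivial_V0 : Nontrivial S.V0 := by
  obtain ⟨v, hv, hfix⟩ := S.fixed
  exact ⟨⟨⟨v, hfix⟩, 0, fun h => hv (congrArg Subtype.val h)⟩⟩

end Split

end CfsgLib.PairBase
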