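import Cfsg.Agent.Lib.PairBase.Frame

/-!
# The action in the coordinates of a frame over the field with three elements
-/

set_option autoImplicit false
set_option linter.unusedSectionVars false
set_option linter.style.haveILetI false

namespace CfsgLib.PairBase

open CfsgLib.OddBase

universe u

variable {G V : Type u} [Group G] [AddCommGroup V]
variable {K : Type u} [Field K] [Module K V]
variable {ρ : G →* AddMonoid.End V} {N : Subgroup G}

theorem pm_of_card_three [Finite K] (hq : Nat.card K = 3) (t : K) (ht : t ≠ 0) :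
    t = 1 ∨ t = -1 := by
  haveI := Fintype.ofFinite K
  have h := FiniteField.pow_card_sub_one_eq_one t ht
  rw [← Nat.card_eq_fintype_card, hq] at h
  exact sq_eq_one_iff.1 h

theorem linear_of_pm (hpm : ∀ t : K, t ≠ 0 → t = 1 ∨ t = -1) (g : G) (c : K) (v : V) :
    ρ g (c • v) = c • ρ g v := by
  by_cases hc : c = 0
  · rw [hc, zero_smul, zero_smul, map_zero]
  · rcases hpm c hc with rfl | rfl
    · rw [one_smul, one_smul]
    · rw [neg_one_smul, neg_one_smul, map_neg]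

theorem Regular.map {x : V} (hx : Regular ρ N x) {n : G} (hn : n ∈ N) : Regular ρ N (ρ n x) := by
  by_contra h
  have h1 := not_regular_map h (inv_mem hn)
  rw [rho_inv_apply] at h1
  exact h1 hx

theorem Regular.smul (H : Heis ρ K N) {x : V} (hx : Regular ρ N x) {c : K} (hc : c ≠ 0) :
    Regular ρ N (c • x) := fun n hn h =>
  hx n hn (smul_right_injective V hc ((H.lin n hn c x).symm.trans h))

theorem not_regular_smul (H : Heis ρ K N) {x : V} (hx : ¬ Regular ρ N x) (c : K) :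
    ¬ Regular ρ N (c • x) := fun hr => hx fun n hn h =>
  hr n hn (by rw [H.lin n hn, h])

/-- The commutator scalar is not zero. -/
theorem exists_comm_ne [Nontrivial V] (H : Heis ρ K N) {m n : G} (hm : m ∈ N) (hn : n ∈ N) :
    ∃ t : K, t ≠ 0 ∧ ∀ v : V, ρ m (ρ n v) = t • ρ n (ρ m v) := by
  obtain ⟨t, ht⟩ := H.comm m hm n hn
  refine ⟨t, fun h0 => ?_, fun v => by rw [← rho_mul, ← rho_mul]; exact ht v⟩
  obtain ⟨v, hv⟩ := exists_ne (0 : V)
  exact hv (rho_injective ρ n (rho_injective ρ m (by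
    rw [← rho_mul, ht, h0, zero_smul, map_zero, map_zero])))

/-- Over three elements squares are scalars. -/
theorem sq_scal [Finite G] [Nontrivial V] (H : Heis ρ K N)
    (hpm : ∀ t : K, t ≠ 0 → t = 1 ∨ t = -1) {n : G} (hn : n ∈ N) :
    ∃ c : K, c ≠ 0 ∧ ∀ v : V, ρ n (ρ n v) = c • v := by
  obtain ⟨c, hc⟩ := scal_of_central H (mul_mem hn hn) fun m hm v => by
    obtain ⟨t, ht0, ht⟩ := exists_comm_ne H hn hm
    rw [rho_mul, rho_mul, ht, H.lin n hn, ht, smul_smul]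
    rcases hpm t ht0 with rfl | rfl
    · rw [one_mul, one_smul]
    · rw [neg_one_mul, neg_neg, one_smul]
  exact ⟨c, scal_ne_zero hc, fun v => by rw [← rho_mul]; exact hc v⟩

namespace Fr

variable (F : Fr ρ K N)

/-- The vector with given components. -/
def emb (a b c d : V) : V := a + ρ F.h₁ b + ρ F.h₂ c + ρ F.h₁ (ρ F.h₂ d)

/-- The three non-trivial translations. -/
def pos : Fin 3 → G := ![F.h₁, F.h₂, F.h₁ * F.h₂]

theorem pos_mem (j : Fin 3) : F.pos j ∈ N := by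
  fin_cases j
  exacts [F.hh₁, F.hh₂, mul_mem F.hh₁ F.hh₂]

theorem emb_add (a b c d a' b' c' d' : V) :
    F.emb a b c d + F.emb a' b' c' d' = F.emb (a + a') (b + b') (c + c') (d + d') := by
  simp only [emb, map_add]
  abel

theorem emb_first (a : V) : F.emb a 0 0 0 = a := by simp [emb]

theorem emb_pos (j : Fin 3) (p : V) : ρ (F.pos j) p =
    F.emb 0 (if j = 0 then p else 0) (if j = 1 then p else 0) (if j = 2 then p else 0) := by
  fin_cases j <;> simp [emb, pos]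

theorem emb_split (a b c d : V) : F.emb a b c d =
    a + ρ (F.pos 0) b + ρ (F.pos 1) c + ρ (F.pos 2) d := by
  simp [emb, pos]

theorem emb_smul (H : Heis ρ K N) (s : K) (a b c d : V) :
    s • F.emb a b c d = F.emb (s • a) (s • b) (s • c) (s • d) := by
  simp only [emb, smul_add, H.lin _ F.hh₁, H.lin _ F.hh₂]

theorem emb_inj (H : Heis ρ K N) (h2 : (2 : K) ≠ 0) {a b c d a' b' c' d' : V} (ha : a ∈ F.U)
    (hb : b ∈ F.U) (hc : c ∈ F.U) (hd : d ∈ F.U) (ha' : a' ∈ F.U) (hb' : b' ∈ F.U)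
    (hc' : c' ∈ F.U) (hd' : d' ∈ F.U) (h : F.emb a b c d = F.emb a' b' c' d') :
    a = a' ∧ b = b' ∧ c = c' ∧ d = d' :=
  F.unique H h2 ha hb hc hd ha' hb' hc' hd' h

theorem exists_emb (H : Heis ρ K N) (h2 : (2 : K) ≠ 0) (v : V) :
    ∃ a ∈ F.U, ∃ b ∈ F.U, ∃ c ∈ F.U, ∃ d ∈ F.U, v = F.emb a b c d :=
  F.decompose H h2 v

theorem eq_one_of_emb (H : Heis ρ K N) (h2 : (2 : K) ≠ 0) {g : G}
    (h : ∀ a ∈ F.U, ∀ b ∈ F.U, ∀ c ∈ F.U, ∀ d ∈ F.U, ρ g (F.emb a b c d) = F.emb a b c d) :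
    ρ g = 1 := end_ext fun v => by
  obtain ⟨a, ha, b, hb, c, hc, d, hd, rfl⟩ := F.exists_emb H h2 v
  exact h a ha b hb c hc d hd

/-- A translate does not meet the common fixed space. -/
theorem pos_not_mem (H : Heis ρ K N) (h2 : (2 : K) ≠ 0) (j : Fin 3) {p : V} (hp : p ∈ F.U)
    (hp0 : p ≠ 0) : ρ (F.pos j) p ∉ F.U := by
  intro hmem
  have h := F.emb_pos j p
  rw [← F.emb_first (ρ (F.pos j) p)] at h
  have hz : (0 : V) ∈ F.U := zero_mem _
  have hite : ∀ c : Prop, ∀ [Decidable c], (if c then p else 0) ∈ F.U := fun c _ => by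
    split <;> assumption
  obtain ⟨e, -⟩ := F.emb_inj H h2 hmem hz hz hz hz (hite _) (hite _) (hite _) h
  exact hp0 (rho_injective ρ (F.pos j) (e.trans (map_zero _).symm))

/-- The four shapes of an element of the layer in the coordinates. -/
theorem act [Finite G] [Nontrivial V] (H : Heis ρ K N) (hpm : ∀ t : K, t ≠ 0 → t = 1 ∨ t = -1)
    {k : G} (hk : k ∈ N) : ∃ m ∈ N, (∀ u ∈ F.U, ρ m u ∈ F.U) ∧
      ((∃ x y : K, x ≠ 0 ∧ y ≠ 0 ∧ ∀ a b c d : V, ρ k (F.emb a b c d) =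
          F.emb (ρ m a) (x • ρ m b) (y • ρ m c) ((x * y) • ρ m d)) ∨
        (∃ x : Fin 4 → K, (∀ i, x i ≠ 0) ∧ ∀ a b c d : V, ρ k (F.emb a b c d) =
          F.emb (x 0 • ρ m b) (x 1 • ρ m a) (x 2 • ρ m d) (x 3 • ρ m c)) ∨
        (∃ x : Fin 4 → K, (∀ i, x i ≠ 0) ∧ ∀ a b c d : V, ρ k (F.emb a b c d) =
          F.emb (x 0 • ρ m c) (x 1 • ρ m d) (x 2 • ρ m a) (x 3 • ρ m b)) ∨
        (∃ x : Fin 4 → K, (∀ i, x i ≠ 0) ∧ ∀ a b c d : V, ρ k (F.emb a b c d) =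
          F.emb (x 0 • ρ m d) (x 1 • ρ m c) (x 2 • ρ m b) (x 3 • ρ m a))) := by
  obtain ⟨w, hw, hU⟩ := F.translate H hk
  have hwN : w ∈ N := by
    rcases hw with rfl | rfl | rfl | rfl
    exacts [one_mem N, F.hh₁, F.hh₂, mul_mem F.hh₁ F.hh₂]
  obtain ⟨m, hm⟩ : ∃ m, m = w⁻¹ * k := ⟨_, rfl⟩
  have hmN : m ∈ N := hm ▸ mul_mem (inv_mem hwN) hk
  obtain ⟨x, hx0, hx⟩ := exists_comm_ne H hmN F.hh₁
  obtain ⟨y, hy0, hy⟩ := exists_comm_ne H hmN F.hh₂
  obtain ⟨s, hs0, hs⟩ := sq_scal H hpm F.hh₁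
  obtain ⟨t, ht0, ht⟩ := sq_scal H hpm F.hh₂
  have hme : ∀ a b c d, ρ m (F.emb a b c d) =
      F.emb (ρ m a) (x • ρ m b) (y • ρ m c) ((x * y) • ρ m d) := fun a b c d => by
    simp only [emb, map_add, hx, hy, H.lin _ F.hh₁, H.lin _ F.hh₂, smul_smul]
  have he1 : ∀ a b c d, ρ F.h₁ (F.emb a b c d) = F.emb (s • b) a (s • d) c := fun a b c d => by
    simp only [emb, map_add, hs, H.lin _ F.hh₂]
    abel
  have he2 : ∀ a b c d, ρ F.h₂ (F.emb a b c d) = F.emb (t • c) (t • d) a b := fun a b c d => by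
    simp only [emb, map_add, ht, ← F.chh, H.lin _ F.hh₁]
    abel
  have hke : ∀ v, ρ k v = ρ w (ρ m v) := fun v => by
    rw [← rho_mul, hm, mul_inv_cancel_left]
  refine ⟨m, hmN, hm ▸ hU, ?_⟩
  rcases hw with rfl | rfl | rfl | rfl
  · exact Or.inl ⟨x, y, hx0, hy0, fun a b c d => by rw [hke, rho_one, hme]⟩
  · refine Or.inr (Or.inl ⟨![s * x, 1, s * (x * y), y], fun i => ?_, fun a b c d => ?_⟩)
    · fin_cases i <;> simp [hs0, hx0, hy0]
    · rw [hke, hme, he1]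
      simp [smul_smul]
  · refine Or.inr (Or.inr (Or.inl ⟨![t * y, t * (x * y), 1, x], fun i => ?_, fun a b c d => ?_⟩))
    · fin_cases i <;> simp [ht0, hx0, hy0]
    · rw [hke, hme, he2]
      simp [smul_smul]
  · refine Or.inr (Or.inr (Or.inr ⟨![s * (t * (x * y)), t * y, s * x, 1], fun i => ?_,
      fun a b c d => ?_⟩))
    · fin_cases i <;> simp [hs0, ht0, hx0, hy0]
    · rw [hke, hme, rho_mul, he2, he1]
      simp [smul_smul]

/-- An element fixing a vector of the fixed space permutes its three translates. -/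
theorem perm [Finite V] [Nontrivial V] (H : Heis ρ K N) (h2 : (2 : K) ≠ 0)
    (hnf : ∀ k ∈ N, ∀ u ∈ F.U, u ≠ 0 → ρ k u = u → ∀ v ∈ F.U, ρ k v = v)
    {e : V} (he : e ∈ F.U) (he0 : e ≠ 0) {g : G} (hge : ρ g e = e) :
    (∀ u ∈ F.U, ρ g u ∈ F.U) ∧ ∃ π : Fin 3 → Fin 3, ∃ m : Fin 3 → G, (∀ i, m i ∈ N) ∧
      (∀ i, ∀ u ∈ F.U, ρ (m i) u ∈ F.U) ∧
        ∀ i, ∀ u ∈ F.U, ρ g (ρ (F.pos i) u) = ρ (F.pos (π i)) (ρ (m i) (ρ g u)) := by
  haveI := H.normal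
  have he' := F.mem_U.1 he
  have hginv : ρ g⁻¹ e = e := by
    conv_lhs => rw [← hge]
    exact rho_inv_apply ρ g e
  have hfix : ∀ f ∈ N, ρ f e = e → ∀ u ∈ F.U, ρ f (ρ g u) = ρ g u := by
    intro f hf hfe u hu
    have h1 := hnf (g⁻¹ * f * g) (by simpa using H.normal.conj_mem f hf g⁻¹) e he he0
      (by rw [rho_mul, rho_mul, hge, hfe, hginv]) u hu
    rw [rho_mul, rho_mul] at h1
    calc ρ f (ρ g u) = ρ g (ρ g⁻¹ (ρ f (ρ g u))) := (rho_apply_inv ρ g _).symm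
      _ = ρ g u := by rw [h1]
  have hgU : ∀ u ∈ F.U, ρ g u ∈ F.U := fun u hu =>
    F.mem_U.2 ⟨hfix _ F.hf₁ he'.1 u hu, hfix _ F.hf₂ he'.2 u hu⟩
  refine ⟨hgU, ?_⟩
  have key : ∀ i, ∃ j : Fin 3, ∃ m ∈ N, (∀ u ∈ F.U, ρ m u ∈ F.U) ∧
      ∀ u ∈ F.U, ρ g (ρ (F.pos i) u) = ρ (F.pos j) (ρ m (ρ g u)) := by
    intro i
    have hkN : g * F.pos i * g⁻¹ ∈ N := H.normal.conj_mem _ (F.pos_mem i) g
    obtain ⟨w, hw, hU⟩ := F.translate H hkN
    have hk : ∀ u, ρ g (ρ (F.pos i) u) = ρ (g * F.pos i * g⁻¹) (ρ g u) := fun u => by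
      rw [rho_mul, rho_mul, rho_inv_apply]
    rcases hw with rfl | hw
    · exfalso
      have h1 := hU _ (hgU e he)
      rw [inv_one, one_mul, ← hk] at h1
      exact F.pos_not_mem H h2 i he he0 (((mem_blk hgU) (ρ (F.pos i) e)).1 h1)
    obtain ⟨j, rfl⟩ : ∃ j, F.pos j = w := by
      rcases hw with rfl | rfl | rfl
      exacts [⟨0, rfl⟩, ⟨1, rfl⟩, ⟨2, rfl⟩]
    refine ⟨j, _, mul_mem (inv_mem (F.pos_mem j)) hkN, hU, fun u hu => ?_⟩
    rw [hk, rho_mul ρ (F.pos j)⁻¹, rho_apply_inv]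
  choose π m hmN hmU hm using key
  exact ⟨π, m, hmN, hmU, hm⟩

/-- The image of a vector in coordinates. -/
theorem perm_emb {g : G} {π : Fin 3 → Fin 3} {m : Fin 3 → G}
    (hm : ∀ i, ∀ u ∈ F.U, ρ g (ρ (F.pos i) u) = ρ (F.pos (π i)) (ρ (m i) (ρ g u)))
    {a b c d : V} (hb : b ∈ F.U) (hc : c ∈ F.U) (hd : d ∈ F.U) :
    ρ g (F.emb a b c d) = F.emb (ρ g a)
      ((if π 0 = 0 then ρ (m 0) (ρ g b) else 0) + (if π 1 = 0 then ρ (m 1) (ρ g c) else 0) +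
        (if π 2 = 0 then ρ (m 2) (ρ g d) else 0))
      ((if π 0 = 1 then ρ (m 0) (ρ g b) else 0) + (if π 1 = 1 then ρ (m 1) (ρ g c) else 0) +
        (if π 2 = 1 then ρ (m 2) (ρ g d) else 0))
      ((if π 0 = 2 then ρ (m 0) (ρ g b) else 0) + (if π 1 = 2 then ρ (m 1) (ρ g c) else 0) +
        (if π 2 = 2 then ρ (m 2) (ρ g d) else 0)) := by
  rw [F.emb_split a b c d, map_add, map_add, map_add, hm 0 b hb, hm 1 c hc, hm 2 d hd,
    F.emb_pos, F.emb_pos, F.emb_pos]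
  conv_lhs => rw [← F.emb_first (ρ g a)]
  simp only [emb_add, add_zero, zero_add]

/-- A vector with one vanishing component is regular. -/
theorem regular_three [Finite G] [Nontrivial V] (H : Heis ρ K N) (h2 : (2 : K) ≠ 0)
    (hpm : ∀ t : K, t ≠ 0 → t = 1 ∨ t = -1)
    (hnf : ∀ k ∈ N, ∀ u ∈ F.U, u ≠ 0 → ρ k u = u → ∀ v ∈ F.U, ρ k v = v)
    {e a b : V} (he : e ∈ F.U) (ha : a ∈ F.U) (hb : b ∈ F.U) (he0 : e ≠ 0) (ha0 : a ≠ 0)
    (hb0 : b ≠ 0) : Regular ρ N (F.emb e a b 0) := by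
  intro k hk hkv
  obtain ⟨m, hmN, hmU, hform⟩ := F.act H hpm hk
  have hsm : ∀ (x : K) {u : V}, u ∈ F.U → x • ρ m u ∈ F.U := fun x u hu =>
    F.U_smul H (hmU u hu) x
  have hne : ∀ {u : V}, u ≠ 0 → ρ m u ≠ 0 := fun hu e' =>
    hu (rho_injective ρ m (e'.trans (map_zero _).symm))
  rcases hform with ⟨x, y, -, -, hf⟩ | ⟨x, hx, hf⟩ | ⟨x, hx, hf⟩ | ⟨x, hx, hf⟩ <;>
    rw [hf] at hkv
  · obtain ⟨q0, q1, q2, -⟩ := F.emb_inj H h2 (hmU e he) (hsm x ha) (hsm y hb)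
      (hsm _ (zero_mem _)) he ha hb (zero_mem _) hkv
    have hid := hnf m hmN e he he0 q0
    rw [hid a ha] at q1
    rw [hid b hb] at q2
    have hx1 : x = 1 := smul_left_injective K ha0 (q1.trans (one_smul K a).symm)
    have hy1 : y = 1 := smul_left_injective K hb0 (q2.trans (one_smul K b).symm)
    refine F.eq_one_of_emb H h2 fun a' ha' b' hb' c' hc' d' hd' => ?_
    rw [hf, hx1, hy1, hid a' ha', hid b' hb', hid c' hc', hid d' hd']
    simp
  · obtain ⟨-, -, -, q3⟩ := F.emb_inj H h2 (hsm _ ha) (hsm _ he)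
      (hsm _ (zero_mem _)) (hsm _ hb) he ha hb (zero_mem _) hkv
    exact absurd q3 (smul_ne_zero (hx 3) (hne hb0))
  · obtain ⟨-, -, -, q3⟩ := F.emb_inj H h2 (hsm _ hb) (hsm _ (zero_mem _))
      (hsm _ he) (hsm _ ha) he ha hb (zero_mem _) hkv
    exact absurd q3 (smul_ne_zero (hx 3) (hne ha0))
  · obtain ⟨q0, -⟩ := F.emb_inj H h2 (hsm _ (zero_mem _)) (hsm _ hb)
      (hsm _ ha) (hsm _ he) he ha hb (zero_mem _) hkv
    rw [map_zero, smul_zero] at q0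
    exact absurd q0.symm he0

theorem not_regular_of_mem [Nontrivial V] (H : Heis ρ K N) (h2 : (2 : K) ≠ 0) {e : V}
    (he : e ∈ F.U) (he0 : e ≠ 0) : ¬ Regular ρ N e := by
  intro hr
  have h1 := hr F.f₁ F.hf₁ (F.mem_U.1 he).1
  have h3 := F.c11 e
  rw [h1] at h3
  change ρ F.h₁ e = -ρ F.h₁ e at h3
  rw [eq_neg_iff_add_eq_zero, ← two_smul K, smul_eq_zero] at h3
  exact he0 (rho_injective ρ F.h₁ ((h3.resolve_left h2).trans (map_zero _).symm))

end Fr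

end CfsgLib.PairBase
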